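import Mathlib
import Cfsg.Agent.Inv.Sieve

/-! The orders of the simple groups of composite order up to `1092`. -/

set_option autoImplicit false
set_option maxRecDepth 100000

namespace Cfsg.Agent.Inv.Sieve

theorem small_2 : killAll [60, 168, 360, 504, 660, 1092] 2
  [(2,2),(3,3),(2,2),(5,5),(2,3),(7,7),(2,2),(3,3),(2,5),(11,11),(2,3),(13,13),(2,7),(3,5),(2,2),
   (17,17),(2,3),(19,19),(2,5),(3,7),(2,11),(23,23),(2,3),(5,5),(2,13),(3,3),(2,7),(29,29),(5,0),
   (31,31),(2,2),(3,11),(2,17),(5,7),(2,3),(37,37),(2,19),(3,13),(2,5),(41,41),(7,0),(43,43),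
   (2,11),(3,5),(2,23),(47,47),(2,3),(7,7),(2,5),(3,17),(2,13),(53,53),(2,3),(5,11),(2,7),(3,19),
   (2,29),(59,59),(0,0),(61,61),(2,31),(3,7),(2,2),(5,13),(11,0),(67,67),(2,17),(3,23),(7,0),
   (71,71),(2,3),(73,73),(2,37),(3,5),(2,19),(7,11),(13,0),(79,79),(2,5),(3,3),(2,41),(83,83),
   (7,0),(5,17),(2,43),(3,29),(2,11),(89,89),(5,0),(7,13),(2,23),(3,31),(2,47),(5,19),(2,3),
   (97,97),(2,7),(3,11),(2,5),(101,101),(17,0),(103,103),(2,13),(7,0),(2,53),(107,107),(2,3),
   (109,109),(11,0),(3,37),(2,7),(113,113),(19,0),(5,23),(2,29),(3,13),(2,59),(7,17),(2,0),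
   (11,11),(2,61),(3,41),(2,31),(5,5),(7,0),(127,127),(2,2),(3,43),(13,0),(131,131),(11,0),(7,19),
   (2,67),(3,5),(2,17),(137,137),(23,0),(139,139),(7,0),(3,47),(2,71),(11,13),(2,3),(5,29),(2,73),
   (3,7),(2,37),(149,149),(5,0),(151,151),(2,19),(3,17),(11,0),(5,31),(13,0),(157,157),(2,79),
   (3,53),(2,5),(7,23),(2,3),(163,163),(2,41),(11,0),(2,83),(167,167),(0,0),(13,13),(17,0),(3,19),
   (2,43),(173,173),(29,0),(5,7),(2,11),(3,59),(2,89),(179,179),(5,0),(181,181),(13,0),(3,61),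
   (2,23),(5,37),(31,0),(11,17),(2,47),(3,7),(19,0),(191,191),(2,3),(193,193),(2,97),(13,0),(2,7),
   (197,197),(11,0),(199,199),(2,5),(3,67)] = true := by
  decide +kernel

theorem small_202 : killAll [60, 168, 360, 504, 660, 1092] 202
  [(2,101),(7,29),(17,0),(5,41),(2,103),(3,23),(2,13),(11,19),(3,0),(211,211),(2,53),(3,71),
   (2,107),(5,43),(2,3),(7,31),(2,109),(3,73),(11,0),(13,17),(37,0),(223,223),(2,7),(3,5),(2,113),
   (227,227),(19,0),(229,229),(23,0),(11,0),(2,29),(233,233),(13,0),(5,47),(2,59),(3,79),(17,0),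
   (239,239),(5,0),(241,241),(2,11),(3,3),(2,61),(5,7),(41,0),(13,19),(2,31),(3,83),(2,5),
   (251,251),(7,0),(11,23),(2,127),(17,0),(2,2),(257,257),(43,0),(7,37),(13,0),(3,29),(2,131),
   (263,263),(11,0),(5,53),(19,0),(3,89),(2,67),(269,269),(5,0),(271,271),(2,17),(13,0),(2,137),
   (5,11),(23,0),(277,277),(2,139),(3,31),(7,0),(281,281),(47,0),(283,283),(2,71),(19,0),(13,0),
   (7,41),(2,3),(17,17),(29,0),(3,97),(2,73),(293,293),(7,0),(5,59),(2,37),(3,11),(2,149),(13,23),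
   (5,0),(7,43),(2,151),(3,101),(2,19),(5,61),(17,0),(307,307),(11,0),(3,103),(31,0),(311,311),
   (13,0),(313,313),(2,157),(5,0),(2,79),(317,317),(53,0),(11,29),(2,5),(3,107),(23,0),(17,19),
   (2,3),(5,13),(2,163),(3,109),(2,41),(7,47),(11,0),(331,331),(2,83),(3,37),(2,167),(5,67),(7,0),
   (337,337),(2,13),(3,113),(17,0),(11,31),(19,0),(7,7),(2,43),(23,0),(2,173),(347,347),(29,0),
   (349,349),(7,0),(3,13),(2,11),(353,353),(59,0),(5,71),(2,89),(17,0),(2,179),(359,359),(0,0),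
   (19,19),(2,181),(3,11),(7,0),(5,73),(61,0),(367,367),(2,23),(3,41),(37,0),(7,53),(31,0),
   (373,373),(17,0),(3,5),(2,47),(13,29),(7,0),(379,379),(19,0),(3,127),(2,191),(383,383),(2,3),
   (11,0),(2,193),(3,43),(2,97),(389,389),(13,0),(17,23),(2,7),(3,131),(2,197),(5,79),(11,0),
   (397,397),(2,199),(19,0),(2,5),(401,401)] = true := by
  decide +kernel

theorem small_402 : killAll [60, 168, 360, 504, 660, 1092] 402
  [(67,0),(13,31),(2,101),(3,5),(29,0),(11,37),(17,0),(409,409),(41,0),(3,137),(2,103),(7,59),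
   (23,0),(5,83),(2,13),(3,139),(19,0),(419,419),(7,0),(421,421),(2,211),(3,47),(2,53),(5,17),
   (71,0),(7,61),(2,107),(13,0),(43,0),(431,431),(2,3),(433,433),(31,0),(29,0),(2,109),(19,23),
   (73,0),(439,439),(11,0),(3,7),(17,0),(443,443),(37,0),(5,89),(2,223),(3,149),(2,7),(449,449),
   (5,0),(11,41),(2,113),(3,151),(2,227),(13,0),(19,0),(457,457),(2,229),(3,17),(23,0),(461,461),
   (11,0),(463,463),(2,29),(31,0),(2,233),(467,467),(13,0),(7,67),(47,0),(3,157),(2,59),(11,43),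
   (79,0),(5,19),(17,0),(3,53),(2,239),(479,479),(2,0),(13,37),(2,241),(23,0),(2,11),(5,97),(2,3),
   (487,487),(2,61),(3,163),(7,0),(491,491),(41,0),(17,29),(19,0),(11,0),(2,31),(7,71),(83,0),
   (499,499),(2,5),(3,167),(2,251),(503,503),(0,0),(5,101),(23,0),(3,13),(2,127),(509,509),(17,0),
   (7,73),(2,2),(3,19),(2,257),(5,103),(43,0),(11,47),(37,0),(3,173),(13,0),(521,521),(29,0),
   (523,523),(2,131),(7,0),(2,263),(17,31),(11,0),(23,23),(53,0),(3,59),(19,0),(13,41),(89,0),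
   (5,107),(2,67),(3,179),(2,269),(7,11),(5,0),(541,541),(2,271),(3,181),(2,17),(5,109),(7,0),
   (547,547),(2,137),(3,61),(11,0),(19,29),(23,0),(7,79),(2,277),(37,0),(2,139),(557,557),(31,0),
   (13,43),(7,0),(17,0),(2,281),(563,563),(47,0),(5,113),(2,283),(3,7),(2,71),(569,569),(19,0),
   (571,571),(13,0),(3,191),(41,0),(5,23),(2,3),(577,577),(2,17),(3,193),(29,0),(7,83),(97,0),
   (11,53),(2,73),(13,0),(2,293),(587,587),(7,0),(19,31),(59,0),(3,197),(2,37),(593,593),(11,0),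
   (17,0),(2,149),(3,199),(23,0),(599,599),(5,0),(601,601)] = true := by
  decide +kernel

theorem small_602 : killAll [60, 168, 360, 504, 660, 1092] 602
  [(43,0),(3,67),(2,151),(5,11),(101,0),(607,607),(2,19),(29,0),(61,0),(13,47),(17,0),(613,613),
   (2,307),(41,0),(11,0),(617,617),(103,0),(619,619),(31,0),(3,23),(2,311),(7,89),(13,0),(5,5),
   (2,313),(19,0),(2,157),(17,37),(5,0),(631,631),(2,79),(3,211),(2,317),(5,127),(53,0),(7,13),
   (29,0),(3,71),(2,5),(641,641),(107,0),(643,643),(23,0),(43,0),(19,0),(647,647),(2,3),(11,59),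
   (13,0),(31,0),(2,163),(653,653),(109,0),(5,131),(2,41),(3,73),(47,0),(659,659),(0,0),(661,661),
   (2,331),(17,0),(2,83),(19,0),(37,0),(23,29),(2,167),(3,223),(67,0),(11,61),(7,0),(673,673),
   (2,337),(3,5),(2,13),(677,677),(113,0),(7,97),(17,0),(3,227),(31,0),(683,683),(19,0),(5,137),
   (2,7),(3,229),(2,43),(13,53),(23,0),(691,691),(2,173),(11,0),(2,347),(5,139),(29,0),(17,41),
   (2,349),(3,233),(5,0),(701,701),(3,0),(19,37),(2,11),(47,0),(2,353),(7,101),(59,0),(709,709),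
   (71,0),(3,79),(2,89),(23,31),(17,0),(13,0),(2,179),(3,239),(2,359),(719,719),(5,0),(7,103),
   (2,19),(3,241),(2,181),(5,29),(11,0),(727,727),(7,0),(3,3),(73,0),(17,43),(61,0),(733,733),
   (2,367),(7,0),(2,23),(11,67),(41,0),(739,739),(37,0),(19,0),(53,0),(743,743),(31,0),(5,149),
   (2,373),(3,83),(17,0),(7,107),(5,0),(751,751),(2,47),(3,251),(29,0),(5,151),(7,0),(757,757),
   (2,379),(23,0),(19,0),(761,761),(127,0),(7,109),(2,191),(17,0),(2,383),(13,59),(2,3),(769,769),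
   (11,0),(3,257),(2,193),(773,773),(43,0),(5,31),(2,97),(37,0),(2,389),(19,41),(13,0),(11,71),
   (23,0),(3,29),(2,7),(5,157),(131,0),(787,787),(2,197),(3,263),(79,0),(7,113),(11,0),(13,61),
   (2,397),(53,0),(2,199),(797,797),(19,0),(17,47),(2,5),(3,89)] = true := by
  decide +kernel

theorem small_802 : killAll [60, 168, 360, 504, 660, 1092] 802
  [(2,401),(11,73),(67,0),(23,0),(31,0),(3,269),(2,101),(809,809),(2,0),(811,811),(29,0),(3,271),
   (37,0),(5,163),(17,0),(19,43),(2,409),(13,0),(41,0),(821,821),(137,0),(823,823),(2,103),(11,0),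
   (59,0),(827,827),(23,0),(829,829),(83,0),(3,277),(2,13),(7,17),(139,0),(5,167),(19,0),(3,31),
   (2,419),(839,839),(7,0),(29,29),(2,421),(3,281),(2,211),(5,13),(47,0),(7,11),(2,53),(3,283),
   (17,0),(23,37),(71,0),(853,853),(61,0),(19,0),(2,107),(857,857),(13,0),(859,859),(43,0),(41,0),
   (2,431),(863,863),(2,3),(5,173),(2,433),(3,17),(31,0),(11,79),(29,0),(13,67),(2,109),(3,97),
   (23,0),(5,7),(73,0),(877,877),(2,439),(3,293),(11,0),(881,881),(7,0),(883,883),(17,0),(59,0),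
   (2,443),(887,887),(37,0),(7,127),(89,0),(3,11),(2,223),(19,47),(149,0),(5,179),(2,7),(23,0),
   (2,449),(29,31),(5,0),(17,53),(41,0),(43,0),(2,113),(5,181),(151,0),(907,907),(2,227),(3,101),
   (13,0),(911,911),(19,0),(11,83),(2,457),(61,0),(2,229),(7,131),(17,0),(919,919),(23,0),(3,307),
   (2,461),(13,71),(11,0),(5,37),(2,463),(3,103),(2,29),(929,929),(31,0),(7,19),(2,233),(3,311),
   (2,467),(17,0),(13,0),(937,937),(67,0),(3,313),(47,0),(941,941),(157,0),(23,41),(2,59),(7,0),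
   (43,0),(947,947),(79,0),(13,73),(19,0),(3,317),(17,0),(953,953),(53,0),(5,191),(2,239),(29,0),
   (2,479),(7,137),(2,0),(31,31),(37,0),(3,107),(2,241),(5,193),(23,0),(967,967),(2,11),(19,0),
   (97,0),(971,971),(2,3),(7,139),(2,487),(13,0),(2,61),(977,977),(163,0),(11,89),(7,0),(3,109),
   (2,491),(983,983),(41,0),(5,197),(29,0),(47,0),(19,0),(23,43),(5,0),(991,991),(2,31),(3,331),
   (71,0),(5,199),(83,0),(997,997),(2,499),(3,37),(2,5),(13,0)] = true := by
  decide +kernel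

theorem small_1002 : killAll [60, 168, 360, 504, 660, 1092] 1002
  [(167,0),(17,59),(2,251),(67,0),(2,503),(19,53),(7,0),(1009,1009),(101,0),(3,337),(23,0),
   (1013,1013),(13,0),(29,0),(2,127),(3,113),(2,509),(1019,1019),(17,0),(1021,1021),(73,0),(31,0),
   (2,2),(5,41),(19,0),(13,79),(2,257),(3,7),(103,0),(1031,1031),(43,0),(1033,1033),(47,0),(23,0),
   (37,0),(17,61),(173,0),(1039,1039),(13,0),(3,347),(2,521),(7,149),(29,0),(19,0),(2,523),
   (3,349),(2,131),(1049,1049),(5,0),(1051,1051),(2,263),(3,13),(31,0),(5,211),(11,0),(7,151),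
   (2,23),(3,353),(53,0),(1061,1061),(59,0),(1063,1063),(19,0),(71,0),(41,0),(11,97),(89,0),
   (1069,1069),(107,0),(17,0),(2,67),(29,37),(179,0),(5,43),(2,269),(3,359),(11,0),(13,83),(5,0),
   (23,47),(2,541),(3,19),(2,271),(31,0),(181,0),(1087,1087),(2,17),(3,11),(109,0),(1091,1091),
   (0,0)] = true := by
  decide +kernel

theorem card_mem_small {G : Type*} [Group G] [Finite G] [IsSimpleGroup G]
    (hG : ¬ (Nat.card G).Prime) (h : Nat.card G ≤ 1092) : Nat.card G ∈ [60, 168, 360, 504, 660, 1092] := by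
  have h0 : 2 ≤ Nat.card G := Finite.one_lt_card
  by_cases h2 : Nat.card G ≤ 201
  · exact mem_of_killAll hG _ _ small_2 (by omega) (by simp only [List.length_cons, List.length_nil]; omega)
  by_cases h202 : Nat.card G ≤ 401
  · exact mem_of_killAll hG _ _ small_202 (by omega) (by simp only [List.length_cons, List.length_nil]; omega)
  by_cases h402 : Nat.card G ≤ 601
  · exact mem_of_killAll hG _ _ small_402 (by omega) (by simp only [List.length_cons, List.length_nil]; omega)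
  by_cases h602 : Nat.card G ≤ 801
  · exact mem_of_killAll hG _ _ small_602 (by omega) (by simp only [List.length_cons, List.length_nil]; omega)
  by_cases h802 : Nat.card G ≤ 1001
  · exact mem_of_killAll hG _ _ small_802 (by omega) (by simp only [List.length_cons, List.length_nil]; omega)
  exact mem_of_killAll hG _ _ small_1002 (by omega) (by simp only [List.length_cons, List.length_nil]; omega)

end Cfsg.Agent.Inv.Sieve
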