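import Mathlib
import Cfsg.Agent.Inv.Sieve

/-! The possible orders of simple groups of composite order between `3641` and `6232`. -/

set_option autoImplicit false
set_option maxRecDepth 100000

namespace Cfsg.Agent.Inv.Sieve

theorem mid_3641 : killAll [4080, 5040, 5400, 5616, 6048, 6072] 3641
  [(11,331),(607,0),(3643,3643),(2,911),(3,5),(2,1823),(7,521),(19,0),(41,89),(73,0),(3,1217),
   (83,0),(13,281),(29,0),(43,0),(2,457),(53,0),(59,0),(3659,3659),(61,0),(7,523),(2,1831),(37,0),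
   (2,229),(5,733),(47,0),(19,193),(131,0),(3,1223),(367,0),(3671,3671),(17,0),(3673,3673),
   (167,0),(7,0),(2,919),(3677,3677),(613,0),(13,283),(23,0),(3,409),(263,0),(29,127),(307,0),
   (67,0),(97,0),(3,1229),(2,461),(31,0),(41,0),(3691,3691),(71,0),(3,1231),(2,1847),(5,739),
   (11,0),(3697,3697),(2,43),(3,137),(37,0),(3701,3701),(617,0),(7,23),(2,463),(19,0),(109,0),
   (11,337),(103,0),(3709,3709),(53,0),(3,1237),(2,29),(47,79),(619,0),(5,743),(2,929),(59,0),
   (13,0),(3719,3719),(31,0),(61,61),(2,1861),(73,0),(19,0),(5,149),(23,0),(3727,3727),(2,233),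
   (113,0),(373,0),(41,0),(311,0),(3733,3733),(2,1867),(83,0),(2,467),(37,101),(89,0),(3739,3739),
   (17,0),(43,0),(2,1871),(19,197),(13,0),(107,0),(2,1873),(3,1249),(2,937),(23,163),(5,0),
   (11,31),(67,0),(3,139),(2,1877),(5,751),(313,0),(13,17),(2,1879),(179,0),(47,0),(3761,3761),
   (19,0),(53,71),(2,941),(251,0),(269,0),(3767,3767),(157,0),(3769,3769),(29,0),(3,419),(41,0),
   (7,11),(37,0),(5,151),(2,59),(3,1259),(2,1889),(3779,3779),(7,0),(19,199),(61,0),(97,0),(11,0),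
   (5,757),(631,0),(7,541),(2,947),(3,421),(379,0),(17,223),(79,0),(3793,3793),(271,0),(23,0),
   (73,0),(3797,3797),(211,0),(29,131),(19,0),(181,0),(2,1901),(3803,3803),(317,0),(5,761),
   (173,0),(3,47),(17,0),(13,293),(127,0),(37,103),(2,953),(41,0),(2,1907),(109,0),(53,0),
   (11,347),(83,0),(67,0),(191,0),(3821,3821),(13,0),(3823,3823),(2,239),(17,0),(2,1913),(43,89),
   (29,0),(7,547),(383,0),(3,1277),(2,479),(3833,3833),(71,0),(59,0),(137,0),(3,1279),(101,0),
   (11,349),(2,0)] = true := by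
  decide +kernel

theorem mid_3841 : killAll [4080, 5040, 5400, 5616, 6048, 6072] 3841
  [(23,167),(113,0),(61,0),(2,31),(5,769),(641,0),(3847,3847),(37,0),(3,1283),(11,0),(3851,3851),
   (107,0),(3853,3853),(47,0),(257,0),(2,241),(29,0),(643,0),(17,227),(193,0),(13,0),(2,1931),
   (3863,3863),(23,0),(5,773),(2,1933),(3,1289),(2,967),(53,73),(43,0),(7,79),(2,11),(3,1291),
   (149,0),(5,31),(19,0),(3877,3877),(277,0),(3,431),(97,0),(3881,3881),(647,0),(11,353),(2,971),
   (37,0),(67,0),(13,23),(2,3),(3889,3889),(389,0),(3,1297),(139,0),(17,229),(59,0),(41,0),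
   (2,487),(3,433),(2,1949),(7,557),(13,0),(47,83),(2,1951),(3,1301),(2,61),(71,0),(7,0),
   (3907,3907),(2,977),(3,1303),(23,0),(3911,3911),(163,0),(43,0),(103,0),(29,0),(89,0),
   (3917,3917),(653,0),(3919,3919),(7,0),(3,1307),(53,0),(3923,3923),(109,0),(5,157),(151,0),
   (17,0),(2,491),(3929,3929),(131,0),(3931,3931),(2,983),(23,0),(281,0),(5,787),(41,0),(31,127),
   (179,0),(101,0),(197,0),(7,563),(73,0),(3943,3943),(29,0),(263,0),(2,1973),(3947,3947),(47,0),
   (11,359),(79,0),(3,439),(19,0),(59,67),(659,0),(113,0),(43,0),(3,1319),(2,1979),(37,107),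
   (11,0),(17,233),(283,0),(3,1321),(2,991),(61,0),(661,0),(3967,3967),(2,31),(3,7),(397,0),
   (11,19),(331,0),(29,137),(2,1987),(53,0),(71,0),(41,97),(17,0),(23,173),(199,0),(3,1327),
   (181,0),(7,569),(83,0),(5,797),(2,1993),(3,443),(2,997),(3989,3989),(19,0),(13,307),(2,499),
   (3,11),(2,1997),(47,0),(37,0),(7,571),(2,1999),(43,0),(2,5),(4001,4001),(29,0),(4003,4003),
   (13,0),(89,0),(2,2003),(4007,4007),(167,0),(19,211),(401,0),(191,0),(59,0),(4013,4013),(223,0),
   (73,0),(2,251),(103,0),(41,0),(4019,4019),(67,0),(4021,4021),(2,2011),(3,149),(2,503),(23,0),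
   (61,0),(4027,4027),(53,0),(79,0),(31,0),(29,139),(7,0),(37,109),(2,2017),(269,0),(2,1009),
   (11,367),(673,0),(7,577),(101,0)] = true := by
  decide +kernel

theorem mid_4041 : killAll [4080, 5040, 5400, 5616, 6048, 6072] 4041
  [(3,449),(47,0),(13,311),(337,0),(5,809),(17,0),(71,0),(23,0),(4049,4049),(2,0),(4051,4051),
   (2,1013),(193,0),(2,2027),(5,811),(13,0),(4057,4057),(2,2029),(41,0),(29,0),(31,131),(677,0),
   (17,239),(2,127),(271,0),(107,0),(7,83),(113,0),(13,313),(37,0),(59,0),(2,509),(4073,4073),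
   (97,0),(5,163),(2,1019),(3,151),(2,2039),(4079,4079),(0,0),(53,0),(157,0),(3,1361),(2,1021),
   (43,0),(227,0),(61,67),(73,0),(47,0),(409,0),(4091,4091),(31,0),(4093,4093),(89,0),(7,0),(2,2),
   (17,241),(683,0),(4099,4099),(41,0),(3,1367),(293,0),(11,373),(19,0),(5,821),(2,2053),(3,37),
   (79,0),(7,587),(137,0),(4111,4111),(2,257),(3,457),(17,0),(5,823),(7,0),(23,179),(71,0),
   (3,1373),(103,0),(13,317),(229,0),(31,0),(2,1031),(11,0),(2,2063),(4127,4127),(43,0),
   (4129,4129),(59,0),(3,17),(2,1033),(4133,4133),(53,0),(5,827),(47,0),(197,0),(2,2069),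
   (4139,4139),(23,0),(41,101),(109,0),(3,1381),(37,0),(5,829),(691,0),(29,0),(61,0),(3,461),
   (83,0),(7,593),(173,0),(4153,4153),(67,0),(277,0),(2,1039),(4157,4157),(11,0),(4159,4159),
   (13,0),(73,0),(2,2081),(23,181),(347,0),(17,0),(2,2083),(3,463),(2,521),(11,379),(139,0),
   (43,97),(149,0),(107,0),(2,2087),(5,167),(29,0),(4177,4177),(2,2089),(199,0),(19,0),(37,113),
   (41,0),(47,89),(2,523),(31,0),(23,0),(53,79),(349,0),(59,71),(419,0),(127,0),(2,131),(7,599),
   (233,0),(5,839),(2,1049),(3,1399),(2,2099),(19,0),(7,0),(4201,4201),(191,0),(3,467),(2,1051),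
   (5,29),(701,0),(7,601),(2,263),(61,0),(421,0),(4211,4211),(13,0),(11,383),(43,0),(281,0),
   (31,0),(4217,4217),(19,0),(4219,4219),(211,0),(67,0),(2,2111),(41,103),(11,0),(5,13),(2,2113),
   (3,1409),(151,0),(4229,4229),(47,0),(4231,4231),(2,23),(83,0),(73,0),(11,0),(353,0),(19,223),
   (163,0),(3,157),(53,0)] = true := by
  decide +kernel

theorem mid_4241 : killAll [4080, 5040, 5400, 5616, 6048, 6072] 4241
  [(4241,4241),(101,0),(4243,4243),(2,1061),(283,0),(193,0),(31,137),(59,0),(7,607),(17,0),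
   (109,0),(2,1063),(4253,4253),(709,0),(37,0),(19,0),(43,0),(2,2129),(4259,4259),(71,0),
   (4261,4261),(2,2131),(29,0),(41,0),(5,853),(79,0),(17,251),(97,0),(3,1423),(61,0),(4271,4271),
   (89,0),(4273,4273),(2,2137),(19,0),(2,1069),(47,0),(31,0),(11,389),(107,0),(3,1427),(2,2141),
   (4283,4283),(17,0),(5,857),(2,2143),(3,1429),(2,67),(4289,4289),(13,0),(7,613),(37,0),(3,53),
   (113,0),(5,859),(179,0),(4297,4297),(307,0),(3,1433),(43,0),(23,0),(239,0),(13,331),(2,269),
   (41,0),(2,2153),(59,73),(359,0),(31,139),(431,0),(3,479),(11,0),(19,227),(719,0),(5,863),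
   (83,0),(3,1439),(127,0),(7,617),(5,0),(29,149),(2,2161),(131,0),(47,0),(5,173),(103,0),
   (4327,4327),(2,541),(37,0),(433,0),(61,71),(19,0),(7,619),(197,0),(17,0),(2,271),(4337,4337),
   (241,0),(4339,4339),(31,0),(3,1447),(167,0),(43,101),(181,0),(79,0),(53,0),(23,0),(2,1087),
   (4349,4349),(29,0),(19,229),(2,17),(3,1451),(311,0),(67,0),(11,0),(4357,4357),(2,2179),
   (3,1453),(109,0),(7,89),(727,0),(4363,4363),(2,1091),(97,0),(59,0),(11,397),(13,0),(17,257),
   (23,0),(47,0),(2,1093),(4373,4373),(2,3),(5,7),(2,547),(3,1459),(199,0),(29,151),(73,0),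
   (13,337),(313,0),(3,487),(2,137),(5,877),(43,0),(41,107),(2,1097),(11,0),(439,0),(4391,4391),
   (61,0),(23,191),(2,13),(293,0),(157,0),(4397,4397),(733,0),(53,83),(11,0),(3,163),(71,0),
   (37,0),(367,0),(5,881),(2,2203),(113,0),(29,0),(4409,4409),(7,0),(11,401),(2,1103),(3,1471),
   (2,2207),(5,883),(23,0),(7,631),(2,47),(3,491),(17,0),(4421,4421),(67,0),(4423,4423),(79,0),
   (59,0),(2,2213),(19,233),(41,0),(43,103),(443,0),(211,0),(2,277),(31,0),(739,0),(5,887),
   (2,1109),(29,0),(317,0),(23,193),(37,0)] = true := by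
  decide +kernel

theorem mid_4441 : killAll [4080, 5040, 5400, 5616, 6048, 6072] 4441
  [(4441,4441),(2,2221),(3,1481),(101,0),(127,0),(13,0),(4447,4447),(2,139),(3,1483),(89,0),
   (4451,4451),(53,0),(61,73),(131,0),(11,0),(2,557),(4457,4457),(743,0),(7,13),(223,0),(3,1487),
   (97,0),(4463,4463),(31,0),(47,0),(29,0),(3,1489),(2,1117),(41,109),(149,0),(17,263),(43,0),
   (71,0),(2,2237),(5,179),(373,0),(11,37),(2,2239),(3,1493),(2,0),(4481,4481),(83,0),(4483,4483),
   (59,0),(23,0),(2,2243),(7,641),(17,0),(67,67),(449,0),(3,499),(2,1123),(4493,4493),(107,0),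
   (31,0),(2,281),(3,1499),(173,0),(11,409),(5,0),(7,643),(2,2251),(79,0),(2,563),(53,0),(751,0),
   (4507,4507),(23,0),(3,167),(41,0),(13,347),(47,0),(4513,4513),(61,0),(43,0),(2,1129),
   (4517,4517),(251,0),(4519,4519),(113,0),(137,0),(19,0),(4523,4523),(29,0),(5,181),(73,0),
   (3,503),(2,283),(7,647),(151,0),(23,197),(103,0),(3,1511),(2,2267),(5,907),(7,0),(13,349),
   (2,2269),(89,0),(227,0),(19,239),(757,0),(59,0),(2,71),(101,0),(2,2273),(4547,4547),(379,0),
   (4549,4549),(13,0),(41,0),(2,569),(29,157),(23,0),(5,911),(67,0),(31,0),(53,0),(47,97),(19,0),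
   (4561,4561),(2,2281),(3,13),(163,0),(83,0),(761,0),(4567,4567),(2,571),(3,1523),(457,0),
   (7,653),(127,0),(17,269),(2,2287),(61,0),(13,0),(23,199),(109,0),(19,241),(229,0),(3,509),
   (79,0),(4583,4583),(191,0),(131,0),(2,2293),(139,0),(37,0),(13,353),(17,0),(4591,4591),(41,0),
   (3,1531),(2,2297),(5,919),(383,0),(4597,4597),(19,0),(73,0),(23,0),(43,107),(59,0),(4603,4603),
   (2,1151),(307,0),(47,0),(17,271),(2,3),(11,419),(461,0),(53,0),(2,1153),(7,659),(769,0),(71,0),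
   (2,577),(3,19),(2,2309),(31,149),(7,0),(4621,4621),(2,2311),(67,0),(2,17),(5,37),(257,0),
   (7,661),(89,0),(3,1543),(463,0),(11,421),(193,0),(41,113),(331,0),(103,0),(61,0),(4637,4637),
   (773,0),(4639,4639),(29,0)] = true := by
  decide +kernel

theorem mid_4641 : killAll [4080, 5040, 5400, 5616, 6048, 6072] 4641
  [(17,0),(211,0),(4643,4643),(43,0),(5,929),(101,0),(3,1549),(83,0),(4649,4649),(31,0),
   (4651,4651),(2,1163),(47,0),(179,0),(19,0),(97,0),(4657,4657),(137,0),(3,1553),(233,0),(59,79),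
   (37,0),(4663,4663),(53,0),(311,0),(2,2333),(13,359),(389,0),(29,0),(467,0),(3,173),(2,73),
   (4673,4673),(41,0),(17,0),(167,0),(3,1559),(2,2339),(4679,4679),(13,0),(31,151),(2,2341),
   (223,0),(2,1171),(5,937),(71,0),(43,109),(2,293),(3,521),(67,0),(4691,4691),(23,0),(13,19),
   (2,2347),(313,0),(2,587),(61,0),(29,0),(37,127),(47,0),(3,1567),(2,2351),(4703,4703),(7,0),
   (5,941),(181,0),(3,523),(107,0),(17,277),(157,0),(7,673),(31,0),(3,1571),(2,2357),(41,0),
   (131,0),(53,89),(337,0),(13,0),(59,0),(4721,4721),(787,0),(4723,4723),(2,1181),(5,0),(139,0),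
   (29,163),(197,0),(4729,4729),(43,0),(83,0),(13,0),(4733,4733),(263,0),(5,947),(2,37),(3,1579),
   (103,0),(7,677),(79,0),(11,431),(2,2371),(31,0),(2,593),(73,0),(113,0),(47,101),(2,1187),
   (3,1583),(19,0),(4751,4751),(11,0),(7,97),(2,2377),(317,0),(41,0),(67,71),(61,0),(4759,4759),
   (7,0),(3,23),(2,2381),(11,433),(397,0),(5,953),(2,2383),(227,0),(2,149),(19,251),(53,0),
   (13,367),(2,1193),(43,0),(31,0),(5,191),(199,0),(17,281),(2,2389),(3,59),(239,0),(7,683),
   (797,0),(4783,4783),(23,0),(29,0),(2,2393),(4787,4787),(19,0),(4789,4789),(479,0),(3,1597),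
   (2,599),(4793,4793),(47,0),(137,0),(109,0),(41,0),(2,2399),(4799,4799),(3,0),(4801,4801),(2,7),
   (3,1601),(2,1201),(5,31),(89,0),(23,0),(2,601),(229,0),(37,0),(17,283),(401,0),(4813,4813),
   (83,0),(107,0),(43,0),(4817,4817),(73,0),(61,79),(241,0),(3,1607),(2,2411),(53,0),(67,0),
   (5,193),(127,0),(3,1609),(71,0),(11,439),(23,0),(4831,4831),(2,151),(3,179),(2,2417),(5,967),
   (31,0),(7,691),(59,0),(3,1613),(11,0)] = true := by
  decide +kernel

theorem mid_4841 : killAll [4080, 5040, 5400, 5616, 6048, 6072] 4841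
  [(47,103),(269,0),(29,167),(173,0),(19,0),(2,2423),(37,131),(101,0),(13,373),(97,0),(11,0),
   (2,1213),(23,211),(809,0),(5,971),(2,607),(3,1619),(347,0),(43,113),(3,0),(4861,4861),(17,0),
   (3,1621),(2,19),(139,0),(811,0),(31,157),(2,1217),(3,541),(487,0),(4871,4871),(29,0),(11,443),
   (2,2437),(13,0),(53,0),(4877,4877),(271,0),(41,0),(61,0),(3,1627),(2,2441),(19,257),(37,0),
   (5,977),(349,0),(3,181),(47,0),(4889,4889),(163,0),(67,73),(2,1223),(233,0),(2,2447),(89,0),
   (17,0),(59,83),(79,0),(71,0),(5,0),(13,29),(43,0),(4903,4903),(2,613),(109,0),(223,0),(7,701),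
   (409,0),(4909,4909),(491,0),(3,1637),(2,307),(17,17),(13,0),(5,983),(2,1229),(149,0),(2,2459),
   (4919,4919),(41,0),(37,0),(107,0),(3,547),(2,1231),(5,197),(821,0),(13,379),(11,0),(53,0),
   (29,0),(4931,4931),(137,0),(4933,4933),(2,2467),(47,0),(2,617),(4937,4937),(823,0),(11,449),
   (19,0),(3,61),(353,0),(4943,4943),(103,0),(43,0),(2,2473),(97,0),(2,1237),(7,101),(2,0),
   (4951,4951),(2,619),(127,0),(2,2477),(5,991),(59,0),(4957,4957),(67,0),(29,0),(31,0),(11,41),
   (827,0),(7,709),(73,0),(331,0),(191,0),(4967,4967),(23,0),(4969,4969),(71,0),(3,1657),(113,0),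
   (4973,4973),(829,0),(5,199),(2,311),(79,0),(131,0),(13,383),(83,0),(17,293),(53,0),(151,0),
   (89,0),(5,997),(277,0),(4987,4987),(43,0),(3,1663),(499,0),(31,0),(13,0),(4993,4993),(227,0),
   (37,0),(2,1249),(19,263),(17,0),(4999,4999),(2,5),(3,1667),(61,0),(5003,5003),(139,0),(13,0),
   (2,2503),(3,1669),(2,313),(5009,5009),(167,0),(5011,5011),(179,0),(3,557),(109,0),(59,0),
   (19,0),(29,173),(193,0),(239,0),(251,0),(5021,5021),(31,0),(5023,5023),(2,157),(67,0),(359,0),
   (11,457),(419,0),(47,107),(503,0),(43,0),(37,0),(7,719),(839,0),(53,0),(2,1259),(73,0),(229,0),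
   (5039,5039),(0,0)] = true := by
  decide +kernel

theorem mid_5041 : killAll [4080, 5040, 5400, 5616, 6048, 6072] 5041
  [(71,71),(2,2521),(3,41),(97,0),(5,1009),(29,0),(7,103),(2,631),(17,0),(101,0),(5051,5051),
   (421,0),(31,163),(19,0),(337,0),(2,79),(13,389),(281,0),(5059,5059),(23,0),(241,0),(2,2531),
   (61,83),(211,0),(5,1013),(149,0),(3,563),(181,0),(37,137),(13,0),(11,461),(2,317),(89,0),
   (59,0),(29,0),(47,0),(5077,5077),(2,2539),(3,1693),(127,0),(5081,5081),(11,0),(23,0),(41,0),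
   (113,0),(2,2543),(5087,5087),(53,0),(7,727),(509,0),(3,1697),(67,0),(11,463),(283,0),(5,1019),
   (7,0),(3,1699),(2,2549),(5099,5099),(17,0),(5101,5101),(2,2551),(3,7),(29,0),(5,1021),(37,0),
   (5107,5107),(2,1277),(131,0),(73,0),(19,269),(71,0),(5113,5113),(2,2557),(31,0),(2,1279),
   (43,0),(853,0),(5119,5119),(2,5),(3,569),(197,0),(47,109),(61,0),(5,41),(233,0),(3,1709),
   (2,641),(23,223),(19,0),(7,733),(2,1283),(59,0),(151,0),(79,0),(107,0),(11,467),(367,0),
   (3,571),(257,0),(53,97),(857,0),(37,139),(2,643),(7,0),(83,0),(5147,5147),(11,0),(19,271),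
   (103,0),(101,0),(23,0),(5153,5153),(859,0),(5,1031),(2,1289),(3,191),(2,2579),(67,0),(43,0),
   (13,397),(89,0),(3,1721),(2,1291),(5,1033),(41,0),(5167,5167),(19,0),(3,1723),(47,0),
   (5171,5171),(431,0),(7,739),(199,0),(23,0),(2,647),(31,167),(863,0),(5179,5179),(37,0),(157,0),
   (2,2591),(71,73),(2,3),(61,0),(2,2593),(19,0),(2,1297),(5189,5189),(173,0),(29,179),(59,0),
   (3,577),(53,0),(5,1039),(433,0),(5197,5197),(113,0),(3,1733),(13,0),(7,743),(17,0),(11,43),
   (2,1301),(347,0),(137,0),(41,127),(31,0),(5209,5209),(521,0),(3,193),(2,1303),(13,401),(79,0),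
   (149,0),(2,163),(47,0),(2,2609),(17,307),(29,0),(23,227),(373,0),(3,1741),(2,653),(19,0),
   (67,0),(5227,5227),(2,1307),(83,0),(523,0),(5231,5231),(109,0),(5233,5233),(2,2617),(349,0),
   (11,0),(5237,5237),(97,0),(13,31),(131,0)] = true := by
  decide +kernel

theorem mid_5241 : killAll [4080, 5040, 5400, 5616, 6048, 6072] 5241
  [(3,1747),(2,2621),(7,107),(23,0),(5,1049),(61,0),(53,0),(2,41),(29,181),(5,0),(59,89),(101,0),
   (103,0),(71,0),(5,1051),(73,0),(7,751),(239,0),(3,1753),(263,0),(5261,5261),(877,0),(19,277),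
   (47,0),(13,0),(2,2633),(23,229),(439,0),(11,479),(31,0),(251,0),(2,659),(5273,5273),(293,0),
   (5,211),(2,1319),(3,1759),(29,0),(5279,5279),(11,0),(5281,5281),(139,0),(3,587),(2,1321),
   (151,0),(881,0),(17,311),(2,661),(43,0),(23,0),(37,0),(7,0),(67,79),(2,2647),(353,0),(2,331),
   (5297,5297),(883,0),(7,757),(53,0),(31,0),(241,0),(5303,5303),(17,0),(5,1061),(379,0),(61,0),
   (2,1327),(5309,5309),(59,0),(47,113),(2,83),(23,0),(2,2657),(5,1063),(443,0),(13,409),(2,2659),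
   (3,197),(19,0),(17,313),(887,0),(5323,5323),(2,11),(71,0),(2,2663),(7,761),(37,0),(73,73),
   (41,0),(3,1777),(43,0),(5333,5333),(127,0),(97,0),(29,0),(3,593),(157,0),(19,281),(89,0),
   (7,109),(2,2671),(137,0),(2,167),(5,1069),(3,0),(5347,5347),(191,0),(3,1783),(107,0),
   (5351,5351),(223,0),(53,101),(2,2677),(17,0),(103,0),(11,487),(47,0),(23,233),(67,0),(3,1787),
   (383,0),(31,173),(149,0),(37,0),(2,2683),(3,1789),(61,0),(59,0),(179,0),(41,131),(79,0),
   (3,199),(2,2687),(5,43),(7,0),(19,283),(2,2689),(163,0),(269,0),(5381,5381),(23,0),(7,769),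
   (2,673),(359,0),(2,2693),(5387,5387),(449,0),(17,317),(11,0),(3,599),(2,337),(5393,5393),
   (31,0),(83,0),(71,0),(257,0),(2,2699),(5399,5399),(0,0),(11,491),(73,0),(3,1801),(193,0),
   (47,0),(53,0),(5407,5407),(2,13),(3,601),(541,0),(7,773),(41,0),(5413,5413),(2,2707),(19,0),
   (2,677),(5417,5417),(43,0),(5419,5419),(271,0),(139,0),(2,2711),(29,0),(113,0),(31,0),(2,2713),
   (3,67),(59,0),(61,89),(181,0),(5431,5431),(97,0),(3,1811),(19,0),(5,1087),(151,0),(5437,5437),
   (2,2719),(37,0),(17,0)] = true := by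
  decide +kernel

theorem mid_5441 : killAll [4080, 5040, 5400, 5616, 6048, 6072] 5441
  [(5441,5441),(907,0),(5443,5443),(2,1361),(11,0),(389,0),(13,419),(227,0),(5449,5449),(109,0),
   (79,0),(47,0),(41,0),(101,0),(5,1091),(31,0),(107,0),(2,2729),(53,103),(13,0),(43,127),
   (2,2731),(3,607),(2,683),(5,1093),(911,0),(71,0),(2,1367),(3,1823),(547,0),(5471,5471),(19,0),
   (13,421),(23,0),(73,0),(2,37),(5477,5477),(83,0),(5479,5479),(137,0),(29,0),(2,2741),
   (5483,5483),(457,0),(5,1097),(211,0),(59,0),(2,7),(11,499),(61,0),(17,19),(2,1373),(3,1831),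
   (67,0),(157,0),(229,0),(23,239),(2,2749),(47,0),(5,0),(5501,5501),(131,0),(5503,5503),(2,43),
   (367,0),(2,2753),(5507,5507),(17,0),(7,787),(29,0),(167,0),(53,0),(37,149),(919,0),(5,1103),
   (197,0),(3,613),(89,0),(5519,5519),(23,0),(5521,5521),(251,0),(263,0),(2,1381),(17,0),(307,0),
   (5527,5527),(2,691),(97,0),(79,0),(5531,5531),(461,0),(11,503),(2,2767),(41,0),(2,173),(7,113),
   (71,0),(29,191),(277,0),(3,1847),(163,0),(23,241),(11,0),(5,1109),(59,0),(3,43),(73,0),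
   (31,179),(2,0),(61,0),(2,347),(3,617),(2,2777),(101,0),(463,0),(5557,5557),(397,0),(109,0),
   (139,0),(67,83),(103,0),(5563,5563),(107,0),(53,0),(23,0),(19,293),(29,0),(5569,5569),(557,0),
   (3,619),(199,0),(5573,5573),(929,0),(5,223),(41,0),(13,0),(2,2789),(7,797),(31,0),(5581,5581),
   (2,2791),(3,1861),(2,349),(5,1117),(19,0),(37,151),(127,0),(3,23),(43,0),(5591,5591),(233,0),
   (47,0),(2,2797),(373,0),(2,1399),(29,193),(311,0),(11,509),(7,0),(3,1867),(2,2801),(13,431),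
   (467,0),(59,0),(2,2803),(89,0),(2,701),(71,79),(17,0),(31,181),(61,0),(3,1871),(401,0),
   (5,1123),(0,0),(41,137),(2,53),(3,1873),(281,0),(73,0),(937,0),(5623,5623),(19,0),(3,5),(97,0),
   (17,331),(67,0),(13,433),(563,0),(3,1877),(2,11),(43,131),(313,0),(23,0),(2,1409),(3,1879),
   (2,2819),(5639,5639),(47,0)] = true := by
  decide +kernel

theorem mid_5641 : killAll [4080, 5040, 5400, 5616, 6048, 6072] 5641
  [(5641,5641),(31,0),(19,0),(83,0),(5,1129),(941,0),(5647,5647),(2,353),(269,0),(113,0),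
   (5651,5651),(157,0),(5653,5653),(257,0),(29,0),(101,0),(5657,5657),(41,0),(5659,5659),(283,0),
   (37,0),(149,0),(7,809),(59,0),(103,0),(2,2833),(3,1889),(109,0),(5669,5669),(7,0),(53,107),
   (2,709),(61,0),(2,2837),(5,227),(11,0),(7,811),(167,0),(3,631),(71,0),(23,0),(947,0),
   (5683,5683),(29,0),(379,0),(2,2843),(11,47),(79,0),(5689,5689),(569,0),(271,0),(2,1423),
   (5693,5693),(73,0),(67,0),(2,89),(3,211),(37,0),(41,139),(19,0),(5701,5701),(2,2851),(3,1901),
   (31,0),(163,0),(317,0),(13,439),(2,1427),(173,0),(571,0),(5711,5711),(17,0),(29,197),(2,2857),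
   (127,0),(2,1429),(5717,5717),(953,0),(43,0),(13,0),(3,1907),(2,2861),(59,97),(53,0),(5,229),
   (409,0),(83,0),(2,179),(17,337),(191,0),(11,521),(2,1433),(13,0),(61,0),(37,0),(239,0),
   (5737,5737),(151,0),(3,1913),(41,0),(5741,5741),(29,0),(5743,5743),(2,359),(383,0),(17,0),
   (7,821),(479,0),(5749,5749),(23,0),(3,71),(2,719),(11,523),(137,0),(5,1151),(2,1439),(101,0),
   (2,2879),(13,443),(5,0),(7,823),(67,0),(113,0),(131,0),(5,1153),(31,0),(73,79),(103,0),(3,641),
   (577,0),(29,199),(37,0),(23,251),(2,2887),(11,0),(2,19),(53,109),(107,0),(5779,5779),(17,0),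
   (47,0),(59,0),(5783,5783),(241,0),(89,0),(263,0),(3,643),(2,1447),(7,827),(193,0),(5791,5791),
   (2,181),(3,1931),(2,2897),(61,0),(23,0),(31,0),(223,0),(3,1933),(29,0),(5801,5801),(967,0),
   (7,829),(2,1451),(43,0),(2,2903),(5807,5807),(11,0),(37,157),(83,0),(149,0),(2,1453),
   (5813,5813),(2,0),(5,1163),(2,727),(277,0),(2,2909),(11,23),(97,0),(5821,5821),(71,0),(3,647),
   (13,0),(5,233),(971,0),(5827,5827),(47,0),(67,0),(53,0),(7,17),(2,3),(19,307),(2,2917),(389,0),
   (2,1459),(13,449),(139,0),(5839,5839),(73,0)] = true := by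
  decide +kernel

theorem mid_5841 : killAll [4080, 5040, 5400, 5616, 6048, 6072] 5841
  [(59,0),(127,0),(5843,5843),(487,0),(167,0),(79,0),(3,1949),(43,0),(5849,5849),(13,0),
   (5851,5851),(19,0),(3,1951),(2,2927),(5,1171),(61,0),(5857,5857),(101,0),(7,0),(293,0),
   (5861,5861),(977,0),(41,0),(2,733),(23,0),(419,0),(5867,5867),(163,0),(5869,5869),(587,0),
   (103,0),(2,367),(7,839),(89,0),(5,47),(113,0),(3,653),(2,2939),(5879,5879),(5,0),(5881,5881),
   (173,0),(53,0),(2,1471),(107,0),(109,0),(7,29),(2,23),(151,0),(31,0),(43,137),(491,0),(71,83),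
   (421,0),(131,0),(67,0),(5897,5897),(983,0),(17,347),(59,0),(281,0),(227,0),(5903,5903),(41,0),
   (5,1181),(2,2953),(179,0),(211,0),(19,311),(197,0),(23,257),(2,739),(3,73),(2,2957),(13,0),
   (29,0),(61,97),(269,0),(3,1973),(37,0),(31,191),(47,0),(5923,5923),(2,1481),(79,0),(2,2963),
   (5927,5927),(19,0),(7,11),(593,0),(3,659),(2,1483),(17,349),(43,0),(5,1187),(53,0),(3,1979),
   (2,2969),(5939,5939),(11,0),(13,457),(2,2971),(283,0),(2,743),(41,0),(991,0),(19,313),(2,1487),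
   (3,661),(17,0),(11,541),(31,0),(5953,5953),(229,0),(397,0),(2,1489),(37,0),(331,0),(59,101),
   (149,0),(3,1987),(271,0),(67,89),(71,0),(5,1193),(157,0),(17,0),(2,373),(47,127),(199,0),
   (7,853),(2,1493),(181,0),(103,0),(5,239),(83,0),(43,139),(61,0),(3,1993),(23,0),(5981,5981),
   (997,0),(31,193),(17,0),(19,0),(73,0),(5987,5987),(499,0),(53,113),(599,0),(3,1997),(107,0),
   (13,461),(37,0),(109,0),(2,1499),(3,1999),(2,2999),(7,857),(5,0),(17,353),(2,3001),(29,0),
   (79,0),(5,1201),(13,0),(6007,6007),(2,751),(3,2003),(601,0),(6011,6011),(167,0),(7,859),(97,0),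
   (401,0),(2,47),(11,547),(59,0),(13,463),(43,0),(3,223),(2,3011),(19,317),(251,0),(5,241),
   (131,0),(41,0),(137,0),(6029,6029),(67,0),(37,163),(29,0),(3,2011),(431,0),(71,0),(503,0),
   (6037,6037),(2,3019),(61,0),(151,0)] = true := by
  decide +kernel

theorem mid_6041 : killAll [4080, 5040, 5400, 5616, 6048, 6072] 6041
  [(7,863),(53,0),(6043,6043),(2,1511),(31,0),(2,3023),(6047,6047),(0,0),(23,263),(11,0),(3,2017),
   (89,0),(6053,6053),(1009,0),(173,0),(2,757),(3,673),(233,0),(73,83),(101,0),(29,0),(433,0),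
   (47,0),(2,379),(5,1213),(337,0),(6067,6067),(41,0),(17,0),(607,0),(13,467),(0,0),(6073,6073),
   (2,3037),(3,5),(31,0),(59,103),(1013,0),(6079,6079),(19,0),(3,2027),(2,3041),(79,0),(13,0),
   (5,1217),(179,0),(3,2029),(2,761),(6089,6089),(5,0),(6091,6091),(2,1523),(3,677),(277,0),
   (53,0),(127,0),(67,0),(2,3049),(107,0),(61,0),(6101,6101),(113,0),(17,359),(109,0),(37,0),
   (71,0),(31,197),(509,0),(41,149),(47,0),(97,0),(2,191),(6113,6113),(1019,0),(5,1223),(139,0),
   (3,2039),(23,0),(29,211),(17,0),(6121,6121),(2,3061),(157,0),(2,1531),(5,7),(1021,0),(11,557),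
   (2,383),(3,227),(613,0),(6131,6131),(73,0),(6133,6133),(2,3067),(409,0),(59,0),(17,19),(31,0),
   (7,877),(307,0),(89,0),(83,0),(6143,6143),(2,3),(5,1229),(439,0),(3,683),(53,0),(43,0),(41,0),
   (6151,6151),(2,769),(293,0),(181,0),(5,1231),(19,0),(47,131),(2,3079),(3,2053),(7,0),(61,101),
   (79,0),(6163,6163),(67,0),(137,0),(2,3083),(7,881),(257,0),(31,199),(617,0),(17,0),(2,1543),
   (6173,6173),(7,0),(19,0),(2,193),(71,0),(2,3089),(37,167),(103,0),(7,883),(281,0),(3,229),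
   (2,773),(5,1237),(1031,0),(23,269),(17,0),(3,2063),(619,0),(41,151),(43,0),(11,563),(163,0),
   (59,0),(2,1549),(6197,6197),(1033,0),(6199,6199),(31,0),(53,0),(443,0),(6203,6203),(47,0),
   (73,0),(107,0),(3,2069),(2,97),(7,887),(23,0),(6211,6211),(2,1553),(109,0),(239,0),(113,0),
   (37,0),(6217,6217),(2,3109),(3,691),(311,0),(6221,6221),(61,0),(7,127),(2,389),(83,0),(283,0),
   (13,479),(173,0),(6229,6229),(89,0),(67,0),(41,0)] = true := by
  decide +kernel

theorem card_mem_mid {G : Type*} [Group G] [Finite G] [IsSimpleGroup G]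
    (hG : ¬ (Nat.card G).Prime) (h0 : 3640 < Nat.card G) (h : Nat.card G ≤ 6232) :
    Nat.card G ∈ [4080, 5040, 5400, 5616, 6048, 6072] := by
  by_cases h3641 : Nat.card G ≤ 3840
  · exact mem_of_killAll hG _ _ mid_3641 (by omega) (by simp only [List.length_cons, List.length_nil]; omega)
  by_cases h3841 : Nat.card G ≤ 4040
  · exact mem_of_killAll hG _ _ mid_3841 (by omega) (by simp only [List.length_cons, List.length_nil]; omega)
  by_cases h4041 : Nat.card G ≤ 4240
  · exact mem_of_killAll hG _ _ mid_4041 (by omega) (by simp only [List.length_cons, List.length_nil]; omega)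
  by_cases h4241 : Nat.card G ≤ 4440
  · exact mem_of_killAll hG _ _ mid_4241 (by omega) (by simp only [List.length_cons, List.length_nil]; omega)
  by_cases h4441 : Nat.card G ≤ 4640
  · exact mem_of_killAll hG _ _ mid_4441 (by omega) (by simp only [List.length_cons, List.length_nil]; omega)
  by_cases h4641 : Nat.card G ≤ 4840
  · exact mem_of_killAll hG _ _ mid_4641 (by omega) (by simp only [List.length_cons, List.length_nil]; omega)
  by_cases h4841 : Nat.card G ≤ 5040
  · exact mem_of_killAll hG _ _ mid_4841 (by omega) (by simp only [List.length_cons, List.length_nil]; omega)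
  by_cases h5041 : Nat.card G ≤ 5240
  · exact mem_of_killAll hG _ _ mid_5041 (by omega) (by simp only [List.length_cons, List.length_nil]; omega)
  by_cases h5241 : Nat.card G ≤ 5440
  · exact mem_of_killAll hG _ _ mid_5241 (by omega) (by simp only [List.length_cons, List.length_nil]; omega)
  by_cases h5441 : Nat.card G ≤ 5640
  · exact mem_of_killAll hG _ _ mid_5441 (by omega) (by simp only [List.length_cons, List.length_nil]; omega)
  by_cases h5641 : Nat.card G ≤ 5840
  · exact mem_of_killAll hG _ _ mid_5641 (by omega) (by simp only [List.length_cons, List.length_nil]; omega)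
  by_cases h5841 : Nat.card G ≤ 6040
  · exact mem_of_killAll hG _ _ mid_5841 (by omega) (by simp only [List.length_cons, List.length_nil]; omega)
  exact mem_of_killAll hG _ _ mid_6041 (by omega) (by simp only [List.length_cons, List.length_nil]; omega)

end Cfsg.Agent.Inv.Sieve
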