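import Mathlib
import Cfsg.Agent.Inv.CoreSig
import Cfsg.Agent.Inv.QuatAut
import Cfsg.Agent.Inv.SE

/-!
If all involution centralizers are 2-constrained, the 2-rank is at least 3 and a Sylow 2-subgroup is
connected, then `N(W)` is all of `G` or strongly embedded. (Same as the first part of
`Inv/CoreKill`, without importing `S1221`.)
-/

set_option autoImplicit false

namespace Cfsg.Agent.Inv.CS0

open Subgroup Cfsg.Agent.GT Cfsg.Agent.Inv.CS

/-- In characteristic 2 and 2-rank at least 3, `O₂(X)` contains a four-group. -/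
theorem not_rank_one_pCore {X : Type*} [Group X] [Finite X]
    (h : centralizer (pCore 2 X : Set X) ≤ pCore 2 X) (h3 : ¬ PRankLE 2 2 X) :
    ¬ PRankLE 2 1 (pCore 2 X) := by
  intro h1
  let φ : X →* MulAut (pCore 2 X) := MulAut.conjNormal
  have hker : φ.ker = centralizer (pCore 2 X : Set X) := by
    ext x
    simp only [φ, MonoidHom.mem_ker, MulEquiv.ext_iff, MulAut.one_apply, Subtype.ext_iff,
      MulAut.conjNormal_apply, mem_centralizer_iff, Subtype.forall, SetLike.mem_coe,
      mul_inv_eq_iff_eq_mul]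
    exact forall₂_congr fun _ _ => eq_comm
  have hnp : ¬ IsPGroup 2 X := fun hp => by
    have : pCore 2 X = ⊤ := eq_top_iff.2 (le_pCore (hp.to_subgroup ⊤))
    rw [this, PRankLE.top_iff] at h1
    exact h3 (h1.mono two_pos one_le_two)
  rcases QA.isPGroup_mulAut_or_quaternion (isPGroup_pCore 2) h1 with hA | ⟨⟨e⟩⟩
  · refine hnp ?_
    have := (hA.to_subgroup ⊤).comap_of_ker_isPGroup φ
      (by rw [hker]; exact (isPGroup_pCore 2).to_le h)
    rw [comap_top] at this
    exact this.of_equiv topEquiv
  · have hc : Nat.card φ.ker = 2 := by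
      refine Eq.trans ?_ (QA.card_center_of_quaternion e)
      rw [← card_map_of_injective (K := center (pCore 2 X)) (pCore 2 X).subtype_injective, hker]
      congr 2
      ext x
      simp only [mem_map, mem_center_iff, mem_centralizer_iff, SetLike.mem_coe, Subtype.forall,
        Subtype.ext_iff, coe_mul, coe_subtype]
      constructor
      · exact fun hx => ⟨⟨x, h (mem_centralizer_iff.2 hx)⟩, hx, rfl⟩
      · rintro ⟨y, hy, rfl⟩
        exact hy
    have h48 : Nat.card X ≤ 48 := by
      have h2 := φ.ker.card_mul_index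
      rw [index_ker, hc] at h2
      have := (card_le_card_group φ.range).trans (QA.card_mulAut_le_of_quaternion e)
      omega
    obtain ⟨T⟩ : Nonempty (Sylow 2 X) := inferInstance
    have h2 := (T : Subgroup X).card_mul_index
    have hodd := T.not_dvd_index
    have hne : (T : Subgroup X).index ≠ 1 := fun e => hnp (by
      have := T.2
      rw [index_eq_one.1 e] at this
      exact this.of_equiv topEquiv)
    have hpos : (T : Subgroup X).index ≠ 0 := index_ne_zero_of_finite
    have h16 : Nat.card (T : Subgroup X) ≤ 16 := by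
      have : 3 ≤ (T : Subgroup X).index := by omega
      nlinarith
    have hQT : pCore 2 X ≤ T := pCore_le_sylow T
    have h8 : Nat.card ((pCore 2 X).subgroupOf (T : Subgroup X)) = 8 := by
      rw [Nat.card_congr (subgroupOfEquivOfLe hQT).toEquiv, Nat.card_congr e.toEquiv,
        PG.quaternion_card]
    have h4 := ((pCore 2 X).subgroupOf (T : Subgroup X)).card_mul_index
    refine h3 ((PG.pRankLE_sylow_iff T).1 (PG.pRankLE_add_of_index (a := 1) (b := 1)
      (H := (pCore 2 X).subgroupOf (T : Subgroup X))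
      (h1.of_mulEquiv (subgroupOfEquivOfLe hQT).symm) ?_))
    rw [h8] at h4
    omega

/-- A 2-constrained group of 2-rank at least 3 is `O(H) N(B)` for a 2-subgroup `B` of rank at
least 2. -/
theorem exists_sup_normalizer_eq_top {H : Type*} [Group H] [Finite H] (hc : IsPConstrained 2 H)
    (h3 : ¬ PRankLE 2 2 H) : ∃ B : Subgroup H, IsPGroup 2 B ∧ ¬ PRankLE 2 1 B ∧
      pPrimeCore 2 H ⊔ normalizer (B : Set H) = ⊤ := by
  obtain ⟨P⟩ : Nonempty (Sylow 2 (pPrimePCore 2 H)) := inferInstance
  have hP : IsPGroup 2 ((P : Subgroup (pPrimePCore 2 H)).map (pPrimePCore 2 H).subtype) :=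
    P.2.map _
  have hm := map_sylow_pPrimePCore P
  refine ⟨_, hP, fun h1 => ?_, ?_⟩
  · refine not_rank_one_pCore (isPConstrained_iff.1 hc) (fun h => h3
      (PG.pRankLE_of_quotient_coprime (not_dvd_card_pPrimeCore Nat.prime_two) h)) ?_
    rw [← hm]
    refine h1.of_mulEquiv (MulEquiv.ofBijective (MonoidHom.subgroupMap _ _)
      ⟨?_, MonoidHom.subgroupMap_surjective _ _⟩)
    rw [← MonoidHom.ker_eq_bot_iff]
    have h2 := coprime_card_ker_subgroupMap (coprime_card_ker_mk'_pPrimeCore (p := 2) (G := H))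
      ((P : Subgroup (pPrimePCore 2 H)).map (pPrimePCore 2 H).subtype)
    obtain ⟨n, hn⟩ := IsPGroup.iff_card.1 (hP.to_subgroup (MonoidHom.ker
      ((QuotientGroup.mk' (pPrimeCore 2 H)).subgroupMap _)))
    rw [hn] at h2
    rw [← card_eq_one, hn]
    rcases n with _ | n
    · rfl
    · exact absurd (Nat.coprime_two_right.1 h2) (by simp [pow_succ])
  · have h1 := map_normalizer_of_coprime_ker (QuotientGroup.mk'_surjective _)
      (coprime_card_ker_mk'_pPrimeCore (p := 2) (G := H)) hP
    rw [hm, normalizer_eq_top (pCore 2 _)] at h1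
    have := congrArg (comap (QuotientGroup.mk' (pPrimeCore 2 H))) h1
    rwa [comap_map_eq, QuotientGroup.ker_mk', sup_comm, comap_top] at this

variable {G : Type*} [Group G] [Finite G]

theorem centralizer_le_normalizer_W (hb : IsBalanced G) {S : Sylow 2 G}
    (hS : IsFourConnected (S : Subgroup G)) (h3 : ¬ PRankLE 2 2 G) {t : G} (ht : orderOf t = 2)
    (hc : IsPConstrained 2 (centralizer ({t} : Set G))) {V : Subgroup G} (hV : Four V)
    (htV : t ∈ V) : centralizer {t} ≤ normalizer (W V : Set G) := by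
  have hVC : V ≤ centralizer {t} := fun v hv => mem_centralizer_singleton_iff.2 (hV.1.comm hv htV)
  have h3' : ¬ PRankLE 2 2 (centralizer ({t} : Set G)) := by
    obtain ⟨T, hT⟩ := hV.isPGroup.exists_le_sylow
    obtain ⟨E, h1, h2, -, h4⟩ := exists_eight_ge (conn_sylow hS T)
      (by rwa [PG.pRankLE_sylow_iff]) hV hT
    intro h
    have := h.card_le_of_le (A := E)
      (fun v hv => mem_centralizer_singleton_iff.2 (h1.comm hv (h4 htV))) h1
    omega
  obtain ⟨B, hB, hB1, hsup⟩ := exists_sup_normalizer_eq_top hc h3'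
  obtain ⟨U, hUB, hU⟩ := exists_four_of_not_rank_one hB1
  obtain ⟨T, hT⟩ := hB.exists_le_sylow
  have hU' := hU.map (centralizer ({t} : Set G)).subtype_injective
  have hT' : IsPGroup 2 ((T : Subgroup _).map (centralizer ({t} : Set G)).subtype) := T.2.map _
  have htC : t ∈ centralizer ({t} : Set G) := mem_centralizer_singleton_iff.2 rfl
  have htT : (⟨t, htC⟩ : centralizer ({t} : Set G)) ∈ (T : Subgroup _) := by
    have hn : (zpowers (⟨t, htC⟩ : centralizer ({t} : Set G))).Normal := by
      refine ⟨fun x hx g => ?_⟩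
      have : x ∈ center _ := zpowers_le.2 (mem_center_iff.2 fun g => Subtype.ext
        (mem_centralizer_singleton_iff.1 g.2)) hx
      rwa [mem_center_iff.1 this g, mul_inv_cancel_right]
    have hp : IsPGroup 2 (zpowers (⟨t, htC⟩ : centralizer ({t} : Set G))) :=
      IsPGroup.of_card (n := 1) (by simp [ht])
    exact hp.le_sylow_of_normal T (mem_zpowers _)
  have key : centralizer {t} ≤ normalizer
      (W (U.map (centralizer ({t} : Set G)).subtype) : Set G) := by
    have h1 := congrArg (Subgroup.map (centralizer ({t} : Set G)).subtype) hsup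
    rw [← MonoidHom.range_eq_map, range_subtype, Subgroup.map_sup] at h1
    refine h1.ge.trans (sup_le ?_ ?_)
    · exact (core_le_W hb hS hT' hU' (map_mono (hUB.trans hT)) ⟨_, htT, rfl⟩ ht).trans le_normalizer
    · exact (le_normalizer_map _).trans
        (normalizer_le_normalizer_W_four hb hS (hB.map _) hU' (map_mono hUB))
  obtain ⟨R, hR⟩ := (hV.subgroupOf hVC).isPGroup.exists_le_sylow
  obtain ⟨g, hg⟩ := MulAction.exists_smul_eq (centralizer ({t} : Set G)) T R
  have hU2 := hU'.map (f := (MulAut.conj (g : G) : G →* G)) (MulAut.conj (g : G)).injective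
  have e : W V = W (U.map (centralizer ({t} : Set G)).subtype) := by
    rw [← mem_normalizer_iff_map_conj.1 (key g.2), map_W]
    refine W_eq_of_pgroup hb hS (R.2.map (centralizer ({t} : Set G)).subtype) hV
      (fun v hv => ⟨⟨v, hVC hv⟩, hR hv, rfl⟩) hU2 ?_
    rintro _ ⟨_, ⟨u, hu, rfl⟩, rfl⟩
    refine ⟨g * u * g⁻¹, ?_, rfl⟩
    rw [← hg]
    exact smul_mem_pointwise_smul u (MulAut.conj g) _ (hT (hUB hu))
  rwa [e]

/-- `N(W V)` is all of `G` or strongly embedded. -/
theorem normalizer_W_eq_top_or (hc : ∀ t : G, orderOf t = 2 →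
      IsPConstrained 2 (centralizer ({t} : Set G))) {S : Sylow 2 G}
    (hS : IsFourConnected (S : Subgroup G)) (h3 : ¬ PRankLE 2 2 G) {V : Subgroup G} (hV : Four V) :
    normalizer (W V : Set G) = ⊤ ∨ IsStronglyEmbedded (normalizer (W V : Set G)) := by
  have hb := isBalanced_of_constrained hc
  by_cases htop : normalizer (W V : Set G) = ⊤
  · exact Or.inl htop
  right
  obtain ⟨T, hT⟩ := hV.isPGroup.exists_le_sylow
  have hTM : (T : Subgroup G) ≤ normalizer (W V : Set G) :=
    le_normalizer.trans (normalizer_le_normalizer_W_four hb hS T.2 hV hT)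
  -- every four-group containing an involution of `M` has the same closure
  have key : ∀ t ∈ normalizer (W V : Set G), orderOf t = 2 → ∀ U : Subgroup G, Four U → t ∈ U →
      W U = W V := by
    intro t htM ht U hU htU
    have hp : IsPGroup 2 (zpowers (⟨t, htM⟩ : normalizer (W V : Set G))) :=
      IsPGroup.of_card (n := 1) (by simp [ht])
    obtain ⟨R, hR⟩ := hp.exists_le_sylow
    obtain ⟨m, hm⟩ := MulAction.exists_smul_eq (normalizer (W V : Set G)) R (T.subtype hTM)
    have h1 : (m : G) * t * (m : G)⁻¹ ∈ (T : Subgroup G) := by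
      have : m * ⟨t, htM⟩ * m⁻¹ ∈ ((m • R : Sylow 2 _) : Subgroup _) :=
        smul_mem_pointwise_smul _ (MulAut.conj m) _ (hR (mem_zpowers _))
      rw [hm] at this
      exact this
    have ht' : orderOf ((m : G) * t * (m : G)⁻¹) = 2 := by rw [orderOf_conj', ht]
    obtain ⟨U', hU'T, hU', htU'⟩ := exists_four_mem T.2 (hV.not_rank_one hT) h1 ht'
    have hU2 := hU.map (f := (MulAut.conj (m : G) : G →* G)) (MulAut.conj (m : G)).injective
    have h2 : W (U.map (MulAut.conj (m : G) : G →* G)) = W V := by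
      refine Eq.trans ?_ (W_eq_of_pgroup hb hS T.2 hU' hU'T hV hT)
      have hC : ∀ X : Subgroup G, Four X → (m : G) * t * (m : G)⁻¹ ∈ X →
          X ≤ centralizer {(m : G) * t * (m : G)⁻¹} := fun X hX h v hv =>
        mem_centralizer_singleton_iff.2 (hX.1.comm hv h)
      have hm2 : (m : G) * t * (m : G)⁻¹ ∈ U.map (MulAut.conj (m : G) : G →* G) := ⟨t, htU, rfl⟩
      obtain ⟨A, hA⟩ := (hU'.subgroupOf (hC _ hU' htU')).isPGroup.exists_le_sylow
      obtain ⟨B, hB⟩ := (hU2.subgroupOf (hC _ hU2 hm2)).isPGroup.exists_le_sylow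
      obtain ⟨g, hg⟩ := MulAction.exists_smul_eq (centralizer ({(m : G) * t * (m : G)⁻¹} : Set G)) A B
      rw [← mem_normalizer_iff_map_conj.1
        (centralizer_le_normalizer_W hb hS h3 ht' (hc _ ht') hU' htU' g.2), map_W]
      refine W_eq_of_pgroup hb hS (B.2.map (Subgroup.subtype _)) hU2
        (fun v hv => ⟨⟨v, hC _ hU2 hm2 hv⟩, hB hv, rfl⟩)
        (hU'.map (f := (MulAut.conj (g : G) : G →* G)) (MulAut.conj (g : G)).injective) ?_
      rintro _ ⟨u, hu, rfl⟩
      refine ⟨g * ⟨u, hC _ hU' htU' hu⟩ * g⁻¹, ?_, rfl⟩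
      rw [← hg]
      exact smul_mem_pointwise_smul _ (MulAut.conj g) _ (hA hu)
    rw [← map_W] at h2
    exact map_injective (f := (MulAut.conj (m : G) : G →* G)) (MulAut.conj (m : G)).injective
      (h2.trans (mem_normalizer_iff_map_conj.1 m.2).symm)
  rw [isStronglyEmbedded_iff]
  refine ⟨htop, ?_, fun t htM ht g hg => ?_⟩
  · exact (hV.2 ▸ (by decide : Even 4)).trans_dvd (card_dvd_of_le (hT.trans hTM))
  · obtain ⟨R, hR⟩ := (IsPGroup.of_card (p := 2) (G := zpowers t) (n := 1)
      (by simp [ht])).exists_le_sylow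
    obtain ⟨U, -, hU, htU⟩ := exists_four_mem R.2 (by
      rw [PG.pRankLE_sylow_iff]; exact fun h => h3 (h.mono two_pos one_le_two))
      (hR (mem_zpowers t)) ht
    rw [mem_normalizer_iff_map_conj]
    conv_lhs => rw [← key t htM ht U hU htU, map_W]
    exact key _ hg (by rw [orderOf_conj', ht]) _
      (hU.map (f := (MulAut.conj g : G →* G)) (MulAut.conj g).injective) ⟨t, htU, rfl⟩

end Cfsg.Agent.Inv.CS0
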