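import Mathlib
import Cfsg.Agent.Inv.SR4A
import Cfsg.Agent.Inv.McWA

/-! An extension of `E₁₆` by a quadratic `E₈` has sectional rank five. -/

set_option autoImplicit false

namespace Cfsg.Agent.Inv.SR4

open Cfsg Subgroup Cfsg.Agent.GT Cfsg.Agent.Inv.Sec

variable {Y : Type*} [Group Y] [Finite Y]

/-- A faithful module of order 16. -/
structure Md (V : Subgroup Y) : Prop where
  nm : V.Normal
  el : IsElementaryAbelian 2 V
  self : centralizer (V : Set Y) ≤ V
  card : Nat.card V = 16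

/-- The number of fixed points. -/
noncomputable abbrev ff (V : Subgroup Y) (x : Y) : ℕ := Nat.card ↥(V ⊓ centralizer {x})

variable {V R : Subgroup Y} {x y g : Y}

omit [Finite Y] in
theorem Md.nrm (h : Md V) (g : Y) : g ∈ normalizer (V : Set Y) :=
  have := h.nm
  le_normalizer_of_normal' ⊤ V (mem_top g)

theorem Md.ff_cases (h : Md V) (hx : x ∉ V) (h2 : x * x ∈ V) : ff V x = 4 ∨ ff V x = 8 := by
  have h1 := card_le_sq h.el (h.nrm x) (h.el.le_centralizer h2)
  have h3 := card_lt (A := centralizer {x}) (B := V) fun e =>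
    hx (h.self fun v hv => mem_cen.1 (e hv))
  have h4 := two_cases (h.el.isPGroup.to_le (inf_le_left (b := centralizer {x}))) (by
    rw [← h.card]; exact h3.le)
  rw [h.card] at h1 h3
  rcases h4 with e | e | e | e | e <;> rw [e] at h1 h3 <;> rw [ff, e] <;> omega

omit [Finite Y] in
theorem Md.cm_congr (h : Md V) (e : x⁻¹ * y ∈ V) {a : Y} (ha : a ∈ V) :
    y * a * y⁻¹ = x * a * x⁻¹ := by
  calc _ = x * (x⁻¹ * y * a) * y⁻¹ := by group
    _ = _ := by rw [h.el.comm e ha]; group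

/-- Transvections. -/
theorem Md.tv (h : Md V) (h8 : ff V x = 8) : ∃ v ∈ V, v ≠ 1 ∧
    (∀ a ∈ V, x * a * x⁻¹ * a⁻¹ ∈ zpowers v) ∧
    ∀ g, x⁻¹ * (g * x * g⁻¹) ∈ V → v ∈ centralizer {g} := by
  have i2 : (V ⊓ centralizer {x}).relIndex V = 2 := by
    have := PG.relIndex_mul_card (inf_le_left (a := V) (b := centralizer {x}))
    rw [show Nat.card _ = 8 from h8, h.card] at this
    omega
  obtain ⟨b, hb, hb'⟩ := SetLike.not_le_iff_exists.1 fun e : V ≤ V ⊓ centralizer {x} => by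
    rw [relIndex_eq_one.2 e] at i2; omega
  have m : ∀ a ∈ V, x * a * x⁻¹ * a⁻¹ ∈ V := fun a ha => mul_mem (h.nm.conj_mem a ha x) (inv_mem ha)
  have n1 : ∀ a ∈ V, x * a * x⁻¹ * a⁻¹ = 1 → a ∈ V ⊓ centralizer {x} := fun a ha e =>
    ⟨ha, mem_cen.2 (comm_of_conj (mul_inv_eq_one.1 e)).symm⟩
  have k : ∀ a ∈ V, x * a * x⁻¹ * a⁻¹ ∈ zpowers (x * b * x⁻¹ * b⁻¹) := fun a ha => by
    by_cases ha' : a ∈ V ⊓ centralizer {x}
    · rw [conj_of_comm (mem_cen.1 ha'.2).symm, mul_inv_cancel]; exact one_mem _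
    · have h1 := McW.mul_mem_two i2 (inv_mem hb) ha (fun e => hb' (inv_mem_iff.1 e)) ha'
      convert mem_zpowers _ using 1
      calc _ = x * b * (b⁻¹ * a) * x⁻¹ * a⁻¹ := by group
        _ = x * b * x⁻¹ * (x * (b⁻¹ * a) * x⁻¹) * a⁻¹ := by group
        _ = _ := by rw [conj_of_comm (mem_cen.1 h1.2).symm]; group
  refine ⟨_, m b hb, fun e => hb' (n1 b hb e), k, fun g hg => mem_cen.2 (comm_of_conj ?_).symm⟩
  have h2 := h.nm.conj_mem b hb g
  refine Fz.eq_of_mem_zpowers_two (by rw [← pow_two, h.el.2 _ (m b hb)]) ?_ fun e => hb' (n1 b hb (by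
    simpa using e))
  convert k _ h2 using 1
  rw [← h.cm_congr hg h2]; group

theorem Md.sq_mem (h : Md V) (h8 : ff V x = 8) (h2 : x * x ∈ V) {v ρ : Y} (hv : v ∈ V) (hv1 : v ≠ 1)
    (k : ∀ a ∈ V, x * a * x⁻¹ * a⁻¹ ∈ zpowers v)
    (c : ∀ g, x⁻¹ * (g * x * g⁻¹) ∈ V → v ∈ centralizer {g}) (h3 : ρ ^ 3 = 1) (hρ : ρ ∉ V)
    (hc : x⁻¹ * (ρ * x * ρ⁻¹) ∈ V) : x * x ∈ zpowers v := by
  have := h.nm
  obtain ⟨y, hy, e⟩ := CN.exists_lift_commute V (y := ρ) (g := x)
    (by rw [h.card]; exact Nat.Coprime.coprime_dvd_left (orderOf_dvd_of_pow_eq_one h3) (by norm_num))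
    (by
      have := QuotientGroup.eq.2 hc
      simp only [QuotientGroup.mk_mul, QuotientGroup.mk_inv] at this
      exact eq_mul_inv_iff_mul_eq.1 this)
  have e1 := QuotientGroup.eq.1 e
  have e2 := cen_congr (h.el.le_centralizer e1)
  have a1 := modEq (by norm_num) (norm_cen (h.nrm ρ) hy.symm.eq) h3
  have a2 := modEq (by norm_num) (h.nrm ρ) h3
  have a3 := card_lt (A := centralizer {ρ}) (B := V) fun e =>
    hρ (h.self fun v hv => mem_cen.1 (e hv))
  have a4 : Nat.card ↥(V ⊓ centralizer {y} ⊓ centralizer {ρ}) ≤ ff V ρ :=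
    card_le_of_le (inf_le_inf_right _ inf_le_left)
  have a5 := two_cases (h.el.isPGroup.to_le (inf_le_left (b := centralizer {ρ}))) (by
    rw [← h.card]; exact a3.le)
  have a6 := two_cases (B := V ⊓ centralizer {y} ⊓ centralizer {ρ})
    (h.el.isPGroup.to_le (inf_le_left.trans inf_le_left)) (by rw [← h.card]; exact a4.trans a3.le)
  have a7 : Nat.card ↥(V ⊓ centralizer {y}) = 8 := e2 ▸ h8
  have a8 : zpowers v = V ⊓ centralizer {y} ⊓ centralizer {ρ} := PG.eq_of_le_of_card_le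
    (zpowers_le.2 ⟨e2 ▸ ⟨hv, c x (by simp)⟩, c ρ hc⟩) (by
      rw [Nat.card_zpowers, orderOf_eq_prime (h.el.2 v hv) hv1]
      rw [a7] at a1
      rw [h.card] at a2 a3
      unfold Nat.ModEq at a1 a2
      simp only [ff] at a4
      omega)
  have e3 : x * y⁻¹ ∈ V := by simpa using h.nm.conj_mem _ e1 y
  have e4 : x * x = x * (x * y⁻¹) * x⁻¹ * (x * y⁻¹)⁻¹ * (y * y) := by
    rw [h.cm_congr e1 e3, h.el.comm (h.nm.conj_mem _ e3 y) (inv_mem e3),
      inv_eq_of_mul_eq_one_right ((pow_two _).symm.trans (h.el.2 _ e3))]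
    group
  have e5 : y * y ∈ V := (mul_mem_cancel_left (mul_mem (h.nm.conj_mem _ e3 x) (inv_mem e3))).1 (e4 ▸ h2)
  rw [e4]
  exact mul_mem (k _ e3) (a8.ge ⟨⟨e5, mem_cen.2 (mul_assoc _ _ _)⟩, mem_cen.2 (hy.mul_left hy).eq⟩)

theorem Md.rank5 (h : Md V) (sec : SectionalPRankLE 2 4 Y) (le : V ≤ R) (h8 : V.relIndex R = 8)
    (sq : ∀ x ∈ R, x * x ∈ V) {s t : Y} (hs : s ∈ R) (ht : t ∈ R) (fs : ff V s = 8)
    (ft : ff V t = 8) (fst : ff V (s * t) = 4)
    (hR : ∀ x ∈ R, x ∉ V → ff V x = 4 ∨ ∃ ρ, ρ ^ 3 = 1 ∧ ρ ∉ V ∧ x⁻¹ * (ρ * x * ρ⁻¹) ∈ V) :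
    False := by
  have cR : ∀ x ∈ R, ∀ g ∈ R, x⁻¹ * (g * x * g⁻¹) ∈ V := fun x hx g hg => by
    have := mul_mem (mul_mem (sq _ (mul_mem (inv_mem hx) hg))
      (h.nm.conj_mem _ (sq x hx) g⁻¹)) (inv_mem (sq g hg))
    convert this using 1; group
  obtain ⟨u, hu, hu1, k1, c1⟩ := h.tv fs
  obtain ⟨v, hv, hv1, k2, c2⟩ := h.tv ft
  have u2 : u * u = 1 := by rw [← pow_two, h.el.2 u hu]
  have ne : v ∉ zpowers u := fun e => by
    have a1 := relIndex_le_card (H := V) (D := centralizer {s * t}) (T := zpowers u)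
      (fun a => s * t * a * (s * t)⁻¹ * a⁻¹) (fun a ha => by
        have a2 := zpowers_le.2 e (k2 a ha)
        have a3 := mem_cen.1 (zpowers_le.2 (c1 s (cR s hs s hs)) a2)
        have a4 := mul_mem a2 (k1 a ha)
        convert a4 using 1
        calc _ = s * (t * a * t⁻¹ * a⁻¹) * a * s⁻¹ * a⁻¹ := by group
          _ = _ := by rw [← a3]; group) fun a _ b _ => fib_comm
    have a2 := PG.relIndex_mul_card (inf_le_left (a := V) (b := centralizer {s * t}))
    rw [inf_relIndex_left, h.card, show Nat.card _ = 4 from fst] at a2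
    rw [Nat.card_zpowers, orderOf_eq_prime (h.el.2 u hu) hu1] at a1
    omega
  have key : ∀ x ∈ R, ff V x = 4 → zpowers u ⊔ zpowers v = V ⊓ centralizer {x} := fun x hx e => by
    have a1 : zpowers u ⊔ zpowers v ≤ V ⊓ centralizer {x} :=
      sup_le (zpowers_le.2 ⟨hu, c1 x (cR s hs x hx)⟩) (zpowers_le.2 ⟨hv, c2 x (cR t ht x hx)⟩)
    refine PG.eq_of_le_of_card_le a1 ?_
    have a2 := card_lt (A := zpowers u) (B := zpowers u ⊔ zpowers v) fun e =>
      ne (e (mem_sup_right (mem_zpowers v)))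
    rw [inf_eq_right.2 le_sup_left, Nat.card_zpowers, orderOf_eq_prime (h.el.2 u hu) hu1] at a2
    have a3 := Nat.le_of_dvd Nat.card_pos (card_dvd_of_le a1)
    have a4 := two_cases (h.el.isPGroup.to_le (a1.trans inf_le_left))
      (h.card ▸ card_le_of_le (a1.trans inf_le_left))
    simp only [ff] at e
    omega
  have e := key _ (mul_mem hs ht) fst
  have a1 := FG.SR.relIndex_le_two sec (N := V ⊓ centralizer {s * t}) (H := R) fun x hx => by
    rw [pow_two]
    by_cases hx' : x ∈ V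
    · rw [← pow_two, h.el.2 x hx']; exact one_mem _
    by_cases f4 : ff V x = 4
    · rw [← e, key x hx f4]
      exact ⟨sq x hx, mem_cen.2 (mul_assoc _ _ _)⟩
    have f8 := (h.ff_cases hx' (sq x hx)).resolve_left f4
    obtain ⟨ρ, r1, r2, r3⟩ := (hR x hx hx').resolve_left f4
    obtain ⟨w, hw, hw1, k, c⟩ := h.tv f8
    exact zpowers_le.2 (show w ∈ V ⊓ centralizer {s * t} from ⟨hw, c _ (cR x hx _ (mul_mem hs ht))⟩)
      (h.sq_mem f8 (sq x hx) hw hw1 k c r1 r2 r3)
  have a2 := relIndex_mul_relIndex _ _ _ (inf_le_left (a := V) (b := centralizer {s * t})) le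
  have a3 := PG.relIndex_mul_card (inf_le_left (a := V) (b := centralizer {s * t}))
  rw [h.card, show Nat.card _ = 4 from fst] at a3
  rw [h8] at a2
  omega

/-- Orbit count: not all involutions of an `E₈` act freely on `E₁₆`. -/
theorem Md.exists_ne_four (h : Md V) (le : V ≤ R) (h8 : V.relIndex R = 8) :
    ∃ x ∈ R, x ∉ V ∧ ff V x ≠ 4 := by
  classical
  by_contra hn
  push Not at hn
  have := h.nm
  let _ : MulAction R V := MulAction.compHom V ((MulAut.conjNormal (H := V)).comp R.subtype)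
  have := Fintype.ofFinite R
  have := Fintype.ofFinite V
  have := Fintype.ofFinite (MulAction.orbitRel.Quotient R V)
  have h1 := MulAction.sum_card_fixedBy_eq_card_orbits_mul_card_group R V
  have h2 : ∀ x : R, Fintype.card (MulAction.fixedBy V x) = 4 + if x ∈ V.subgroupOf R then 12 else 0 :=
    fun x => by
    have h3 : Fintype.card (MulAction.fixedBy V x) = ff V x := by
      rw [← Nat.card_eq_fintype_card]
      exact Nat.card_congr ⟨fun v => ⟨v.1, v.1.2, mem_cen.2 (comm_of_conj (congrArg Subtype.val v.2)).symm⟩,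
        fun v => ⟨⟨v.1, v.2.1⟩, Subtype.ext (conj_of_comm (mem_cen.1 v.2.2).symm)⟩,
        fun _ => rfl, fun _ => rfl⟩
    rw [h3]
    split_ifs with hx
    · rw [ff, inf_eq_left.2 fun v hv => mem_cen.2 (h.el.comm hv hx), h.card]
    · exact hn x x.2 hx
  have h3 := PG.relIndex_mul_card le
  have h4 : Nat.card (V.subgroupOf R) = 16 := by
    rw [← h.card]; exact Nat.card_congr (subgroupOfEquivOfLe le).toEquiv
  rw [h8, h.card, Nat.card_eq_fintype_card] at h3
  rw [Nat.card_eq_fintype_card, Fintype.card_subtype] at h4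
  simp only [h2, Finset.sum_add_distrib, Finset.sum_const, Finset.card_univ, ← h3,
    ← Finset.sum_filter, h4, smul_eq_mul] at h1
  omega

end Cfsg.Agent.Inv.SR4
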