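import Mathlib
import Cfsg.Agent.Rec.J23.StepA2
import Cfsg.Agent.Rec.Loc
import Cfsg.Agent.S0102
import Cfsg.Agent.S3104
import Cfsg.Agent.S3106

/-! Constrained groups of sectional 2-rank at most 4 with a central involution: the case `O₂ = Q₈ ∘ D₈`. -/

set_option autoImplicit false
set_option synthInstance.maxSize 100000
set_option synthInstance.maxHeartbeats 1000000

namespace Cfsg.Agent.Inv.SR4J

open Cfsg.Agent.Spor Cfsg.Agent.Rec Cfsg.Agent.Rec.J23 Subgroup Equiv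

local notation "A5" => alternatingGroup (Fin 5)

theorem card_A5 : Nat.card A5 = 60 := by rw [Nat.card_eq_fintype_card, card_alternatingGroup]; rfl

theorem perf_A5 : commutator A5 = ⊤ := commutator_alternatingGroup_eq_top (by simp)

theorem a5_perm {n : ℕ} (h : 5 ≤ n) : ∃ j : A5 →* alternatingGroup (Fin n), Function.Injective j := by
  let j : A5 →* Perm (Fin n) := (Perm.viaEmbeddingHom (Fin.castLEEmb h)).comp (alternatingGroup (Fin 5)).subtype
  have hj : Function.Injective j := (Perm.viaEmbeddingHom_injective _).comp (subtype_injective _)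
  exact ⟨j.codRestrict _ fun x => Abelianization.commutator_subset_ker (Perm.sign.comp j) (perf_A5.ge (mem_top x)),
    fun a b e => hj (congrArg Subtype.val e)⟩

theorem a5_ext {Y : Type*} [Group Y] [Finite Y] {N : Subgroup Y} [N.Normal] (hN : Nat.card N = 3)
    (j : A5 →* Y ⧸ N) (hj : Function.Injective j) : ∃ A : Subgroup Y, Nonempty (A ≃* A5) := by
  have : Fact (Nat.Prime 3) := ⟨by norm_num⟩
  obtain ⟨K, hK, hm⟩ := exists_minimal_of_wellFoundedLT (fun K : Subgroup Y => K.map (QuotientGroup.mk' N) = j.range)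
    ⟨_, map_comap_eq_self_of_surjective (QuotientGroup.mk'_surjective N) _⟩
  have h1 : ⁅K, K⁆ = K := by
    refine le_antisymm (commutator_le_self K) (hm ?_ (commutator_le_self K))
    beta_reduce
    rw [map_commutator, hK, MonoidHom.range_eq_map, ← map_commutator, ← commutator_def, perf_A5]
  have h2 : commutator K = ⊤ := map_injective (subtype_injective K) (by
    rw [map_subtype_commutator, h1, ← MonoidHom.range_eq_map, range_subtype])
  let σ : K →* A5 := (MonoidHom.ofInjective hj).symm.toMonoidHom.comp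
    (((QuotientGroup.mk' N).comp K.subtype).codRestrict j.range fun x => hK.le ⟨x, x.2, rfl⟩)
  have hσ : Function.Surjective σ := fun a => by
    obtain ⟨x, hx, e⟩ := hK.ge ⟨a, rfl⟩
    exact ⟨⟨x, hx⟩, (MonoidHom.ofInjective hj).symm_apply_eq.2 (Subtype.ext e)⟩
  have hk : ∀ x ∈ σ.ker, (x : Y) ∈ N := fun x hx =>
    (QuotientGroup.eq_one_iff _).1 (congrArg Subtype.val ((MonoidHom.ofInjective hj).symm.map_eq_one_iff.1 hx))
  have : IsCyclic N := isCyclic_of_prime_card hN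
  have h3 := S0102.result perf_A5 (p := 3) (fun P => by
    obtain ⟨k, hk⟩ := IsPGroup.iff_card.1 P.isPGroup'
    have h4 := card_subgroup_dvd_card (P : Subgroup A5)
    rw [card_A5, hk] at h4
    exact isCyclic_of_card_dvd_prime (p := 3) (hk ▸ Nat.Coprime.dvd_of_dvd_mul_right
      (Nat.Coprime.pow_left k (by norm_num : Nat.Coprime 3 20)) h4)) σ hσ (fun x hx => mem_center_iff.2 fun k => by
    have h4 := Abelianization.commutator_subset_ker ((IsCyclic.mulAutMulEquiv N).toMonoidHom.comp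
      ((MulAut.conjNormal (H := N)).comp K.subtype)) (h2.ge (mem_top k))
    have h5 := congrArg Subtype.val
      (DFunLike.congr_fun ((IsCyclic.mulAutMulEquiv N).map_eq_one_iff.1 h4) ⟨x, hk x hx⟩)
    exact Subtype.ext (mul_inv_eq_iff_eq_mul.1 h5)) h2
  have h4 : Nat.card σ.ker ∣ 3 := hN ▸ card_dvd_of_injective ((K.subtype.comp σ.ker.subtype).codRestrict N
    fun x => hk x x.2) fun a b e => Subtype.ext (Subtype.ext (congrArg (fun x : N => (x : Y)) e))
  rcases (Nat.dvd_prime (by norm_num)).1 h4 with e | e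
  · exact ⟨K, ⟨MulEquiv.ofBijective σ ⟨(MonoidHom.ker_eq_bot_iff _).1 (card_eq_one.1 e), hσ⟩⟩⟩
  · exact absurd (e ▸ dvd_rfl) h3

variable {X : Type*} [Group X] [Finite X]

theorem l32_or_a5 (hns : ¬ Group.IsSolvable X) (hc : IsPConstrained 2 X) (hO : oddCore X = ⊥)
    (h4 : SectionalPRankLE 2 4 X) : (∃ (F : Type) (_ : Field F) (_ : Fintype F), Fintype.card F = 2 ∧
      Nonempty (X ⧸ pCore 2 X ≃* Matrix.ProjectiveSpecialLinearGroup (Fin 3) F)) ∨
      ∃ A : Subgroup (X ⧸ pCore 2 X), Nonempty (A ≃* A5) := by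
  have k2 : (∃ j : A5 →* X ⧸ pCore 2 X, Function.Injective j) →
      ∃ A : Subgroup (X ⧸ pCore 2 X), Nonempty (A ≃* A5) :=
    fun ⟨j, hj⟩ => ⟨_, ⟨(MonoidHom.ofInjective hj).symm⟩⟩
  refine (S3104.result hns hc hO (FG.SR.subgroup h4 _)).1.imp_right ?_
  rintro (⟨n, h5, -, ⟨e⟩⟩ | ⟨n, h5, -, ⟨e⟩⟩ | ⟨h3, ⟨⟨e⟩⟩ | ⟨⟨e⟩⟩⟩)
  · obtain ⟨j, hj⟩ := a5_perm h5
    exact k2 ⟨e.symm.toMonoidHom.comp j, e.symm.injective.comp hj⟩
  · obtain ⟨j, hj⟩ := a5_perm h5
    exact k2 ⟨e.symm.toMonoidHom.comp ((Subgroup.subtype _).comp j), e.symm.injective.comp ((subtype_injective _).comp hj)⟩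
  · exact a5_ext h3 e.symm.toMonoidHom e.symm.injective
  · exact a5_ext h3 (e.symm.toMonoidHom.comp (Subgroup.subtype _)) (e.symm.injective.comp (subtype_injective _))

omit [Finite X] in
theorem es2_of_prod {Q : Subgroup X} {z : X} (hz : z ∈ Q) (hz1 : z ≠ 1) (hc : ∀ x, z * x = x * z)
    {A B : Subgroup Q} (a : A ≃* QuaternionGroup 2) (b : B ≃* DihedralGroup 4)
    (hAB : ∀ a ∈ A, ∀ b ∈ B, a * b = b * a) (ht : A ⊔ B = ⊤) (hi : A ⊓ B = center Q) : ES2 Q z := by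
  let z' : Q := ⟨z, hz⟩
  have hz' : z' ∈ A ⊓ B := hi.ge (mem_center_iff.2 fun x => Subtype.ext (hc x).symm)
  have key : ∀ {H : Type} [Group H] {C : Subgroup Q} (c : C ≃* H) (hz : z' ∈ C),
      (∀ w : H, w ≠ 1 → (∀ x, w * x = x * w) → w * w = 1 ∧ (∀ x y, x * y = y * x ∨ x * y = w * (y * x)) ∧
        (∀ x, (∀ y, x * y = y * x) → x = 1 ∨ x = w) ∧ ∃ x y : H, x * y ≠ y * x) →
      z' * z' = 1 ∧ (∀ x ∈ C, ∀ y ∈ C, x * y = y * x ∨ x * y = z' * (y * x)) ∧
        (∀ x ∈ C, (∀ y ∈ C, x * y = y * x) → x = 1 ∨ x = z') ∧ ∃ x ∈ C, ∃ y ∈ C, x * y ≠ y * x := by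
    intro H _ C c hz h
    obtain ⟨h1, h2, h3, x, y, h4⟩ := h (c ⟨z', hz⟩) (fun e => hz1 (congrArg (fun x : C => ((x : Q) : X))
      (c.map_eq_one_iff.1 e))) fun x => by
        obtain ⟨x, rfl⟩ := c.surjective x
        rw [← map_mul, ← map_mul]
        exact congrArg c (Subtype.ext (Subtype.ext (hc _)))
    refine ⟨congrArg Subtype.val (c.injective (a₁ := ⟨z', hz⟩ * ⟨z', hz⟩) (a₂ := 1) (by rw [map_mul, h1, map_one])),
      fun x hx y hy => ?_, fun x hx h => ?_, c.symm x, (c.symm x).2, c.symm y, (c.symm y).2, fun e => h4 ?_⟩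
    · have := h2 (c ⟨x, hx⟩) (c ⟨y, hy⟩)
      simp only [← map_mul, c.apply_eq_iff_eq] at this
      exact this.imp (congrArg Subtype.val) (congrArg Subtype.val)
    · have := h3 (c ⟨x, hx⟩) fun y => by
        obtain ⟨y, rfl⟩ := c.surjective y
        rw [← map_mul, ← map_mul]
        exact congrArg c (Subtype.ext (h y y.2))
      simp only [c.map_eq_one_iff, c.apply_eq_iff_eq] at this
      exact this.imp (congrArg Subtype.val) (congrArg Subtype.val)
    · exact c.symm.injective (by rw [map_mul, map_mul]; exact Subtype.ext e)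
  obtain ⟨a1, a2, a3, x, hx, y, hy, a4⟩ := key a hz'.1 (by decide)
  obtain ⟨-, b2, -, -⟩ := key b hz'.2 (by decide)
  have zc : ∀ x : Q, z' * x = x * z' := fun x => Subtype.ext (hc x)
  have hn : A ≤ normalizer (B : Set Q) := fun x hx => mem_normalizer_iff.2 fun y =>
    ⟨fun hy => by rwa [hAB x hx y hy, mul_inv_cancel_right], fun hy => by
      have := hAB _ (inv_mem hx) _ hy
      rw [← mul_assoc, ← mul_assoc, inv_mul_cancel, one_mul, mul_left_inj] at this
      rwa [this]⟩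
  have dec : ∀ x : Q, ∃ a ∈ A, ∃ b ∈ B, x = a * b := fun x =>
    (Inv.Fz.mem_sup_iff_of_le_normalizer hn).1 (ht.ge (mem_top x))
  refine ⟨hz, hz1, congrArg Subtype.val a1, fun q _ => hc q, fun p hp q hq => ?_, fun p hp h => ?_,
    x, x.2, y, y.2, fun e => a4 (Subtype.ext e)⟩
  · obtain ⟨a, ha, b, hb, e⟩ := dec ⟨p, hp⟩
    obtain ⟨a', ha', b', hb', e'⟩ := dec ⟨q, hq⟩
    have e1 : ∀ {a b a' b' : Q}, a' ∈ A → b ∈ B → a * b * (a' * b') = a * a' * (b * b') := fun {a b a' b'} h1 h2 => by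
      rw [mul_assoc, ← mul_assoc b, ← hAB _ h1 _ h2]; simp only [mul_assoc]
    suffices h : (⟨p, hp⟩ * ⟨q, hq⟩ : Q) = ⟨q, hq⟩ * ⟨p, hp⟩ ∨
        (⟨p, hp⟩ * ⟨q, hq⟩ : Q) = z' * (⟨q, hq⟩ * ⟨p, hp⟩) from h.imp (congrArg Subtype.val) (congrArg Subtype.val)
    rw [e, e', e1 ha' hb, e1 ha hb']
    rcases a2 a ha a' ha' with k | k <;> rcases b2 b hb b' hb' with l | l <;> rw [k, l]
    · exact .inl rfl
    · exact .inr (by rw [← mul_assoc, ← zc, mul_assoc])
    · exact .inr (mul_assoc ..)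
    · exact .inl (by rw [zc, mul_assoc, ← mul_assoc z', a1, one_mul])
  · have := hi.ge (show (⟨p, hp⟩ : Q) ∈ center Q from mem_center_iff.2 fun x => Subtype.ext (h x x.2).symm)
    exact (a3 _ this.1 fun y hy => (hAB y hy _ this.2).symm).imp (congrArg Subtype.val) (congrArg Subtype.val)

/-- An extraspecial group of order 32 and minus type, normal and self-centralising, and the action on its five
pairs of non-central involutions. -/
structure Bas (Q : Subgroup X) (z : X) (q : Fin 5 → X) (π : X →* Perm (Fin 5)) : Prop where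
  es : ES2 Q z
  card : Nat.card Q = 32
  nm : Q.Normal
  self : centralizer (Q : Set X) ≤ Q
  cen : ∀ x, z * x = x * z
  mem : ∀ i, q i ∈ Q
  sq : ∀ i, q i * q i = 1
  anti : ∀ i j, i ≠ j → q i * q j * q i * q j = z
  prod : q 0 * q 1 * q 2 * q 3 * q 4 = 1
  gen : Q = clos [q 0, q 1, q 2, q 3, q 4, z]
  inv : ∀ u ∈ Q, u * u = 1 → u = 1 ∨ u = z ∨ ∃ i, Eqv z u (q i)
  uniq : ∀ {u : X} {i j}, Eqv z u (q i) → Eqv z u (q j) → i = j
  ker : ∀ c, π c = 1 ↔ c ∈ Q
  act : ∀ c i, Eqv z (c * q i * c⁻¹) (q (π c i))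

theorem exists_bas {Q : Subgroup X} {z : X} (h : ES2 Q z) (hQ : Nat.card Q = 32) [hN : Q.Normal]
    (hC : centralizer (Q : Set X) ≤ Q) (hz : ∀ x, z * x = x * z) (h5 : 5 ∣ Nat.card X) : ∃ q π, Bas Q z q π := by
  have hn : ∀ c, ∀ q ∈ Q, c * q * c⁻¹ ∈ Q := fun c q hq => hN.conj_mem q hq c
  obtain ⟨q, h1, h2, h3, h4⟩ := exists_five h hQ (fun c _ => hn c) hC (by
    rwa [show centralizer {z} = ⊤ from eq_top_iff.2 fun x _ => mem_centralizer_singleton.2 (hz x), card_top])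
  have hzz := h.z_sq
  obtain ⟨C, hC'⟩ := codQ rfl (sat_relQ (fun i => (h1 i).2) h2 h3 hzz fun i => h.z_comm _ (h1 i).1)
    (by rw [← h4, hQ])
  have hinv : ∀ u ∈ Q, u * u = 1 → u = 1 ∨ u = z ∨ ∃ i, u = q i ∨ u = z * q i := by
    have h5 : ∀ u ∈ clos [q 0, q 1, q 2, q 3, q 4, z], u * u = 1 → u = 1 ∨ u = z ∨ (u = q 0 ∨ u = z * q 0) ∨
        (u = q 1 ∨ u = z * q 1) ∨ (u = q 2 ∨ u = z * q 2) ∨ (u = q 3 ∨ u = z * q 3) ∨ (u = q 4 ∨ u = z * q 4) :=
      (listsQ hC').decide hC' (by decide +kernel)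
    intro u hu huu
    rcases h5 u (h4 ▸ hu) huu with e | e | e | e | e | e | e
    exacts [.inl e, .inr (.inl e), .inr (.inr ⟨_, e⟩), .inr (.inr ⟨_, e⟩), .inr (.inr ⟨_, e⟩), .inr (.inr ⟨_, e⟩),
      .inr (.inr ⟨_, e⟩)]
  have hb : ∀ i j, i ≠ j → bf (q i) (q j) = 1 := fun i j e => bf_eq_one.2 fun e' => h.z_ne (by
    rw [← h2 i j e, e', mul_assoc (q j), (h1 i).2, mul_one, (h1 j).2])
  have huniq : ∀ {u : X} {i j}, Eqv z u (q i) → Eqv z u (q j) → i = j := fun {u i j} e e' => by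
    by_contra hne
    have := hb i j hne
    rw [h.aes.bf_eqv_left (h1 j).1 ((e.symm hzz).trans hzz e'), bf_self] at this
    exact zero_ne_one this
  have hex : ∀ (c : X) (i : Fin 5), ∃ j, Eqv z (c * q i * c⁻¹) (q j) := by
    intro c i
    obtain ⟨j, hj⟩ := exists_ne i
    have hne : q i * q j ≠ q j * q i := bf_eq_one.1 (hb i j hj.symm)
    rcases hinv _ (hn c _ (h1 i).1) (conj_sq (h1 i).2) with e | e | e
    · exact absurd (by rw [show q i = 1 by simpa using e]; simp) hne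
    · rw [mul_inv_eq_iff_eq_mul, hz c, mul_right_inj] at e
      exact absurd (e ▸ h.z_comm _ (h1 j).1) hne
    · exact e
  choose j hj using hex
  have hj1 : ∀ i, j 1 i = i := fun i => huniq (hj 1 i) (by simpa using Eqv.rfl' z (q i))
  have hjm : ∀ c d i, j (c * d) i = j c (j d i) := fun c d i => huniq (hj (c * d) i) (by
    rw [show c * d * q i * (c * d)⁻¹ = c * (d * q i * d⁻¹) * c⁻¹ by group]
    exact ((hj d i).conj (hz c)).trans hzz (hj c _))
  let act : MulAction X (Fin 5) := { smul := j, one_smul := hj1, mul_smul := hjm }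
  let π := MulAction.toPermHom X (Fin 5)
  have hπ : ∀ c i, π c i = j c i := fun _ _ => rfl
  have hl := h.lg hC fun c _ => mem_normalizer_fintype (hn c)
  refine ⟨q, π, h, hQ, hN, hC, hz, fun i => (h1 i).1, fun i => (h1 i).2, h2, h3, h4, hinv, huniq, fun c => ?_, hj⟩
  refine ⟨fun e => hl.triv c (hz c) ?_, fun hcQ => Equiv.ext fun i => huniq (hj c i) (h.aes.eqv_conj hcQ (h1 i).1)⟩
  have hgen : ∀ i, Eqv z (c * q i * c⁻¹) (q i) := fun i => by
    have := hj c i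
    rwa [← hπ, e] at this
  let K : Subgroup X :=
    { carrier := {r | r ∈ Q ∧ Eqv z (c * r * c⁻¹) r}
      one_mem' := ⟨one_mem _, .inl (by simp)⟩
      mul_mem' := fun {a b} ha hb => ⟨mul_mem ha.1 hb.1, by
        rw [show c * (a * b) * c⁻¹ = c * a * c⁻¹ * (c * b * c⁻¹) by group]
        exact ha.2.mul hzz hb.2 (hz _)⟩
      inv_mem' := fun {a} ha => ⟨inv_mem ha.1, (((h.aes.eqv_inv ha.1).conj (hz c)).trans hzz ha.2).trans hzz
        ((h.aes.eqv_inv ha.1).symm hzz)⟩ }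
  have hK : Q ≤ K := h4.le.trans (clos_le.2 (by
    simp only [List.forall_mem_cons, List.not_mem_nil, false_imp_iff, implies_true, and_true]
    exact ⟨⟨(h1 0).1, hgen 0⟩, ⟨(h1 1).1, hgen 1⟩, ⟨(h1 2).1, hgen 2⟩, ⟨(h1 3).1, hgen 3⟩, ⟨(h1 4).1, hgen 4⟩,
      h.z_mem, .inl (by rw [← hz c, mul_inv_cancel_right])⟩))
  exact fun r hr => (hK hr).2

/-- The structure of `X` when `X / O₂(X)` contains `A₅`. -/
theorem bas_of_a5 (hns : ¬ Group.IsSolvable X) (hc : IsPConstrained 2 X) (hO : oddCore X = ⊥)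
    (h4 : SectionalPRankLE 2 4 X) (hA : ∃ A : Subgroup (X ⧸ pCore 2 X), Nonempty (A ≃* A5)) {z : X} (hz1 : z ≠ 1)
    (hz : ∀ x, z * x = x * z) : ∃ Q q π, Bas Q z q π ∧ alternatingGroup (Fin 5) ≤ π.range := by
  have : Fact (Nat.Prime 5) := ⟨by norm_num⟩
  have hC := hc.charP hO
  have hzQ : z ∈ pCore 2 X := hC fun x _ => (hz x).symm
  have h60 : 60 ∣ Nat.card (X ⧸ pCore 2 X) := by
    obtain ⟨A, ⟨e⟩⟩ := hA
    rw [← card_A5, ← Nat.card_congr e.toEquiv]
    exact card_subgroup_dvd_card A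
  have h5 : 5 ∣ Nat.card X := (Dvd.dvd.trans (by norm_num) h60).trans (card_quotient_dvd_card _)
  rcases S3106.result hns hc hO h4 hA with ⟨h1, h2⟩ | ⟨h1, A, B, ⟨a⟩, ⟨b⟩, h2, h3, h6⟩
  · exfalso
    obtain ⟨y, hy⟩ := exists_prime_orderOf_dvd_card' 5 h5
    have h3 := (SR4.five (GT.isPGroup_pCore 2) h2.le (y := y) (by rw [normalizer_eq_top]; trivial)
      (hy ▸ pow_orderOf_eq_one y) fun e => by
        have h3 : y ∈ pCore 2 X := hC fun x hx => mem_cen.1 (e hx)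
        have := orderOf_dvd_natCard (⟨y, h3⟩ : pCore 2 X)
        rw [orderOf_mk, hy, h2] at this
        norm_num at this).2
    exact hz1 (h3.le ⟨hzQ, mem_cen.2 (hz y)⟩)
  obtain ⟨q, π, h⟩ := exists_bas (es2_of_prod hzQ hz1 hz a b h2 h3 h6) h1 hC hz h5
  refine ⟨_, q, π, h, ?_⟩
  have e1 : π.range.index * Nat.card (X ⧸ pCore 2 X) = 120 := by
    rw [← show π.ker = pCore 2 X from Subgroup.ext h.ker, ← index_eq_card, index_ker, index_mul_card, Nat.card_perm,
      Nat.card_fin]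
    rfl
  obtain ⟨k, hk⟩ := h60
  have e2 : π.range.index * k = 2 := by rw [hk] at e1; nlinarith
  rcases (Nat.dvd_prime Nat.prime_two).1 (Dvd.intro _ e2) with e | e
  · rw [index_eq_one.1 e]; exact le_top
  · exact (Perm.eq_alternatingGroup_of_index_eq_two e).ge

end Cfsg.Agent.Inv.SR4J
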