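import Mathlib
import Cfsg.Agent.Loc.ZC
import Cfsg.Agent.Inv.CoreKill
import Cfsg.Agent.GT.TransferPNilp
import Cfsg.Agent.GT.TransferAbelian
import Cfsg.Agent.Gold.BenderModels
import Cfsg.Agent.CIT.Models
import Cfsg.Agent.FG.H92PNil

/-! Groups in which the centralizers of involutions have normal 2-complements (Gorenstein). -/

namespace Cfsg.Agent.Inv.NC

open Cfsg Subgroup Cfsg.Agent.GT Cfsg.Agent.Loc Cfsg.Agent.Loc.Mss Cfsg.Agent.Inv Cfsg.Agent.Inv.CS
open Cfsg.Agent.Loc.ZC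
open scoped Pointwise

local notation:max "𝐂₁[" a "]" => Subgroup.centralizer ({a} : Set _)

variable {G : Type*} [Group G] [Finite G]

theorem coprime_res {p : ℕ} [hp : Fact p.Prime] {L : Subgroup G} (h : HasNormalPComplement p L) :
    (Nat.card (pResidualOf p L)).Coprime p := by
  rw [pResidualOf, card_map_of_injective L.subtype_injective]
  exact ((Nat.Prime.coprime_iff_not_dvd hp.out).2 h.not_dvd_card_pResidual).symm

/-- In a `p`-nilpotent group `C_S(t)` is a Sylow subgroup of `C(t)` for `t ∈ S`. -/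
theorem le_of_pnilp {p : ℕ} [hp : Fact p.Prime] {L S P : Subgroup G}
    (h : HasNormalPComplement p L) (hS : Syl p S L) {t : G} (ht : t ∈ S) (hP : IsPGroup p P)
    (hPL : P ≤ L) (hPt : P ≤ 𝐂₁[t]) (hSP : S ⊓ 𝐂₁[t] ≤ P) : P ≤ S := by
  have hc := coprime_res h
  have hn : S ≤ 𝐍[pResidualOf p L] := hS.le.trans (le_norm_res L)
  intro g hg
  have h1 : g ∈ ((pResidualOf p L : Subgroup G) : Set G) * (S : Set G) := by
    rw [← coe_mul_of_right_le_normalizer_left _ _ hn, hS.res_sup]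
    exact hPL hg
  obtain ⟨n, hn', s, hs, rfl⟩ := h1
  replace hn' : n ∈ pResidualOf p L := hn'
  replace hs : s ∈ S := hs
  have e := mem_c1.mp (hPt hg)
  have h2 : s * t * s⁻¹ * t⁻¹ ∈ pResidualOf p L ⊓ S := by
    refine ⟨?_, S.mul_mem (S.mul_mem (S.mul_mem hs ht) (S.inv_mem hs)) (S.inv_mem ht)⟩
    have e2 : s * t * s⁻¹ * t⁻¹ = n⁻¹ * (t * n * t⁻¹) := by
      calc s * t * s⁻¹ * t⁻¹ = n⁻¹ * (n * s * t) * s⁻¹ * t⁻¹ := by group
        _ = _ := by simp only at e; rw [e]; group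
    rw [e2]
    exact Subgroup.mul_mem _ (Subgroup.inv_mem _ hn') (conj_mem_of_norm (hn ht) hn')
  rw [eq_bot_of_coprime (hS.pg.to_le inf_le_right) inf_le_left hc, mem_bot] at h2
  have h3 : s ∈ P := hSP ⟨hs, mem_c1.mpr (by
    calc s * t = (s * t * s⁻¹ * t⁻¹) * t * s := by group
      _ = t * s := by rw [h2, one_mul])⟩
  have h4 : n ∈ pResidualOf p L ⊓ P := ⟨hn', by
    have := mul_mem hg (inv_mem h3)
    simpa using this⟩
  rw [eq_bot_of_coprime (hP.to_le inf_le_right) inf_le_left hc, mem_bot] at h4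
  simpa [h4] using hs

theorem rank_of_syl {k : ℕ} {T L : Subgroup G} (h : Syl 2 T L) (hT : PRankLE 2 k T) :
    PRankLE 2 k L := by
  obtain ⟨P, hP, -⟩ := h.exists_sylow
  rw [← PG.pRankLE_sylow_iff P, hP]
  exact hT.of_mulEquiv (subgroupOfEquivOfLe h.le).symm

/-- The Sylow 2-subgroup is connected when it has rank at least 3. -/
theorem conn (hT : ∀ M : Subgroup G, M.Normal → M.index ≠ 2)
    (hI : ∀ t : G, orderOf t = 2 → HasNormalPComplement 2 𝐂₁[t]) {S : Subgroup G}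
    (hS : Syl 2 S ⊤) (h3 : ¬ PRankLE 2 2 S) : IsFourConnected S := by
  have hns : ¬ ZC.Small S := fun h => h3 h.2
  obtain ⟨U, hU, hUS, hn⟩ : ∃ U, Four U ∧ U ≤ S ∧ S ≤ 𝐍[U] := by
    by_cases hn : ∀ A : Subgroup S, A.Normal → IsElementaryAbelian 2 A → Nat.card A ≠ 2 ^ 2
    · exfalso
      rcases PG.isCyclic_or_maxTwo_of_no_normal_elementary_sq hS.pg hn with hc | ⟨-, m, a, b, hm⟩
      · exact h3 (PG.pRankLE_one_of_isCyclic.mono two_pos one_le_two)
      · exact hns (small_of_maxTwo hm)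
    push Not at hn
    obtain ⟨A, h1, h2, h3⟩ := hn
    exact ⟨_, Four.map ⟨h2, h3⟩ S.subtype_injective, map_subtype_le A,
      CopAct.le_normalizer_map_subtype_of_normal A⟩
  obtain ⟨z, hz, hz1, hzc, hz2⟩ := Am.exists_mem_omZ_of_normalized hS.pg hU.isPGroup hn
    (fun e => by have := hU.2; rw [e, card_bot] at this; omega)
  have hzo : orderOf z = 2 := orderOf_eq_prime hz2 hz1
  have hidx := relIndex_cent_dvd hU hz hz1 hn hzc
  -- every involution centralizer has rank at least three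
  have hrk : ∀ t : G, orderOf t = 2 → ¬ PRankLE 2 2 𝐂₁[t] := by
    intro t ht
    obtain ⟨g, hg⟩ := exists_conj_mem hT hS (Q := 𝐂[U] ⊓ S) (by rwa [inf_relIndex_right])
      (sq_of_ord ht)
    have ht' : orderOf (g * t * g⁻¹) = 2 := by rw [orderOf_conj', ht]
    suffices h : ¬ PRankLE 2 2 𝐂₁[g * t * g⁻¹] by
      intro h'
      refine h ?_
      rw [centralizer_singleton_conj]
      exact h'.of_mulEquiv (equivMapOfInjective _ _ (MulAut.conj g).injective)
    generalize g * t * g⁻¹ = t' at hg ht'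
    by_cases htU : t' ∈ U
    · obtain ⟨E, hE, hE8⟩ : ∃ E : Subgroup S, IsElementaryAbelian 2 E ∧ 2 ^ 2 < Nat.card E := by
        by_contra hc
        push Not at hc
        exact h3 fun A h1 h2 => hc A ⟨h1, h2⟩
      have hE' := hE.map S.subtype
      have hE8' : 2 ^ (2 + 1) ≤ Nat.card (E.map S.subtype) := by
        rw [card_map_of_injective S.subtype_injective]
        obtain ⟨n, hn⟩ := IsPGroup.iff_card.1 hE.isPGroup
        rw [hn] at hE8 ⊢
        exact Nat.pow_le_pow_right two_pos ((Nat.pow_lt_pow_iff_right one_lt_two).1 hE8)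
      have h5 := CG.card_inf_centralizer_ge (k := 2) hE'.isPGroup hU.2
        ((map_subtype_le E).trans hn) hE8'
      obtain ⟨W, hW, hW'⟩ := exists_four_of_not_rank_one
        (CG.not_pRankLE_of_le (k := 1) (hE'.mono (inf_le_right : 𝐂[U] ⊓ _ ≤ _)) le_rfl h5)
      by_cases e : U = W
      · exact CG.not_pRankLE_of_le (k := 2) hE' (fun x hx => mem_c1.mpr
          (hE'.comm hx (hW (e ▸ htU)).2)) hE8'
      · obtain ⟨h1, h2⟩ := hU.eight_le_sup hW' e (hW.trans inf_le_left)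
        exact CG.not_pRankLE_of_le (k := 2) h1
          (fun x hx => mem_c1.mpr (h1.comm hx (mem_sup_left htU))) h2
    · obtain ⟨h1, h2⟩ := eight_of hU hg.1 (sq_of_ord ht') htU
      exact CG.not_pRankLE_of_le (k := 2) h1
        (fun x hx => mem_c1.mpr (h1.comm hx (mem_sup_right (mem_zpowers _)))) h2
  refine conn_of hU hUS hn fun V hVS hV => ?_
  by_contra hcon
  push Not at hcon
  obtain ⟨hVU, hno⟩ := hcon
  have hΩ : ∀ x ∈ S, x ∈ 𝐂[V] → x ^ 2 = 1 → x ∈ V := by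
    intro x hx hxc hx2
    by_contra hxV
    obtain ⟨h1, h2⟩ := eight_of hV hxc hx2 hxV
    exact hno _ (sup_le hVS (zpowers_le.mpr hx)) h1 h2 le_sup_left
  have hzV : z ∈ V := hΩ z (hUS hz) (cent_anti hVS hzc) hz2
  obtain ⟨t, htV, htU⟩ := SetLike.not_le_iff_exists.mp hVU
  have ht1 : t ≠ 1 := fun e => htU (e ▸ one_mem _)
  have hzU : z ∈ 𝐂[U] := Four.le_cent hU hz
  have hne : z ≠ t := fun e => htU (e ▸ hzU)
  have hto := Four.ord hV htV ht1
  have htS := hVS htV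
  set P := S ⊓ 𝐂₁[t] with hP
  have hP2 : IsPGroup 2 P := hS.pg.to_le inf_le_left
  have hΩ' : ∀ x ∈ P, x ^ 2 = 1 → x ∈ V := fun x hx hx2 => hΩ x hx.1 (mem_cent.mpr fun y hy => by
    have e1 := mem_cent.mp hzc x hx.1
    have e2 := (mem_c1.mp hx.2).symm
    rcases four_cases hV hzV htV hz1 ht1 hne hy with rfl | rfl | rfl | rfl
    · simp
    · exact e1.symm
    · exact e2
    · rw [mul_assoc, e2, ← mul_assoc, ← e1, mul_assoc]) hx2
  have hPr : PRankLE 2 2 P := fun A _ hA => by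
    rw [← card_map_of_injective P.subtype_injective, show 2 ^ 2 = Nat.card V from hV.2.symm]
    refine card_le_of_le ?_
    rintro _ ⟨a, ha, rfl⟩
    exact hΩ' _ a.2 (congrArg Subtype.val (hA a ha))
  have hsq : ∀ x ∈ S, x ^ 2 ∈ 𝐂[U] := by
    intro x hx
    rcases (Nat.dvd_prime Nat.prime_two).mp hidx with e | e
    · exact pow_mem (relIndex_eq_one.mp e hx) _
    · exact sq_mem_of_index_two e ⟨x, hx⟩
  -- an element of `N(P) ∩ C(t)` moving `z`
  obtain ⟨n, hnP, hnt, hnz⟩ : ∃ n ∈ 𝐍[P], n ∈ 𝐂₁[t] ∧ n ∉ 𝐂₁[z] := by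
    by_contra hc
    push Not at hc
    refine hrk t hto (rank_of_syl (Syl.of_norm hP2 inf_le_right fun P' h1 h2 h3 h4 => ?_) hPr)
    exact le_inf (le_of_pnilp (hI z hzo) (hS.mono (le_c1_iff.mpr hzc) le_top) htS h1
      (fun x hx => hc x (h4 hx) (h3 hx)) h3 h2) h3
  have hzP : z ∈ P := ⟨hUS hz, mem_c1.mpr (mem_cent.mp hzc t htS).symm⟩
  have hnz' : n * z * n⁻¹ = z * t := by
    have h1 := hΩ' _ (conj_mem_of_norm hnP hzP) (by rw [conj_pow, hz2]; group)
    rcases four_cases hV hzV htV hz1 ht1 hne h1 with e | e | e | e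
    · exact absurd (by simpa using e) hz1
    · exact absurd (mem_c1.mpr (mul_inv_eq_iff_eq_mul.mp e)) hnz
    · refine absurd ((MulAut.conj n).injective ?_) hne
      simp only [MulAut.conj_apply]
      rw [e, mem_c1.mp hnt]; group
    · exact e
  have h4 : 4 < Nat.card S := by
    by_contra h4
    refine h3 fun A _ _ => (card_le_card_group A).trans (by omega)
  have hPV : ¬ P ≤ V := fun h => hns (small_of_card hS.pg h4 htS ((card_le_of_le h).trans hV.2.le))
  obtain ⟨r, hr, hrV⟩ := SetLike.not_le_iff_exists.mp hPV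
  obtain ⟨y, hy, hy1, hy2⟩ : ∃ y ∈ P, y ^ 2 ≠ 1 ∧ (y ^ 2) ^ 2 = 1 := by
    obtain ⟨k, hk⟩ := pg_iff.mp hP2 r hr
    have hr2 : r ^ 2 ≠ 1 := fun e => hrV (hΩ' r hr e)
    clear hrV
    induction k generalizing r with
    | zero => exact absurd (by rw [pow_zero, pow_one] at hk; rw [hk, one_pow]) hr2
    | succ k ih =>
      by_cases e : (r ^ 2) ^ 2 = 1
      · exact ⟨r, hr, hr2, e⟩
      · exact ih (r ^ 2) (pow_mem hr _) (by rw [← pow_mul, ← pow_succ', hk]) e
  have hzt : z * t ∉ 𝐂[U] := fun h => htU ((mul_mem_cancel_left hzU).mp h)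
  have hyz : y ^ 2 = z := by
    have h1 := hsq y hy.1
    rcases four_cases hV hzV htV hz1 ht1 hne (hΩ' _ (pow_mem hy _) hy2) with e | e | e | e
    · exact absurd e hy1
    · exact e
    · exact absurd (e ▸ h1) htU
    · exact absurd (e ▸ h1) hzt
  refine hzt ?_
  rw [← hnz', ← hyz, ← conj_pow]
  exact hsq _ (conj_mem_of_norm hnP hy).1

theorem constrained {p : ℕ} [Fact p.Prime] {X : Type*} [Group X] [Finite X]
    (h : HasNormalPComplement p X) : IsPConstrained p X := by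
  rw [isPConstrained_iff]
  have h1 : IsPGroup p (X ⧸ pPrimeCore p X) := by
    obtain ⟨P⟩ : Nonempty (Sylow p X) := inferInstance
    have h2 := h.isComplement'_pResidual P
    rw [← h.pPrimeCore_eq_pResidual] at h2
    obtain ⟨k, hk⟩ := IsPGroup.iff_card.1 P.2
    exact IsPGroup.of_card (n := k) (h2.symm.index_eq_card.trans hk)
  exact fun x _ => le_pCore (N := ⊤) (h1.to_subgroup ⊤) (mem_top x)

/-- Rank at least three: the group is a CIT-group as soon as its core is trivial. -/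
theorem isCIT (hT : ∀ M : Subgroup G, M.Normal → M.index ≠ 2)
    (hI : ∀ t : G, orderOf t = 2 → HasNormalPComplement 2 𝐂₁[t]) (hO : oddCore G = ⊥)
    (h3 : ¬ PRankLE 2 2 G) : CIT.IsCIT G := by
  obtain ⟨S⟩ : Nonempty (Sylow 2 G) := inferInstance
  intro t ht
  have h1 := core_le_oddCore (fun t ht => constrained (hI t ht))
    (conn hT hI (Syl.of_sylow S) (by rwa [PG.pRankLE_sylow_iff])) h3 ht
  rw [hO, centralizerPPrimeCore, (hI t ht).pPrimeCore_eq_pResidual] at h1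
  exact pg_of_res_eq_bot (le_bot_iff.mp h1)

/-- `U₃(q)`, `q ≥ 4` even, has an involution whose centralizer is not 2-nilpotent. -/
theorem not_psu3 (hI : ∀ t : G, orderOf t = 2 → HasNormalPComplement 2 𝐂₁[t])
    {F : Type*} [Field F] [Fintype F] {q : ℕ} (h2 : Even q) (h4 : 4 ≤ q)
    (hF : Fintype.card F = q ^ 2) (e : G ≃* PSU 3 F q) : False := by
  obtain ⟨z, y, s, hz, hy, hs, hyz, hsz, hys⟩ := CIT.exists_of_equiv_psu3 h2 h4 hF e
  have hq := Cl.uField_uConj hF
  obtain ⟨p, k, hp, hc, -, hk⟩ := hq.exists_prime_pow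
  obtain rfl : 2 = p := (Nat.prime_dvd_prime_iff_eq Nat.prime_two hp).1
    (Nat.prime_two.dvd_of_dvd_pow (hk ▸ h2.two_dvd))
  obtain ⟨D, -⟩ := hq.exists_u3Data_PSU
  have hp : IsPGroup 2 (zpowers s ⊔ zpowers z : Subgroup G) :=
    IsPGroup.to_sup_of_normal_right' (CIT.exists_pow_two_iff_isPGroup.mp hs)
      (CIT.exists_pow_two_iff_isPGroup.mp ⟨1, sq_of_ord hz⟩)
      (zpowers_le.mpr (norm_of_cent (cent_comm (zpowers_le.mpr (by
        rw [PG.centralizer_zpowers_eq]; exact mem_c1.mpr hsz.symm.eq))) (mem_zpowers s)))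
  obtain ⟨Q, hQ⟩ := hp.exists_le_sylow
  obtain ⟨Z, hZ⟩ := Gold.BenderFacts.exists_of_equiv e (Q₀ := D.sylow 2)
    (Gold.benderFacts_u3 hq h4 D) Q
  have hzQ : z ∈ (Q : Subgroup G) := hQ (mem_sup_right (mem_zpowers z))
  have hsQ : s ∈ (Q : Subgroup G) := hQ (mem_sup_left (mem_zpowers s))
  have hyQ : y ∈ 𝐍[(Q : Subgroup G)] := hZ.ti y z hzQ (ne_one_of_ord hz)
    (by rw [hyz.eq, mul_inv_cancel_right]; exact hzQ)
  have hyC : y ∈ 𝐂₁[z] := mem_c1.mpr hyz.eq
  have h1 := FG.H92.mem_centralizer_of_pnilp (hI z hz) (Q := (Q : Subgroup G) ⊓ 𝐂₁[z])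
    (Q.2.to_le inf_le_left) inf_le_right hyC
    (norm_inf (X := zpowers y) (zpowers_le.mpr hyQ) (zpowers_le.mpr (le_normalizer hyC))
      (mem_zpowers y)) (Nat.coprime_two_right.mpr hy)
  exact hys (mem_cent.mp h1 s ⟨hsQ, mem_c1.mpr hsz.eq⟩).symm

end Cfsg.Agent.Inv.NC
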