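import Mathlib
import Cfsg.Agent.Ch.FrobeniusSchur
import Cfsg.Agent.Ch.Kernel

/-!
An orthogonal irreducible character `χ` with irreducible exterior square that occurs in `χ ^ 2`
comes from an action on `χ 1 + 1` points: the invariant cubic form makes `ℂ ⊕ V` an associative
algebra, and the group permutes its characters.
-/

set_option autoImplicit false

namespace Cfsg.Agent.Inv.Cubic

open Finset Cfsg.Agent.Ch Matrix
open scoped ComplexConjugate

theorem exists_common_eigen {V : Type*} [AddCommGroup V] [Module ℂ V] [FiniteDimensional ℂ V]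
    [Nontrivial V] {κ : Type*} (f : κ → Module.End ℂ V) (h : ∀ i j v, f i (f j v) = f j (f i v)) :
    ∃ v, v ≠ 0 ∧ ∀ i, ∃ c : ℂ, f i v = c • v := by
  obtain ⟨W, ⟨h1, h2⟩, h3⟩ := exists_minimal_of_wellFoundedLT
    (fun W : Submodule ℂ V => W ≠ ⊥ ∧ ∀ i, ∀ v ∈ W, f i v ∈ W) ⟨⊤, top_ne_bot, by simp⟩
  obtain ⟨v, hv, hv0⟩ := W.exists_mem_ne_zero_of_ne_bot h1
  refine ⟨v, hv0, fun i => ?_⟩
  have := Submodule.nontrivial_iff_ne_bot.2 h1
  obtain ⟨c, hc⟩ := Module.End.exists_eigenvalue ((f i).restrict (h2 i))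
  obtain ⟨w, hw, hw0⟩ := hc.exists_hasEigenvector
  have h4 : W ≤ W ⊓ (f i).eigenspace c := h3 ⟨(Submodule.ne_bot_iff _).2 ⟨w, ⟨w.2,
    Module.End.mem_eigenspace_iff.2 (congrArg Subtype.val (Module.End.mem_eigenspace_iff.1 hw))⟩,
    by simpa using hw0⟩, fun j u hu => ⟨h2 j u hu.1, Module.End.mem_eigenspace_iff.2 (by
      rw [h, Module.End.mem_eigenspace_iff.1 hu.2, map_smul])⟩⟩ inf_le_left
  exact ⟨c, Module.End.mem_eigenspace_iff.1 (h4 hv).2⟩

theorem exists_orth {n : ℕ} {M : Matrix (Fin n) (Fin n) ℂ} (hs : Mᵀ = M) (hd : M.det ≠ 0) :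
    ∃ Q : Matrix (Fin n) (Fin n) ℂ, Qᵀ * M * Q = 1 := by
  obtain ⟨v, hv⟩ := LinearMap.BilinForm.exists_orthogonal_basis (B := Matrix.toLinearMap₂' ℂ M)
    ⟨fun x y => by
      simp only [toLinearMap₂'_apply', RingHom.id_apply]
      rw [dotProduct_mulVec, ← hs, vecMul_transpose, hs, dotProduct_comm]⟩
  have h1 := hv.not_isOrtho_basis_self_of_separatingLeft
    (LinearMap.separatingLeft_toLinearMap₂'_of_det_ne_zero' hd)
  choose s hs' using fun i => IsAlgClosed.exists_eq_mul_self (Matrix.toLinearMap₂' ℂ M (v i) (v i))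
  let e : Fin n ≃ Fin (Module.finrank ℂ (Fin n → ℂ)) := finCongr (by simp)
  refine ⟨of fun i j => (s (e j))⁻¹ * v (e j) i, ext fun j k => ?_⟩
  have h2 : ((of fun i j => (s (e j))⁻¹ * v (e j) i)ᵀ * M *
      of fun i j => (s (e j))⁻¹ * v (e j) i) j k =
      (s (e j))⁻¹ * (s (e k))⁻¹ * Matrix.toLinearMap₂' ℂ M (v (e j)) (v (e k)) := by
    simp only [toLinearMap₂'_apply', mul_apply, transpose_apply, of_apply, dotProduct, mulVec,
      sum_mul, mul_sum]
    rw [sum_comm]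
    exact sum_congr rfl fun _ _ => sum_congr rfl fun _ _ => by ring
  rw [h2]
  by_cases h : j = k
  · have h3 : s (e k) ≠ 0 := fun h3 => h1 (e k) (by rw [hs', h3, mul_zero])
    rw [h, hs', one_apply_eq]
    field_simp
  · rw [hv (e.injective.ne h), one_apply_ne h, mul_zero]

variable {G : Type*} [Group G] {ι : Type*} [Fintype ι] [DecidableEq ι]

/-- The action on vectors. -/
noncomputable def vecRep (X : G →* Matrix ι ι ℂ) : Representation ℂ G (ι → ℂ) :=
  (toLinAlgEquiv' (R := ℂ) (n := ι)).toMonoidHom.comp X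

theorem vecRep_apply (X : G →* Matrix ι ι ℂ) (g : G) (v : ι → ℂ) : vecRep X g v = X g *ᵥ v := rfl

theorem char_vecRep (X : G →* Matrix ι ι ℂ) (g : G) : (vecRep X).character g = (X g).trace :=
  trace_toLin'_eq _

/-- The action on tensors. -/
noncomputable def matRep (X : G →* Matrix ι ι ℂ) : Representation ℂ G (Matrix ι ι ℂ) where
  toFun g := FS.sandwich (X g) (X g)ᵀ
  map_one' := by ext1 M; simp [FS.sandwich_apply]
  map_mul' g h := by ext1 M; simp [FS.sandwich_apply, Matrix.mul_assoc]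

theorem matRep_apply (X : G →* Matrix ι ι ℂ) (g : G) (M : Matrix ι ι ℂ) :
    matRep X g M = X g * M * (X g)ᵀ := rfl

theorem char_matRep (X : G →* Matrix ι ι ℂ) (g : G) :
    (matRep X).character g = (X g).trace ^ 2 := by
  change LinearMap.trace ℂ _ (FS.sandwich _ _) = _
  rw [FS.trace_sandwich, trace_transpose, pow_two]

/-- Alternating matrices. -/
noncomputable def Alt (ι : Type*) : Submodule ℂ (Matrix ι ι ℂ) :=
  LinearMap.ker (LinearMap.id + FS.transp ι)

omit [Fintype ι] [DecidableEq ι] in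
theorem mem_Alt {M : Matrix ι ι ℂ} : M ∈ Alt ι ↔ Mᵀ = -M := by
  rw [Alt, LinearMap.mem_ker, eq_neg_iff_add_eq_zero, add_comm]; rfl

omit [Fintype ι] [DecidableEq ι] in
theorem sub_mem_Alt (M : Matrix ι ι ℂ) : M - Mᵀ ∈ Alt ι := by simp [mem_Alt]

/-- The action on alternating tensors. -/
noncomputable def altRep (X : G →* Matrix ι ι ℂ) : Representation ℂ G (Alt ι) :=
  (matRep X).subrepresentation (Alt ι) fun g M hM => by
    simp [mem_Alt, matRep_apply, mem_Alt.1 hM, Matrix.mul_assoc]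

theorem char_altRep (X : G →* Matrix ι ι ℂ) (g : G) :
    2 * (altRep X).character g = (X g).trace ^ 2 - (X (g ^ 2)).trace := by
  have h := LinearMap.trace_restrict_eq_of_forall_mem (Alt ι)
    (FS.sandwich (X g) (X g)ᵀ - (FS.sandwich (X g) (X g)ᵀ).comp (FS.transp ι)) fun M => by
      simp [mem_Alt, FS.sandwich_apply, FS.transp_apply, Matrix.mul_assoc]
  rw [map_sub, FS.trace_sandwich, FS.trace_sandwich_transpose, ← transpose_mul, trace_transpose,
    trace_transpose, ← map_mul, ← pow_two, ← pow_two] at h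
  rw [← h, Representation.character, ← smul_eq_mul, ← map_smul]
  congr 1
  ext1 M
  ext1
  simp [altRep, matRep_apply, FS.sandwich_apply, FS.transp_apply, mem_Alt.1 M.2, two_smul]

section Core

variable {X : G →* Matrix ι ι ℂ} {T : (ι → ℂ) →ₗ[ℂ] Matrix ι ι ℂ}

omit [DecidableEq ι] in
theorem dot_symm {M : Matrix ι ι ℂ} (h : Mᵀ = M) (x y : ι → ℂ) : (M *ᵥ x) ⬝ᵥ y = (M *ᵥ y) ⬝ᵥ x := by
  rw [dotProduct_comm, dotProduct_mulVec, ← mulVec_transpose, h]

theorem symm_of (h0 : Subsingleton ((vecRep X).IntertwiningMap (altRep X)))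
    (hT : ∀ g x, T (X g *ᵥ x) = X g * T x * (X g)ᵀ) (x : ι → ℂ) : (T x)ᵀ = T x := by
  have h := h0.elim ⟨(T - FS.transp ι ∘ₗ T).codRestrict (Alt ι) fun x => sub_mem_Alt _, fun g =>
    LinearMap.ext fun y => Subtype.ext <| by
      change T (X g *ᵥ y) - (T (X g *ᵥ y))ᵀ = X g * (T y - (T y)ᵀ) * (X g)ᵀ
      simp [hT, Matrix.mul_sub, Matrix.sub_mul, Matrix.mul_assoc]⟩ 0
  have h1 := congrArg (fun f => (f.toLinearMap x : Matrix ι ι ℂ)) h
  exact (sub_eq_zero.1 h1).symm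

theorem comm_of (hX : ∀ g, (X g)ᵀ * X g = 1)
    (h0 : Subsingleton ((vecRep X).IntertwiningMap (altRep X)))
    (hT : ∀ g x, T (X g *ᵥ x) = X g * T x * (X g)ᵀ) (x y : ι → ℂ) : T x *ᵥ y = T y *ᵥ x := by
  let T' : (ι → ℂ) →ₗ[ℂ] Matrix ι ι ℂ :=
    LinearMap.toMatrix'.toLinearMap ∘ₗ (toLin'.toLinearMap ∘ₗ T).flip
  have h1 : ∀ x y, T' y *ᵥ x = T x *ᵥ y := fun x y => LinearMap.toMatrix'_mulVec _ _
  have h2 := symm_of (T := T') h0 fun g y => by
    rw [← Matrix.mul_one (T' _), ← mul_eq_one_comm.1 (hX g), ← Matrix.mul_assoc]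
    congr 1
    refine ext_of_mulVec_single fun i => ?_
    rw [← mulVec_mulVec, ← mulVec_mulVec, h1, h1, hT, mulVec_mulVec, mulVec_mulVec,
      Matrix.mul_assoc, hX, Matrix.mul_one]
  refine dotProduct_eq _ _ fun z => ?_
  rw [dot_symm (symm_of h0 hT x), ← h1, dot_symm (h2 z), h1, dot_symm (symm_of h0 hT y)]

theorem exists_bracket (hX : ∀ g, (X g)ᵀ * X g = 1) [(altRep X).IsIrreducible]
    (hT : ∀ g x, T (X g *ᵥ x) = X g * T x * (X g)ᵀ) (hs : ∀ x, (T x)ᵀ = T x) :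
    ∃ c : ℂ, ∀ x z y, T x *ᵥ T z *ᵥ y + (c * x ⬝ᵥ y) • z = T z *ᵥ T x *ᵥ y + (c * z ⬝ᵥ y) • x := by
  let Φ : Matrix ι ι ℂ →ₗ[ℂ] Matrix ι ι ℂ := ∑ i, ∑ k, (entryLinearMap ℂ ℂ i k).smulRight
    (T (Pi.single i 1) * T (Pi.single k 1))
  have h1 : ∀ x z, Φ (vecMulVec x z) = T x * T z := fun x z => by
    conv_rhs => rw [← univ_sum_single x, ← univ_sum_single z, map_sum, map_sum, sum_mul_sum]
    simp only [Φ, LinearMap.sum_apply, LinearMap.smulRight_apply, entryLinearMap_apply,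
      vecMulVec_apply]
    refine sum_congr rfl fun i _ => sum_congr rfl fun k _ => ?_
    rw [← mul_one (x i), ← mul_one (z k), ← smul_eq_mul (x i), ← smul_eq_mul (z k), Pi.single_smul,
      Pi.single_smul, map_smul, map_smul, smul_mul_smul_comm]
    simp [smul_smul, mul_comm]
  have hext : ∀ {f g : Matrix ι ι ℂ →ₗ[ℂ] Matrix ι ι ℂ},
      (∀ x z, f (vecMulVec x z) = g (vecMulVec x z)) → ∀ M, f M = g M := fun {f g} h M => by
    have h2 : ∀ (i j : ι) (a : ℂ), single i j a = vecMulVec (Pi.single i a) (Pi.single j 1) :=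
      fun i j a => ext fun k l => by
        simp [vecMulVec_apply, Pi.single_apply, single_apply, ite_and, eq_comm]
        split_ifs <;> rfl
    rw [matrix_eq_sum_single M]
    simp only [map_sum, h2, h]
  have h2 : ∀ M, Φ Mᵀ = (Φ M)ᵀ := hext (f := Φ ∘ₗ FS.transp ι) (g := FS.transp ι ∘ₗ Φ) fun x z => by
    simp [FS.transp_apply, h1, hs]
  have h3 : ∀ g M, Φ (X g * M * (X g)ᵀ) = X g * Φ M * (X g)ᵀ := fun g =>
    hext (f := Φ ∘ₗ matRep X g) (g := matRep X g ∘ₗ Φ) fun x z => by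
      simp only [LinearMap.comp_apply, matRep_apply, mul_vecMulVec, vecMulVec_mul, vecMul_transpose,
        h1, hT, Matrix.mul_assoc]
      rw [← Matrix.mul_assoc (X g)ᵀ, hX, Matrix.one_mul]
  obtain ⟨c, hc⟩ := exists_eq_smul_of_commute (altRep X)
    (Φ.restrict fun M hM => mem_Alt.2 (by rw [← h2, mem_Alt.1 hM, map_neg])) fun g =>
      LinearMap.ext fun M => Subtype.ext (h3 g M)
  refine ⟨c, fun x z y => ?_⟩
  have h4 : Φ (vecMulVec x z - (vecMulVec x z)ᵀ) = c • (vecMulVec x z - (vecMulVec x z)ᵀ) :=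
    congrArg Subtype.val (LinearMap.congr_fun hc ⟨_, sub_mem_Alt _⟩)
  have h5 := congrArg (· *ᵥ y) h4
  simp only [map_sub, transpose_vecMulVec, h1, sub_mulVec, smul_mulVec, ← mulVec_mulVec,
    vecMulVec_mulVec, op_smul_eq_smul, smul_sub, smul_smul] at h5
  linear_combination (exp := 1) h5

theorem core [Finite G] [Nonempty ι] (hX : ∀ g, (X g)ᵀ * X g = 1)
    (hfix : ∀ v, (∀ g, X g *ᵥ v = v) → v = 0) (hinj : Function.Injective T)
    (hT : ∀ g x, T (X g *ᵥ x) = X g * T x * (X g)ᵀ) (hs : ∀ x, (T x)ᵀ = T x)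
    (hc : ∀ x y, T x *ᵥ y = T y *ᵥ x) {c : ℂ} (hb : ∀ x z y,
      T x *ᵥ T z *ᵥ y + (c * x ⬝ᵥ y) • z = T z *ᵥ T x *ᵥ y + (c * z ⬝ᵥ y) • x) :
    ∃ H : Subgroup G, H ≠ ⊤ ∧ H.index ≤ Fintype.card ι + 1 := by
  have hXX : ∀ g x, (X g)ᵀ *ᵥ X g *ᵥ x = x := fun g x => by rw [mulVec_mulVec, hX, one_mulVec]
  have hdot : ∀ g x y, (X g *ᵥ x) ⬝ᵥ (X g *ᵥ y) = x ⬝ᵥ y := fun g x y => by
    rw [dotProduct_mulVec, ← mulVec_transpose, hXX]
  obtain ⟨⟨b, w⟩, h0, h1⟩ := exists_common_eigen (fun x : ι → ℂ =>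
    ((-c • dotProductBilin ℂ ℂ x) ∘ₗ LinearMap.snd ℂ ℂ _).prod
      ((LinearMap.fst ℂ ℂ _).smulRight x + (T x).mulVecLin ∘ₗ LinearMap.snd ℂ ℂ _))
    fun x z ⟨b, y⟩ => by
      refine Prod.ext ?_ ?_
      · simp [dotProduct_comm x z, dotProduct_comm _ (T _ *ᵥ y), dot_symm (hs z) y,
          dot_symm (hs x) y, hc x z]
      · simp [mulVec_add, mulVec_smul, hc x z, -mulVec_mulVec]
        linear_combination (exp := 1) hb x z y
  choose l hl using h1
  replace hl : ∀ x, -c * x ⬝ᵥ w = l x * b ∧ b • x + T x *ᵥ w = l x • w :=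
    fun x => Prod.ext_iff.1 (hl x)
  have hcan : ∀ s t : ℂ, s * b = t * b → s • w = t • w → s = t := fun s t h1 h2 =>
    smul_left_injective ℂ h0 (Prod.ext h1 h2)
  have hlin : IsLinearMap ℂ l := ⟨fun x y => hcan _ _
      (by rw [add_mul, ← (hl _).1, ← (hl _).1, ← (hl _).1, add_dotProduct, mul_add])
      (by rw [add_smul, ← (hl _).2, ← (hl _).2, ← (hl _).2, map_add, add_mulVec, smul_add]; abel),
    fun s x => hcan _ _
      (by rw [smul_eq_mul, mul_assoc, ← (hl _).1, ← (hl _).1, smul_dotProduct, smul_eq_mul]; ring)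
      (by rw [smul_eq_mul, mul_smul, ← (hl _).2, ← (hl _).2, map_smul, smul_mulVec, smul_add,
        smul_comm])⟩
  obtain ⟨v, hv⟩ : ∃ v, ∀ x, l x = v ⬝ᵥ x := ⟨fun i => l (Pi.single i 1), fun x => by
    rw [dotProduct_comm]
    exact (hlin.mk' l).pi_apply_eq_sum_univ x |>.trans (sum_congr rfl fun i _ => by
      change x i * l _ = x i * l _
      congr 2
      ext j
      simp [Pi.single_apply, eq_comm])⟩
  simp only [hv] at hl
  have h2 : ∀ x, T x *ᵥ v - c • x = (v ⬝ᵥ x) • v := fun x => dotProduct_eq _ _ fun z => by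
    rw [sub_dotProduct, smul_dotProduct, smul_dotProduct, dot_symm (hs x), dotProduct_comm _ v]
    refine hcan _ _ ?_ ?_
    · have h3 := congrArg (x ⬝ᵥ ·) (hl z).2
      simp only [dotProduct_add, dotProduct_smul, smul_eq_mul] at h3 ⊢
      rw [dotProduct_comm x (T z *ᵥ w), dot_symm (hs z), hc z x] at h3
      linear_combination -(hl (T x *ᵥ z)).1 + (v ⬝ᵥ z) * (hl x).1 - c * h3
    · have h3 := congrArg (T x *ᵥ ·) (hl z).2
      have h4 := hb x w z
      simp only [mulVec_add, mulVec_smul, smul_eq_mul] at h3 ⊢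
      rw [hc w z, hc w (T x *ᵥ z), dotProduct_comm w z] at h4
      linear_combination (norm := module) -(hl (T x *ᵥ z)).2 + (v ⬝ᵥ z) • (hl x).2 + h3 - h4 +
        (hl z).1 • x
  have hv0 : v ≠ 0 := by
    rintro rfl
    simp only [zero_dotProduct, zero_smul, hc _ w] at hl
    have h3 : w = 0 := hfix w fun g => hinj (ext_of_mulVec_single fun i => ?_)
    · obtain ⟨i⟩ := ‹Nonempty ι›
      have h4 := congrFun (hl (Pi.single i 1)).2 i
      simp [h3] at h4
      exact h0 (Prod.ext h4 h3)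
    · rw [hT, ← mulVec_mulVec, ← mulVec_mulVec, eq_neg_of_add_eq_zero_right (hl _).2,
        eq_neg_of_add_eq_zero_right (hl _).2, mulVec_neg, mulVec_smul, mulVec_mulVec,
        mul_eq_one_comm.1 (hX g), one_mulVec]
  let _ : MulAction G (ι → ℂ) := MulAction.compHom _ X
  have hsm : ∀ (g : G) (x : ι → ℂ), g • x = X g *ᵥ x := fun _ _ => rfl
  refine ⟨MulAction.stabilizer G v, fun h => hv0 (hfix v fun g =>
    (h ▸ Subgroup.mem_top g : g ∈ MulAction.stabilizer G v)), ?_⟩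
  have : Finite (MulAction.orbit G v) := Set.finite_range _
  obtain ⟨x, hx⟩ := Module.Dual.exists_forall_ne_zero_of_forall_exists
    (ι := {p : MulAction.orbit G v × MulAction.orbit G v // p.1 ≠ p.2})
    (fun p => dotProductBilin ℂ ℂ (p.1.1.1 - p.1.2.1)) fun p => by
      by_contra! h
      exact p.2 (Subtype.ext (sub_eq_zero.1 (dotProduct_eq_zero _ h)))
  have h3 := Module.End.eigenvectors_linearIndependent'
    ((dotProductBilin ℂ ℂ x ∘ₗ LinearMap.snd ℂ ℂ _).prod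
      ((T x).mulVecLin ∘ₗ LinearMap.snd ℂ ℂ _ - (LinearMap.fst ℂ ℂ _).smulRight (c • x)))
    (fun u : MulAction.orbit G v => (u : ι → ℂ) ⬝ᵥ x) (fun u u' h => by_contra fun h' =>
      hx ⟨(u, u'), h'⟩ (by simpa [sub_eq_zero] using h)) (fun u => (1, u.1)) (by
      rintro ⟨_, g, rfl⟩
      refine ⟨Module.End.mem_eigenspace_iff.2 (Prod.ext (by simp [dotProduct_comm]) ?_), by simp⟩
      obtain ⟨y, rfl⟩ : ∃ y, x = X g *ᵥ y :=
        ⟨(X g)ᵀ *ᵥ x, by rw [mulVec_mulVec, mul_eq_one_comm.1 (hX g), one_mulVec]⟩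
      change T (X g *ᵥ y) *ᵥ X g *ᵥ v - (1 : ℂ) • c • X g *ᵥ y =
        ((X g *ᵥ v) ⬝ᵥ X g *ᵥ y) • X g *ᵥ v
      rw [hT, ← mulVec_mulVec, ← mulVec_mulVec, hXX, hdot, one_smul, ← mulVec_smul, ← mulVec_sub,
        h2, mulVec_smul])
  have := Fintype.ofFinite (MulAction.orbit G v)
  have h4 := h3.fintype_card_le_finrank
  rw [MulAction.index_stabilizer, ← Nat.card_coe_set_eq, Nat.card_eq_fintype_card]
  simpa [add_comm] using h4

end Core

/-- The permutation action of degree `χ 1 + 1`. -/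
theorem exists_index [Fintype G] {χ ψ : IrrCharacter G} (hν : fsInd (χ : G → ℂ) = 1)
    (h1 : χ ≠ irrOne G) (hψ : ∀ g, (χ : G → ℂ) g ^ 2 - (χ : G → ℂ) (g ^ 2) = 2 * (ψ : G → ℂ) g)
    (hne : ψ ≠ χ) (h3 : classInner (fun g => (χ : G → ℂ) g ^ 2) χ ≠ 0) :
    ∃ H : Subgroup G, H ≠ ⊤ ∧ H.index ≤ charDegree (χ : G → ℂ) + 1 := by
  classical
  obtain ⟨n, ρ, hρ, he⟩ := χ.2
  have hr := (fsInd_ne_zero_iff χ.2).1 (by rw [hν]; exact one_ne_zero)
  obtain ⟨⟨M, hM0, hM⟩, hM'⟩ := FS.forms_matrix (FS.matHom ρ) (by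
    simp only [congrFun (FS.trace_matHom ρ), he]
    exact FS.classInner_conj_of_real χ.2 hr)
  obtain ⟨Q, hQ⟩ := exists_orth (by rw [hM' M hM, FS.trace_matHom, he, hν, one_smul])
    (FS.det_ne_zero_of_invariant ρ hM0 hM)
  have hQ' := mul_eq_one_comm.1 hQ
  let X : G →* Matrix (Fin n) (Fin n) ℂ :=
    { toFun g := Qᵀ * M * FS.matHom ρ g * Q
      map_one' := by simp [hQ]
      map_mul' g h := by
        simp only [map_mul, Matrix.mul_assoc]
        rw [← Matrix.mul_assoc Qᵀ M (FS.matHom ρ h * Q), ← Matrix.mul_assoc Q, hQ',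
          Matrix.one_mul] }
  have hX : ∀ g, (X g)ᵀ * X g = 1 := fun g => by
    have h4 : (Qᵀ * M)ᵀ * (Qᵀ * M) = M := by
      rw [transpose_mul, transpose_transpose, Matrix.mul_assoc, hQ', Matrix.mul_one, hM' M hM,
        FS.trace_matHom, he, hν, one_smul]
    calc _ = Qᵀ * ((FS.matHom ρ g)ᵀ * ((Qᵀ * M)ᵀ * (Qᵀ * M)) * FS.matHom ρ g) * Q := by
          simp [X, Matrix.mul_assoc]
      _ = 1 := by rw [h4, hM, hQ]
  have htr : ∀ g, (X g).trace = (χ : G → ℂ) g := fun g => by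
    change (Qᵀ * M * FS.matHom ρ g * Q).trace = _
    rw [trace_mul_cycle, hQ', Matrix.one_mul, congrFun (FS.trace_matHom ρ), he]
  have hv : (vecRep X).character = χ := funext fun g => (char_vecRep X g).trans (htr g)
  have ha : (altRep X).character = ψ := funext fun g => mul_left_cancel₀ two_ne_zero (by
    rw [char_altRep, htr, htr, hψ])
  have hi := (isIrreducible_iff_isIrrCharacter _).2 (hv ▸ χ.2)
  have := (isIrreducible_iff_isIrrCharacter _).2 (ha ▸ ψ.2)
  have h4 := classInner_character (vecRep X) (altRep X)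
  rw [hv, ha, classInner_irr, if_neg hne, eq_comm, Nat.cast_eq_zero] at h4
  replace h4 := (Module.finrank_zero_iff (R := ℂ)
    (M := (vecRep X).IntertwiningMap (altRep X))).1 h4
  have h5 := classInner_character (vecRep X) (matRep X)
  rw [hv, funext fun g => (char_matRep X g).trans (congrArg (· ^ 2) (htr g))] at h5
  have h6 := Module.nontrivial_of_finrank_pos (Nat.pos_of_ne_zero (Nat.cast_ne_zero.1 (h5 ▸ h3)))
  obtain ⟨T, hT0⟩ := exists_ne (0 : (vecRep X).IntertwiningMap (matRep X))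
  have hT : ∀ g x, T.toLinearMap (X g *ᵥ x) = X g * T.toLinearMap x * (X g)ᵀ := fun g x =>
    LinearMap.congr_fun (T.isIntertwining' g) x
  have hn : n = charDegree (χ : G → ℂ) := by
    have := χ.2.coe_charDegree
    rw [← htr, map_one, trace_one, Fintype.card_fin] at this
    exact_mod_cast this.symm
  have : Nonempty (Fin n) := ⟨⟨0, hn ▸ χ.2.charDegree_pos⟩⟩
  have h7 := classInner_character_one (vecRep X)
  rw [hv, show (fun _ : G => (1 : ℂ)) = (irrOne G : G → ℂ) from rfl, classInner_irr, if_neg h1,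
    eq_comm, Nat.cast_eq_zero, Submodule.finrank_eq_zero] at h7
  obtain ⟨c, hc⟩ := exists_bracket hX hT (symm_of h4 hT)
  simpa [hn] using core hX (fun v hv => (Submodule.eq_bot_iff _).1 h7 v hv)
    ((Representation.IsIrreducible.injective_or_eq_zero T).resolve_right hT0) hT (symm_of h4 hT)
    (comm_of hX h4 hT) hc

end Cfsg.Agent.Inv.Cubic
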