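import Mathlib
import Cfsg.Agent.Inv.PrimeSylow
import Cfsg.Agent.Inv.ChTools3
import Cfsg.Agent.Perm.PrimeIndex
import Cfsg.Agent.Spor.SteinerAut

/-!
Steiner systems formed by the fixed point sets of involutions.
-/

set_option autoImplicit false

namespace Cfsg.Agent.Inv.FixSt

open Finset MulAction Cfsg.Agent.Inv.PS
open scoped Pointwise

variable {G Ω : Type*} [Group G] [MulAction G Ω]

theorem trans_of_sum [Fintype G] [Finite Ω] {k : ℕ}
    (h : ∑ g : G, (fx Ω g).descFactorial k = Nat.card G) : IsMultiplyPretransitive G Ω k := by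
  classical
  have := Fintype.ofFinite Ω
  have := Fintype.ofFinite (orbitRel.Quotient G (Fin k ↪ Ω))
  have h1 := sum_card_fixedBy_eq_card_orbits_mul_card_group G (Fin k ↪ Ω)
  have h2 : ∀ g : G, Fintype.card (fixedBy (Fin k ↪ Ω) g) = (fx Ω g).descFactorial k := fun g => by
    rw [fx, Nat.card_eq_fintype_card, ← Fintype.card_fin k, ← Fintype.card_embedding_eq,
      Fintype.card_fin]
    exact Fintype.card_congr
      { toFun := fun x => ⟨fun i => ⟨x.1 i, DFunLike.congr_fun x.2 i⟩,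
          fun _ _ h => x.1.injective (congrArg Subtype.val h)⟩
        invFun := fun y => ⟨y.trans (Function.Embedding.subtype _), by
          ext i; exact (y i).2⟩
        left_inv := fun _ => rfl
        right_inv := fun _ => rfl }
  rw [sum_congr rfl fun g _ => h2 g, h, Nat.card_eq_fintype_card] at h1
  exact (pretransitive_iff_subsingleton_quotient G _).2 (Fintype.card_le_one_iff_subsingleton.1
    (Nat.eq_of_mul_eq_mul_right Fintype.card_pos (h1.symm.trans (one_mul _).symm)).le)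

theorem sq_eq_one [Finite G] {S : Subgroup G} {k : ℕ} (hS : Nat.card S = 2 ^ k)
    (h4 : ∀ w ∈ S, orderOf w ≠ 4) {s : G} (hs : s ∈ S) : s ^ 2 = 1 := by
  by_contra h
  obtain ⟨j, -, hj⟩ := (Nat.dvd_prime_pow Nat.prime_two).1 (hS ▸ S.orderOf_dvd_natCard hs)
  obtain _ | _ | j := j
  · exact h (orderOf_dvd_iff_pow_eq_one.1 (by simp [hj]))
  · exact h (orderOf_dvd_iff_pow_eq_one.1 (by simp [hj]))
  refine h4 (s ^ 2 ^ j) (pow_mem hs _) ?_
  rw [orderOf_pow_of_dvd (by positivity) (hj ▸ pow_dvd_pow 2 (by omega)), hj, add_assoc, pow_add,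
    Nat.mul_div_cancel_left _ (by positivity)]
  rfl

variable [Fintype Ω] [DecidableEq Ω]

/-- The fixed points. -/
def fixF (Ω : Type*) [MulAction G Ω] [Fintype Ω] [DecidableEq Ω] (u : G) : Finset Ω :=
  univ.filter fun a => u • a = a

theorem mem_fixF {u : G} {a : Ω} : a ∈ fixF Ω u ↔ u • a = a := by simp [fixF]

theorem card_fixF (u : G) : (fixF Ω u).card = fx Ω u :=
  (Nat.subtype_card _ fun _ => mem_fixF).symm

theorem fix_sixteen [Finite G] {S : Subgroup G} (hS : Nat.card S = 16) {T : Finset Ω}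
    (hΩ : Fintype.card Ω = 19 + T.card) (hT : ∀ g ∈ S, T ⊆ fixF Ω g)
    (h2 : ∀ s ∈ S, s ^ 2 = 1) (h3 : ∀ s ∈ S, s ≠ 1 → (fixF Ω s).card = T.card + 3)
    {u v : G} (hu : u ∈ S) (hu1 : u ≠ 1) (hv : v ∈ S) : fixF Ω u ⊆ fixF Ω v := by
  classical
  have := Fintype.ofFinite S
  have hc : ∀ s t : S, s * t = t * s := fun s t => by
    have h4 : ∀ s : S, s⁻¹ = s := fun s =>
      inv_eq_of_mul_eq_one_left (Subtype.ext (by simpa [pow_two] using h2 s s.2))
    rw [← h4 (s * t), mul_inv_rev, h4, h4]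
  let Z : Finset Ω := univ.filter fun a => ∀ s : S, s • a = a
  have h4 : ∀ a : Ω, (univ.filter fun s : S => s • a = a).card % 7 =
      (1 + if a ∈ Z then 1 else 0) := fun a => by
    have h5 := card_orbit_mul_card_stabilizer_eq_card_group S a
    rw [← Nat.card_eq_fintype_card (α := S), hS, Fintype.card_of_subtype
      (univ.filter fun s : S => s • a = a) (p := (· ∈ stabilizer S a)) (by simp)] at h5
    split_ifs with h6
    · rw [filter_true_of_mem fun s _ => (mem_filter.1 h6).2 s, card_univ,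
        ← Nat.card_eq_fintype_card, hS]
    by_cases h7 : (univ.filter fun s : S => s • a = a).card = 1
    · rw [h7]
    obtain ⟨w, hw, hw1⟩ := exists_mem_ne (s := univ.filter fun s : S => s • a = a)
      (lt_of_le_of_ne (card_pos.2 ⟨1, by simp⟩) (Ne.symm h7)) 1
    have h8 : Fintype.card (orbit S a) ≤ (fixF Ω (w : G) \ T).card := by
      rw [← Set.toFinset_card]
      refine card_le_card fun b hb => ?_
      obtain ⟨s, rfl⟩ := Set.mem_toFinset.1 hb
      refine mem_sdiff.2 ⟨mem_fixF.2 ?_, fun h9 => h6 (mem_filter.2 ⟨mem_univ _, fun t => ?_⟩)⟩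
      · change w • s • a = s • a
        rw [← mul_smul, hc, mul_smul, (mem_filter.1 hw).2]
      · have h10 : t • s • a = s • a := mem_fixF.1 (hT t t.2 h9)
        rwa [← mul_smul, hc, mul_smul, smul_left_cancel_iff] at h10
    have h9 : Fintype.card (orbit S a) ≠ 1 := fun h9 => h6 (mem_filter.2 ⟨mem_univ _, fun t =>
      congrArg Subtype.val ((Fintype.card_le_one_iff.1 h9.le) ⟨_, mem_orbit a t⟩
        ⟨_, mem_orbit_self a⟩)⟩)
    rw [card_sdiff_of_subset (hT _ w.2), h3 _ w.2 (by simpa using hw1)] at h8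
    generalize Fintype.card (orbit S a) = n at h5 h8 h9
    have : n ≤ 3 := by omega
    interval_cases n <;> omega
  have h5 : ∑ a : Ω, (univ.filter fun s : S => s • a = a).card =
      ∑ s : S, (fixF Ω (s : G)).card := by
    simp only [fixF, card_filter]
    exact sum_comm
  rw [CT.sum_subgroup_const S (fun s => (fixF Ω s).card) h3, hS,
    show fixF Ω (1 : G) = univ by ext; simp [mem_fixF], card_univ, smul_eq_mul] at h5
  have h6 := congrArg (· % 7) h5
  simp only [sum_nat_mod univ 7, h4, sum_add_distrib, sum_const, card_univ, smul_eq_mul,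
    sum_ite_mem, univ_inter] at h6
  have h7 : Z ⊆ fixF Ω u := fun a ha => mem_fixF.2 ((mem_filter.1 ha).2 ⟨u, hu⟩)
  have h8 := card_le_card h7
  have h9 := card_le_card (show T ⊆ Z from fun a ha =>
    mem_filter.2 ⟨mem_univ _, fun s => mem_fixF.1 (hT s s.2 ha)⟩)
  have h10 := h3 u hu hu1
  rw [← eq_of_subset_of_card_le h7 (by omega)]
  exact fun a ha => mem_fixF.2 ((mem_filter.1 ha).2 ⟨v, hv⟩)

theorem steiner [Finite G] {t : ℕ} (hΩ : Fintype.card Ω = 19 + t)
    (hG : Nat.card G = 48 * (19 + t).descFactorial t) (ht : IsMultiplyPretransitive G Ω t)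
    (h2 : ∀ u : G, orderOf u = 2 → t ≤ fx Ω u → fx Ω u = t + 3)
    (h4 : ∀ w : G, orderOf w = 4 → fx Ω w < t) : ∃ B : Set (Finset Ω),
      IsSteinerSystem t (t + 3) B ∧ ∀ g : G, toPermHom G Ω g ∈ setSystemAut B := by
  classical
  refine ⟨{b | b.card = t + 3 ∧ ∃ u : G, orderOf u = 2 ∧ b = fixF Ω u},
    ⟨fun _ h => h.1, fun T hT => ?_⟩, Spor.toPerm_mem_aut ?_⟩
  swap
  · rintro g _ ⟨h, u, hu, rfl⟩
    refine ⟨by rwa [card_smul_finset], g * u * g⁻¹, ((MulAut.conj g).orderOf_eq u).trans hu, ?_⟩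
    ext a
    rw [← inv_smul_mem_iff, mem_fixF, mem_fixF, mul_smul, mul_smul, eq_inv_smul_iff]
  let x : Fin t ↪ Ω := (T.equivFinOfCardEq hT).symm.toEmbedding.trans (Function.Embedding.subtype _)
  have hK : ∀ g : G, g ∈ stabilizer G x ↔ T ⊆ fixF Ω g := fun g =>
    ⟨fun h a ha => mem_fixF.2 (by
      simpa [x] using DFunLike.congr_fun (mem_stabilizer_iff.1 h) (T.equivFinOfCardEq hT ⟨a, ha⟩)),
    fun h => Function.Embedding.ext fun i => mem_fixF.1 (h ((T.equivFinOfCardEq hT).symm i).2)⟩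
  have h1 := (stabilizer G x).card_mul_index
  rw [Perm.index_stabilizer_embedding ht, hG, Nat.card_eq_fintype_card (α := Ω), hΩ] at h1
  replace h1 := Nat.eq_of_mul_eq_mul_right (Nat.descFactorial_pos.2 (by omega)) h1
  generalize stabilizer G x = K at hK h1
  have h3 : ∀ g ∈ K, t ≤ fx Ω g := fun g hg => hT ▸ card_fixF (Ω := Ω) g ▸ card_le_card ((hK g).1 hg)
  have h5 : ∀ u ∈ K, orderOf u = 2 → ∃ S ≤ K, u ∈ S ∧ Nat.card S = 16 := fun u hu h5 => by
    have h6 : IsPGroup 2 (Subgroup.zpowers (⟨u, hu⟩ : K)) := IsPGroup.of_card (n := 1) (by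
      rw [Nat.card_zpowers, ← Subgroup.orderOf_coe, h5, pow_one])
    obtain ⟨S, hS⟩ := h6.exists_le_sylow
    refine ⟨(S : Subgroup K).map K.subtype, Subgroup.map_subtype_le _,
      ⟨_, hS (Subgroup.mem_zpowers _), rfl⟩, ?_⟩
    rw [Subgroup.card_subtype, S.card_eq_multiplicity, h1]
    decide +kernel
  have h6 : ∀ S ≤ K, Nat.card S = 16 → ∀ u ∈ S, u ≠ 1 → ∀ v ∈ S, fixF Ω u ⊆ fixF Ω v :=
    fun S hS h6 u hu h7 v hv => by
      have h8 : ∀ s ∈ S, s ^ 2 = 1 := fun s => sq_eq_one (k := 4) h6 fun w hw h8 =>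
        absurd (h4 w h8) (not_lt.2 (h3 w (hS hw)))
      exact fix_sixteen h6 (hT ▸ hΩ) (fun g hg => (hK g).1 (hS hg)) h8 (fun s hs h9 => by
        rw [card_fixF, hT, h2 s (orderOf_eq_prime (h8 s hs) h9) (h3 s (hS hs))]) hu h7 hv
  have h7 : ∀ u ∈ K, orderOf u = 2 → ∀ v ∈ K, orderOf v = 2 → fixF Ω u ⊆ fixF Ω v :=
    fun u hu h7 v hv h8 => by
      obtain ⟨S, hS, h9, h10⟩ := h5 u hu h7
      obtain ⟨R, hR, h11, h12⟩ := h5 v hv h8
      obtain ⟨w, hw, h13⟩ := (S ⊓ R).bot_or_exists_ne_one.resolve_left fun h13 => by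
        have h14 := Nat.card_le_card_of_injective
          (fun q : S × R => (⟨q.1 * q.2, mul_mem (hS q.1.2) (hR q.2.2)⟩ : K)) fun _ _ h =>
            Subgroup.mul_injective_of_disjoint (disjoint_iff.2 h13) (congrArg Subtype.val h)
        rw [Nat.card_prod, h10, h12] at h14
        omega
      exact (h6 S hS h10 u h9 (CT.ne_one_of_orderOf h7 (by norm_num)) w hw.1).trans
        (h6 R hR h12 w hw.2 h13 v h11)
  obtain ⟨u, hu⟩ := exists_prime_orderOf_dvd_card' (G := K) 2 (by rw [h1]; norm_num)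
  rw [← Subgroup.orderOf_coe] at hu
  refine ⟨fixF Ω (u : G), ⟨⟨by rw [card_fixF, h2 _ hu (h3 _ u.2)], u, hu, rfl⟩, (hK _).1 u.2⟩, ?_⟩
  rintro _ ⟨⟨-, v, hv, rfl⟩, h8⟩
  exact (h7 v ((hK v).2 h8) hv u u.2 hu).antisymm (h7 u u.2 hu v ((hK v).2 h8) hv)

/-- The embedding of a simple group in the automorphism group of a model of the system. -/
theorem exists_inj [Finite G] [IsSimpleGroup G] {t : ℕ} (hΩ : Fintype.card Ω = 19 + t)
    (hG : Nat.card G = 48 * (19 + t).descFactorial t) (ht : IsMultiplyPretransitive G Ω t)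
    (h2 : ∀ u : G, orderOf u = 2 → t ≤ fx Ω u → fx Ω u = t + 3)
    (h4 : ∀ w : G, orderOf w = 4 → fx Ω w < t) (h0 : t ≠ 0) {β : Type*} [DecidableEq β]
    {B' : Set (Finset β)} (hB : ∀ B : Set (Finset Ω), IsSteinerSystem t (t + 3) B →
      SetSystemIso B B') : ∃ f : G →* setSystemAut B', Function.Injective f := by
  obtain ⟨B, h1, h3⟩ := steiner hΩ hG ht h2 h4
  obtain ⟨e, rfl⟩ := hB B h1
  refine ⟨(Spor.autEquiv e B).toMonoidHom.comp ((toPermHom G Ω).codRestrict _ h3),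
    (Spor.autEquiv e B).injective.comp ((MonoidHom.ker_eq_bot_iff _).1
      ((MonoidHom.normal_ker _).eq_bot_or_eq_top.resolve_right fun h => ?_))⟩
  have := isMultiplyPretransitive_of_le' (G := G) (α := Ω) (Nat.pos_of_ne_zero h0)
    (by rw [ENat.card_eq_coe_fintype_card, hΩ]; norm_cast; omega)
  have := is_one_pretransitive_iff.1 this
  obtain ⟨a, b, hab⟩ := Fintype.exists_pair_of_one_lt_card (α := Ω) (by omega)
  obtain ⟨g, rfl⟩ := exists_smul_eq G a b
  have h5 : (toPermHom G Ω).codRestrict _ h3 g = 1 := MonoidHom.mem_ker.1 (h ▸ Subgroup.mem_top g)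
  exact hab (DFunLike.congr_fun (congrArg Subtype.val h5) a).symm

end Cfsg.Agent.Inv.FixSt
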