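import Mathlib
import Cfsg.Agent.Inv.M22A
import Cfsg.Agent.Inv.Cubic
import Cfsg.Agent.Inv.FixSteiner
import Cfsg.Agent.Inv.M11E
import Cfsg.Agent.S0410
import Cfsg.Agent.S0414

/-!
Simple groups of order 443520: the action on 22 points.
-/

set_option autoImplicit false

namespace Cfsg.Agent.Inv

open Finset Cfsg.Agent.Ch Cfsg.Agent.Inv.PB Cfsg.Agent.Inv.M11 Cfsg.Agent.Inv.PS MulAction

variable {G : Type*} [Group G]

/-- The multiplicities in the symmetric and the alternating square of a rational character. -/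
theorem CT.exists_sq [Fintype G] {χ : IrrCharacter G} {a : G → ℤ} (ha : ∀ g, (χ : G → ℂ) g = a g) :
    ∃ m n : IrrCharacter G → ℕ, fsInd (χ : G → ℂ) = m (irrOne G) - n (irrOne G) ∧
      (∀ φ : IrrCharacter G, classInner (fun g => (χ : G → ℂ) g ^ 2) φ = m φ + n φ) ∧
      (∀ g, ∀ s : ℤ, a g ^ 2 + a (g ^ 2) = 2 * s → ∑ φ, m φ * (φ : G → ℂ) g = s) ∧
      (∀ g, ∀ s : ℤ, a g ^ 2 - a (g ^ 2) = 2 * s → ∑ φ, n φ * (φ : G → ℂ) g = s) ∧
      (∀ g, 2 * ∑ φ, m φ * (φ : G → ℂ) g = (a g ^ 2 + a (g ^ 2) : ℤ)) ∧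
      ∀ g, 2 * ∑ φ, n φ * (φ : G → ℂ) g = (a g ^ 2 - a (g ^ 2) : ℤ) := by
  obtain ⟨m, h1, h2⟩ := (CT.isCharacter_sym χ.isCharacter).exists_mult
  obtain ⟨n, h3, h4⟩ := (CT.isCharacter_alt χ.isCharacter).exists_mult
  have h5 : ∀ g, 2 * ∑ φ, m φ * (φ : G → ℂ) g = (a g ^ 2 + a (g ^ 2) : ℤ) := fun g => by
    have := congrFun h2 g
    simp only [Finset.sum_apply, Pi.smul_apply, nsmul_eq_mul, ha] at this
    push_cast
    linear_combination -2 * this
  have h6 : ∀ g, 2 * ∑ φ, n φ * (φ : G → ℂ) g = (a g ^ 2 - a (g ^ 2) : ℤ) := fun g => by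
    have := congrFun h4 g
    simp only [Finset.sum_apply, Pi.smul_apply, nsmul_eq_mul, ha] at this
    push_cast
    linear_combination -2 * this
  refine ⟨m, n, ?_, fun φ => ?_, fun g s h => ?_, fun g s h => ?_, h5, h6⟩
  · rw [← h1, ← h3, fsInd_def, classInner_def, classInner_def, ← mul_sub, ← sum_sub_distrib]
    exact congrArg _ (sum_congr rfl fun g _ => by simp [irrOne_apply, pow_two]; ring)
  · rw [← h1, ← h3, classInner_def, classInner_def, classInner_def, ← mul_add, ← sum_add_distrib]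
    exact congrArg _ (sum_congr rfl fun g _ => by ring)
  · exact mul_left_cancel₀ two_ne_zero (by rw [h5, h]; simp)
  · exact mul_left_cancel₀ two_ne_zero (by rw [h6, h]; simp)

namespace M22

/-- The test for the column of an element of order 4. -/
def tst (a c d e f k : ℤ) : Prop :=
  a ^ 2 + 5 = 2 * (1 + a + c + e) ∨ a ^ 2 + 5 = 2 * (1 + a + 2 * c + d) →
  a ^ 2 - 5 = 2 * f ∨ a ^ 2 - 5 = 2 * (a + 2 * (1 - c + d) + d) → ∀ N ∈ Nat.divisors 384,
  N = 1 + a ^ 2 + 2 * (1 - c + d) ^ 2 + c ^ 2 + d ^ 2 + e ^ 2 + f ^ 2 + (e + d - a - 1) ^ 2 +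
    2 * (1 - a + 2 * (1 - c + d) + f) ^ 2 + k ^ 2 → 99 ∣ (443520 / N : ℕ) * d →
  a = 1 ∧ a ^ 2 - 5 ≠ 2 * (a + 2 * (1 - c + d) + d)

instance instDecTst (a c d e f k : ℤ) : Decidable (tst a c d e f k) := by
  unfold tst
  infer_instance

theorem tst_all : ∀ i < 10, ∀ j < 10, ∀ l < 10, ∀ m < 10,
    tst (4 * (i : ℕ) - 19) (4 * (j : ℕ) - 17) (4 * (l : ℕ) - 17) (4 * (m : ℕ) - 18)
      (4 * i + 12 * j - 8 * l + 4 * m - 58) (-12 * j - 12 * m + 109) := by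
  decide +kernel

theorem tst_of {a c d e f k : ℤ} (ha : -20 < a ∧ a < 20) (hc : -20 < c ∧ c < 20)
    (hd : -20 < d ∧ d < 20) (he : -20 < e ∧ e < 20) (e1 : 8 ∣ 21 + 5 - 2 * a)
    (e2 : 8 ∣ 55 + 7 - 2 * c) (e3 : 8 ∣ 99 + 3 - 2 * d) (e4 : 8 ∣ 154 + 10 - 2 * e)
    (hf : f = a + 3 * c - 2 * d + e - 4) (hk : k = -4 + 2 * a + 3 * c - 4 * d - e - 2 * f) :
    tst a c d e f k := by
  convert tst_all ((a + 19) / 4).toNat (by omega) ((c + 17) / 4).toNat (by omega)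
    ((d + 17) / 4).toNat (by omega) ((e + 18) / 4).toNat (by omega) using 1 <;> omega

theorem arith_sym {o a b c d e f h : ℕ} (h1 : (231 : ℤ) = o + 21 * a + 45 * b + 55 * c + 99 * d +
    154 * e + 210 * f + 231 * h) (h2 : (23 : ℤ) = o + 5 * a - 3 * b + 7 * c + 3 * d + 10 * e +
    2 * f + 7 * h) (h3 : (0 : ℤ) = o - a + b + f) (h4 : (0 : ℤ) = 2 * (o - c + d) - b)
    (h5 : (1 : ℤ) = o + a - d - e + h) : o = 1 ∧ a = 1 ∧ b = 0 ∧ f = 0 ∧ h = 0 ∧
      (c = 1 ∧ d = 0 ∧ e = 1 ∨ c = 2 ∧ d = 1 ∧ e = 0) := by omega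

theorem arith_alt {o a b c d e f h : ℕ} (h1 : (210 : ℤ) = o + 21 * a + 45 * b + 55 * c + 99 * d +
    154 * e + 210 * f + 231 * h) (h2 : (2 : ℤ) = o + 5 * a - 3 * b + 7 * c + 3 * d + 10 * e +
    2 * f + 7 * h) (h3 : (1 : ℤ) = o - a + b + f) (h4 : (0 : ℤ) = 2 * (o - c + d) - b)
    (h5 : (0 : ℤ) = o + a - d - e + h) : o = 0 ∧ c = 0 ∧ e = 0 ∧ h = 0 ∧
      (a = 0 ∧ b = 0 ∧ d = 0 ∧ f = 1 ∨ a = 1 ∧ b = 2 ∧ d = 1 ∧ f = 0) := by omega

variable [Finite G] {A B B' Γ D E F H Θ Θ' K : IrrCharacter G} {a c d e f h k : G → ℤ}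
  (s : St A B B' Γ D E F H Θ Θ' K a c d e f h k)
include s

theorem St.col {g : G} (h5 : ¬ 5 ∣ orderOf g) (h7 : ¬ 7 ∣ orderOf g) (h11 : ¬ 11 ∣ orderOf g) :
    ∃ v : IrrCharacter G → ℤ, (∀ χ : IrrCharacter G, (χ : G → ℂ) g = v χ) ∧
      v (irrOne G) = 1 ∧ v A = a g ∧ v B = 1 - c g + d g ∧ v B' = 1 - c g + d g ∧ v Γ = c g ∧
      v D = d g ∧ v E = e g ∧ v F = f g ∧ v H = e g + d g - a g - 1 ∧
      v Θ = 1 - a g + 2 * (1 - c g + d g) + f g ∧ v Θ' = 1 - a g + 2 * (1 - c g + d g) + f g ∧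
      v K = k g := by
  have h1 : ∀ θ, θ = Θ ∨ θ = Θ' → (θ : G → ℂ) g = (1 - a g + 2 * (1 - c g + d g) + f g : ℤ) :=
    fun θ hθ => by
      rw [s.r11 g h11 θ hθ, (s.r7 g h7).1, (s.r7 g h7).2]
      push_cast
      ring
  have h2 : ∀ χ : IrrCharacter G, ∃ n : ℤ, (χ : G → ℂ) g = n := fun χ => by
    have := s.all χ
    simp only [List.mem_cons, List.not_mem_nil, or_false] at this
    rcases this with rfl | rfl | rfl | rfl | rfl | rfl | rfl | rfl | rfl | rfl | rfl | rfl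
    exacts [⟨1, by simp [irrOne_apply]⟩, ⟨_, s.ha g⟩, ⟨_, (s.r7 g h7).1⟩, ⟨_, (s.r7 g h7).2⟩,
      ⟨_, s.hc g⟩, ⟨_, s.hd g⟩, ⟨_, s.he g⟩, ⟨_, s.hf g⟩, ⟨_, s.hh g⟩, ⟨_, h1 _ (.inl rfl)⟩,
      ⟨_, h1 _ (.inr rfl)⟩, ⟨_, s.hk g⟩]
  choose v hv using h2
  have i : ∀ {χ : IrrCharacter G} {n : ℤ}, (χ : G → ℂ) g = n → v χ = n :=
    fun h => Int.cast_injective.eq_iff.1 ((hv _).symm.trans h)
  exact ⟨v, hv, i (by simp [irrOne_apply]), i (s.ha g), i (s.r7 g h7).1, i (s.r7 g h7).2,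
    i (s.hc g), i (s.hd g), i (s.he g), i (s.hf g), (i (s.hh g)).trans (s.r5 g h5),
    i (h1 _ (.inl rfl)), i (h1 _ (.inr rfl)), i (s.hk g)⟩

theorem St.four [IsSimpleGroup G] (hG : Nat.card G = 443520) {w : G} (hw : orderOf w = 4)
    (hS : a w ^ 2 + 5 = 2 * (1 + a w + c w + e w) ∨ a w ^ 2 + 5 = 2 * (1 + a w + 2 * c w + d w))
    (hL : a w ^ 2 - 5 = 2 * f w ∨ a w ^ 2 - 5 = 2 * (a w + 2 * (1 - c w + d w) + d w)) :
    a w = 1 ∧ a w ^ 2 - 5 ≠ 2 * (a w + 2 * (1 - c w + d w) + d w) := by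
  have hu := orderOf_sq_of_four hw
  obtain ⟨h1, au, cu, du, eu, fu⟩ := s.inv _ hu
  have hper : commutator G = ⊤ := CT.commutator_eq_top (by rw [hG]; norm_num)
  have h4 : w ^ 4 = 1 := by rw [← hw, pow_orderOf_eq_one]
  obtain ⟨v, hv, h2⟩ := s.col (g := w) (by omega) (by omega) (by omega)
  obtain ⟨v', hv', h3⟩ := s.col (g := w ^ 2) (by omega) (by omega) (by omega)
  have h5 := CT.col_deg (CT.ne_one_of_orderOf hw (by norm_num)) hv
  have h6 := CT.col_deg (CT.ne_one_of_orderOf hu (by norm_num)) hv'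
  have h7 := CT.col_norm hv
  have h8 : Nat.card (C w) ∣ 384 := h1 ▸ Subgroup.card_dvd_of_le (C_le_C_pow w 2)
  have h9 := CT.col_orth_int (mt CT.orderOf_eq_of_isConj (by omega)) hv hv'
  have h10 := CT.deg_dvd D (s.hd w)
  have e1 := CT.four_modEq hper A.isCharacter h4 (s.ha _) (s.ha _)
  have e2 := CT.four_modEq hper Γ.isCharacter h4 (s.hc _) (s.hc _)
  have e3 := CT.four_modEq hper D.isCharacter h4 (s.hd _) (s.hd _)
  have e4 := CT.four_modEq hper E.isCharacter h4 (s.he _) (s.he _)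
  simp only [s.sum, h2, h3, au, cu, du, eu, fu, deg_irrOne, s.dA, s.dB, s.dB', s.dΓ, s.dD, s.dE,
    s.dF, s.dH, s.dΘ, s.dΘ', s.dK, Nat.cast_ofNat, Nat.cast_one] at h5 h6 h7 h9 h10 e1 e2 e3 e4
  rw [show k (w ^ 2) = 1 by omega] at h9
  have h11 : ∀ χ : IrrCharacter G, -20 < v χ ∧ v χ < 20 := fun χ => by
    have h11 := CT.col_le {χ} w v fun ψ _ => hv ψ
    have h12 : (Nat.card (C w) : ℤ) ≤ 384 := by exact_mod_cast Nat.le_of_dvd (by norm_num) h8
    rw [sum_singleton] at h11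
    exact abs_lt_of_sq_lt_sq' (by linarith) (by norm_num)
  have e5 := h11 A
  have e6 := h11 Γ
  have e7 := h11 D
  have e8 := h11 E
  simp only [h2] at e5 e6 e7 e8
  exact tst_of (k := k w) e5 e6 e7 e8 e1 e2 e3 e4 (by linarith) (by linarith) hS hL _
    (Nat.mem_divisors.2 ⟨h8, by norm_num⟩) (by rw [← h7]; ring) (by rwa [← index_C_eq hG rfl])

theorem St.exists_four (hG : Nat.card G = 443520) : ∃ w : G, orderOf w = 4 := by
  by_contra! h1
  obtain ⟨S, -, hS⟩ := CT.exists_le_card_pow (⊤ : Subgroup G) (p := 2) (k := 7) Nat.prime_two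
    (by rw [Subgroup.card_top, hG]; norm_num)
  have := Fintype.ofFinite S
  have h2 := CT.sum_int_eq_fix A.isCharacter S fun g _ => s.ha g
  have h3 : a 1 = 21 := by exact_mod_cast (s.ha 1).symm.trans (apply_one_of_deg s.dA)
  rw [CT.sum_subgroup_const S a fun g hg h => (s.inv g
    (orderOf_eq_prime (FixSt.sq_eq_one hS (fun w _ => h1 w) hg) h)).2.1, hS, h3] at h2
  norm_num at h2
  omega

theorem St.eqs (hG : Nat.card G = 443520) (m : IrrCharacter G → ℕ) {n t : ℤ}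
    (h1 : ∑ φ, m φ * (φ : G → ℂ) 1 = n)
    (h2 : ∀ u : G, orderOf u = 2 → ∑ φ, m φ * (φ : G → ℂ) u = t) (hn : n < 280) :
    m Θ = 0 ∧ m Θ' = 0 ∧ m K = 0 ∧ n = m (irrOne G) + 21 * m A + 45 * (m B + m B') + 55 * m Γ +
      99 * m D + 154 * m E + 210 * m F + 231 * m H ∧ t = m (irrOne G) + 5 * m A -
      3 * (m B + m B') + 7 * m Γ + 3 * m D + 10 * m E + 2 * m F + 7 * m H := by
  obtain ⟨u, hu⟩ := exists_prime_orderOf_dvd_card' (G := G) 2 (by rw [hG]; norm_num)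
  obtain ⟨v, hv, h3⟩ := s.col (g := u) (by omega) (by omega) (by omega)
  have h4 := h2 u hu
  simp only [hv] at h4
  simp only [dg_spec] at h1
  norm_cast at h1 h4
  simp only [s.sum, h3, s.inv u hu, dg, deg_irrOne, s.dA, s.dB, s.dB', s.dΓ, s.dD, s.dE,
    s.dF, s.dH, s.dΘ, s.dΘ', s.dK, Nat.cast_ofNat] at h1 h4
  obtain ⟨e1, e2, e3⟩ : m Θ = 0 ∧ m Θ' = 0 ∧ m K = 0 := by omega
  rw [e3, Nat.cast_zero, zero_mul] at h4
  omega

theorem St.main [IsSimpleGroup G] [Fintype G] (hG : Nat.card G = 443520) :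
    fsInd (A : G → ℂ) = 1 ∧ classInner (fun g => (A : G → ℂ) g ^ 2) A = 1 ∧
      (∀ g, (A : G → ℂ) g ^ 2 - (A : G → ℂ) (g ^ 2) = 2 * (F : G → ℂ) g) ∧
      ∀ w, orderOf w = 4 → a w = 1 := by
  obtain ⟨m, n, h1, h2, h3, h4, h5, h6⟩ := CT.exists_sq s.ha
  have a1 : a 1 = 21 := by exact_mod_cast (s.ha 1).symm.trans (apply_one_of_deg s.dA)
  have a2 : ∀ u : G, orderOf u = 2 → a u = 5 ∧ a (u ^ 2) = 21 := fun u hu =>
    ⟨(s.inv u hu).2.1, by rw [← hu, pow_orderOf_eq_one, a1]⟩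
  have hp : ∀ {p : ℕ} {y : G}, orderOf y = p → p.Coprime 2 → orderOf (y ^ 2) = p := fun h h' =>
    (Nat.Coprime.orderOf_pow (h ▸ h')).trans h
  have m0 := s.eqs hG m (h3 1 231 (by simp [a1])) (fun u hu => h3 u 23 (by simp [a2 u hu]))
    (by norm_num)
  have n0 := s.eqs hG n (h4 1 210 (by simp [a1])) (fun u hu => h4 u 2 (by simp [a2 u hu]))
    (by norm_num)
  have m1 := s.t11 m 0 fun y hy => h3 y 0 (by simp [s.a11 y hy, s.a11 _ (hp hy (by norm_num))])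
  have n1 := s.t11 n 1 fun y hy => h4 y 1 (by simp [s.a11 y hy, s.a11 _ (hp hy (by norm_num))])
  have m2 := s.t7 m 0 fun y hy => h3 y 0 (by simp [s.a7 y hy, s.a7 _ (hp hy (by norm_num))])
  have n2 := s.t7 n 0 fun y hy => h4 y 0 (by simp [s.a7 y hy, s.a7 _ (hp hy (by norm_num))])
  have m3 := s.t5 m 1 fun y hy => h3 y 1 (by simp [s.a5 y hy, s.a5 _ (hp hy (by norm_num))])
  have n3 := s.t5 n 0 fun y hy => h4 y 0 (by simp [s.a5 y hy, s.a5 _ (hp hy (by norm_num))])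
  obtain ⟨e1, e2, e3, e4, e5, e6⟩ := arith_sym (b := m B + m B') m0.2.2.2.1 m0.2.2.2.2 (by omega)
    (by omega) m3
  obtain ⟨f1, f2, f3, f4, f5⟩ := arith_alt (b := n B + n B') n0.2.2.2.1 n0.2.2.2.2 (by omega)
    (by omega) n3
  have key : ∀ w, orderOf w = 4 → a w = 1 ∧ n F = 1 := fun w hw => by
    obtain ⟨v, hv, h7⟩ := s.col (g := w) (by omega) (by omega) (by omega)
    have h8 := h5 w
    have h9 := h6 w
    simp only [hv] at h8 h9
    norm_cast at h8 h9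
    rw [(s.inv _ (orderOf_sq_of_four hw)).2.1] at h8 h9
    simp only [s.sum, h7, e1, e2, e4, e5, m0.1, m0.2.1, m0.2.2.1, f1, f2, f3, f4, n0.1, n0.2.1,
      n0.2.2.1, show m B = 0 by omega, show m B' = 0 by omega] at h8 h9
    rw [add_assoc _ ((n B : ℤ) * _), ← add_mul, ← Nat.cast_add] at h9
    have h10 := s.four hG hw (by rcases e6 with e6 | e6 <;> simp only [e6] at h8 <;> omega)
      (by rcases f5 with f5 | f5 <;> simp only [f5] at h9 <;> omega)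
    refine ⟨h10.1, ?_⟩
    rcases f5 with f5 | f5
    · exact f5.2.2.2
    · simp only [f5] at h9
      omega
  obtain ⟨w, hw⟩ := s.exists_four hG
  have h7 := (key w hw).2
  refine ⟨by simp [h1, e1, f1], by simp [h2, e2, show n A = 0 by omega], fun g => ?_,
    fun w hw => (key w hw).1⟩
  have h8 := h6 g
  simp only [s.sum, h7, f1, f2, f3, f4, n0.1, n0.2.1, n0.2.2.1, show n A = 0 by omega,
    show n B = 0 by omega, show n B' = 0 by omega, show n D = 0 by omega] at h8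
  rw [s.ha, s.ha]
  push_cast at h8
  linear_combination -h8

omit s in
theorem action [IsSimpleGroup G] (hG : Nat.card G = 443520) (Ω : Type*) [Finite Ω] [MulAction G Ω]
    (h1 : Nat.card Ω ≤ 22) (h2 : ∃ (g : G) (x : Ω), g • x ≠ x) :
    Nat.card Ω = 22 ∧ IsMultiplyPretransitive G Ω 3 ∧ (∀ u : G, orderOf u = 2 → fx Ω u = 6) ∧
      ∀ w : G, orderOf w = 4 → fx Ω w = 2 := by
  have := Fintype.ofFinite G
  obtain ⟨A, B, B', Γ, D, E, F, H, Θ, Θ', K, a, c, d, e, f, h, k, s⟩ := exists_st hG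
  obtain ⟨-, h3, -, h4⟩ := s.main hG
  obtain ⟨m, -, hm⟩ := (isCharacter_permChar (G := G) Ω).exists_mult
  have hv : ∀ g, (fx Ω g : ℂ) = ∑ φ, m φ * (φ : G → ℂ) g := fun g => by
    simpa using congrFun hm g
  have h5 := hv 1
  simp only [fx_one, dg_spec] at h5
  norm_cast at h5
  simp only [s.sum, dg, deg_irrOne, s.dA, s.dB, s.dB', s.dΓ, s.dD, s.dE,
    s.dF, s.dH, s.dΘ, s.dΘ', s.dK, Nat.cast_ofNat] at h5
  obtain ⟨w, hw⟩ := s.exists_four hG
  have h6 := fx_lt Ω h2 (CT.ne_one_of_orderOf hw (by norm_num))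
  have h0 : m B = 0 ∧ m B' = 0 ∧ m Γ = 0 ∧ m D = 0 ∧ m E = 0 ∧ m F = 0 ∧ m H = 0 ∧ m Θ = 0 ∧
      m Θ' = 0 ∧ m K = 0 := by refine ⟨?_, ?_, ?_, ?_, ?_, ?_, ?_, ?_, ?_, ?_⟩ <;> omega
  simp only [h0] at h5
  have h7 : ∀ g, (fx Ω g : ℤ) = m (irrOne G) + m A * a g := fun g => by
    have h7 := hv g
    simp only [s.sum, h0, s.ha, irrOne_apply, Nat.cast_zero, zero_mul, add_zero, mul_one] at h7
    exact_mod_cast h7
  obtain ⟨x, hx⟩ := exists_prime_orderOf_dvd_card' (G := G) 11 (hp := ⟨by norm_num⟩)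
    (by rw [hG]; norm_num)
  have h8 := h7 w
  have h9 := h7 x
  rw [h4 w hw] at h8
  rw [s.a11 x hx] at h9
  obtain ⟨e1, e2⟩ : m (irrOne G) = 1 ∧ m A = 1 := by omega
  simp only [e1, e2, Nat.cast_one, one_mul] at h7
  refine ⟨by omega, FixSt.trans_of_sum ?_, fun u hu => ?_, fun w hw => ?_⟩
  · have h10 : ∀ n : ℕ, (n.descFactorial 3 : ℤ) = n * (n - 1) * (n - 2) := fun n => by
      obtain _ | _ | n := n <;> simp [Nat.descFactorial] <;> ring
    have h11 := A.2.sum_eq_zero (ne_one_iff.1 (ne_of_deg s.dA deg_irrOne (by norm_num)))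
    rw [classInner_def, inv_mul_eq_one₀ (Nat.cast_ne_zero.2 Nat.card_pos.ne')] at h3
    simp only [s.ha, map_intCast] at h3 h11
    norm_cast at h3 h11
    zify
    rw [h3, ← sub_zero (∑ g, a g ^ 2 * a g), ← h11, ← sum_sub_distrib]
    exact sum_congr rfl fun g _ => by rw [h10, h7]; ring
  · have := h7 u
    have := (s.inv u hu).2.1
    omega
  · have := h7 w
    have := h4 w hw
    omega

omit s in
theorem exists_action [IsSimpleGroup G] (hG : Nat.card G = 443520) : ∃ U : Subgroup G,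
    Nat.card (G ⧸ U) = 22 ∧ IsMultiplyPretransitive G (G ⧸ U) 3 ∧
      (∀ u : G, orderOf u = 2 → fx (G ⧸ U) u = 6) ∧ ∀ w : G, orderOf w = 4 → fx (G ⧸ U) w = 2 := by
  have := Fintype.ofFinite G
  obtain ⟨A, _, _, _, _, _, F, _, _, _, _, _, _, _, _, _, _, _, s⟩ := exists_st hG
  obtain ⟨h1, h2, h3, -⟩ := s.main hG
  obtain ⟨U, h4, h5⟩ := Cubic.exists_index h1 (ne_of_deg s.dA deg_irrOne (by norm_num)) h3
    (ne_of_deg s.dF s.dA (by norm_num)) (by rw [h2]; exact one_ne_zero)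
  exact ⟨U, action hG (G ⧸ U) (by rwa [s.dA] at h5) (exists_smul_ne_of_ne_top h4)⟩

omit s in
theorem exists_inj [IsSimpleGroup G] (hG : Nat.card G = 443520) {β : Type*} [Fintype β]
    [DecidableEq β] (hβ : Fintype.card β = 22) {B : Set (Finset β)} (hB : IsSteinerSystem 3 6 B) :
    ∃ f : G →* setSystemAut B, Function.Injective f := by
  classical
  obtain ⟨U, h6, h7, h8, h9⟩ := exists_action hG
  have := Fintype.ofFinite (G ⧸ U)
  rw [Nat.card_eq_fintype_card] at h6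
  exact FixSt.exists_inj (t := 3) h6 hG h7 (fun u hu _ => h8 u hu)
    (fun w hw => by rw [h9 w hw]; norm_num) (by norm_num) fun _ h => S0410.result h6 hβ h hB

omit s in
/-- Simple groups of order 443520 are isomorphic. -/
theorem iso [IsSimpleGroup G] (hG : Nat.card G = 443520) {G' : Type*} [Group G'] [Finite G']
    [IsSimpleGroup G'] (hG' : Nat.card G' = 443520) : Nonempty (G ≃* G') := by
  classical
  obtain ⟨U, h6, h7, h8, h9⟩ := exists_action hG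
  have := Fintype.ofFinite (G ⧸ U)
  rw [Nat.card_eq_fintype_card] at h6
  obtain ⟨B, hB, -⟩ := FixSt.steiner (t := 3) h6 hG h7 (fun u hu _ => h8 u hu)
    (fun w hw => by rw [h9 w hw]; norm_num)
  obtain ⟨f, hf⟩ := exists_inj hG h6 hB
  obtain ⟨f', hf'⟩ := exists_inj hG' h6 hB
  have h1 := (S0414.result h6 hB).1
  have h2 := f'.range.card_mul_index
  rw [← Nat.card_congr (MonoidHom.ofInjective hf').toEquiv, hG', h1] at h2
  have h3 : f'.range.index = 2 := by omega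
  have := Subgroup.normal_of_index_eq_two h3
  have h4 : f'.range.comap f = ⊤ := ((inferInstance : (f'.range.comap f).Normal).eq_bot_or_eq_top
    ).resolve_left fun h => by
      have h5 := Subgroup.relIndex_dvd_index_of_normal f'.range f.range
      rw [← Subgroup.index_comap, h, Subgroup.index_bot, hG, h3] at h5
      omega
  have h5 : f.range = f'.range := Subgroup.eq_of_le_of_card_ge
    (by rintro _ ⟨g, rfl⟩; exact (h4 ▸ Subgroup.mem_top g : g ∈ f'.range.comap f))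
    (by rw [← Nat.card_congr (MonoidHom.ofInjective hf').toEquiv,
      ← Nat.card_congr (MonoidHom.ofInjective hf).toEquiv, hG, hG'])
  exact ⟨(MonoidHom.ofInjective hf).trans
    ((MulEquiv.subgroupCongr h5).trans (MonoidHom.ofInjective hf').symm)⟩

end M22

end Cfsg.Agent.Inv
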