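import Mathlib

/-! Model for the centraliser `2^(1+4)_-.S4`: the Clifford group `Cl` of order 32 and the
group `W` of the 384 signed permutations of four letters. -/

set_option autoImplicit false

namespace Cfsg.Agent.Inv.AL4

def frcB {α : Type} (b : Bool) (f : Bool → α) : α := cond b (f true) (f false)

theorem frcB_eq {α : Type} (b : Bool) (f : Bool → α) : frcB b f = f b := by cases b <;> rfl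

/-- `g1^s1 g2^s2 g3^s3 g4^s4 z^e` with four anticommuting involutions. -/
structure Cl where
  s1 : Bool
  s2 : Bool
  s3 : Bool
  s4 : Bool
  e : Bool
deriving DecidableEq

namespace Cl

def ce (a b : Cl) : Bool :=
  xor (xor (xor a.e b.e) (xor (a.s2 && b.s1) (xor (a.s3 && b.s1) (a.s3 && b.s2))))
      (xor (a.s4 && b.s1) (xor (a.s4 && b.s2) (a.s4 && b.s3)))

def mul (a b : Cl) : Cl :=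
  frcB (xor a.s1 b.s1) fun s1 => frcB (xor a.s2 b.s2) fun s2 => frcB (xor a.s3 b.s3) fun s3 =>
    frcB (xor a.s4 b.s4) fun s4 => frcB (ce a b) fun e => ⟨s1, s2, s3, s4, e⟩

theorem mul_eq (a b : Cl) : mul a b =
    ⟨xor a.s1 b.s1, xor a.s2 b.s2, xor a.s3 b.s3, xor a.s4 b.s4, ce a b⟩ := by
  simp only [mul, frcB_eq]

def inv (a : Cl) : Cl := mul a (mul a a)

def tz (b : Bool) : ZMod 2 := cond b 1 0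

theorem tz_inj : Function.Injective tz := by decide
theorem tz_xor (a b : Bool) : tz (xor a b) = tz a + tz b := by revert a b; decide
theorem tz_and (a b : Bool) : tz (a && b) = tz a * tz b := by revert a b; decide

theorem assoc (a b c : Cl) : mul (mul a b) c = mul a (mul b c) := by
  simp only [mul_eq, Cl.mk.injEq, Bool.xor_assoc, true_and]
  apply tz_inj
  simp only [ce, tz_xor, tz_and]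
  ring

end Cl

def LC : List Cl :=
  [⟨false, false, false, false, false⟩, ⟨false, false, false, false, true⟩, ⟨false, false, false,
  true, false⟩, ⟨false, false, false, true, true⟩, ⟨false, false, true, false, false⟩, ⟨false,
  false, true, false, true⟩, ⟨false, false, true, true, false⟩, ⟨false, false, true, true, true⟩,
  ⟨false, true, false, false, false⟩, ⟨false, true, false, false, true⟩, ⟨false, true, false,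
  true, false⟩, ⟨false, true, false, true, true⟩, ⟨false, true, true, false, false⟩, ⟨false, true,
  true, false, true⟩, ⟨false, true, true, true, false⟩, ⟨false, true, true, true, true⟩, ⟨true,
  false, false, false, false⟩, ⟨true, false, false, false, true⟩, ⟨true, false, false, true,
  false⟩, ⟨true, false, false, true, true⟩, ⟨true, false, true, false, false⟩, ⟨true, false, true,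
  false, true⟩, ⟨true, false, true, true, false⟩, ⟨true, false, true, true, true⟩, ⟨true, true,
  false, false, false⟩, ⟨true, true, false, false, true⟩, ⟨true, true, false, true, false⟩, ⟨true,
  true, false, true, true⟩, ⟨true, true, true, false, false⟩, ⟨true, true, true, false, true⟩,
  ⟨true, true, true, true, false⟩, ⟨true, true, true, true, true⟩]

theorem mem_LC (c : Cl) : c ∈ LC := by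
  rcases c with ⟨_ | _, _ | _, _ | _, _ | _, _ | _⟩ <;> decide

theorem allC {P : Cl → Prop} (h : ∀ c ∈ LC, P c) (c : Cl) : P c := h c (mem_LC c)

instance : Mul Cl := ⟨Cl.mul⟩
instance : One Cl := ⟨⟨false, false, false, false, false⟩⟩
instance : Inv Cl := ⟨Cl.inv⟩

instance : Group Cl :=
  Group.ofLeftAxioms Cl.assoc (allC (by decide +kernel)) (allC (by decide +kernel))

instance : Fintype Cl := ⟨⟨(LC : Multiset Cl), by decide +kernel⟩, mem_LC⟩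

theorem card_Cl : Nat.card Cl = 32 := by
  rw [Nat.card_eq_fintype_card]; rfl

def cz : Cl := ⟨false, false, false, false, true⟩
def g0 : Cl := ⟨true, true, true, true, false⟩

def f0 : Fin 8 := ⟨0, by decide⟩
def f1 : Fin 8 := ⟨1, by decide⟩
def f2 : Fin 8 := ⟨2, by decide⟩
def f3 : Fin 8 := ⟨3, by decide⟩
def f4 : Fin 8 := ⟨4, by decide⟩
def f5 : Fin 8 := ⟨5, by decide⟩
def f6 : Fin 8 := ⟨6, by decide⟩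
def f7 : Fin 8 := ⟨7, by decide⟩

def sel {α : Type} (k : Fin 8) (a0 a1 a2 a3 a4 a5 a6 a7 : α) : α :=
  cond (Nat.ble k.val 3)
    (cond (Nat.ble k.val 1) (cond (Nat.ble k.val 0) a0 a1) (cond (Nat.ble k.val 2) a2 a3))
    (cond (Nat.ble k.val 5) (cond (Nat.ble k.val 4) a4 a5) (cond (Nat.ble k.val 6) a6 a7))

def frc {α : Type} (k : Fin 8) (f : Fin 8 → α) : α :=
  sel k (f f0) (f f1) (f f2) (f f3) (f f4) (f f5) (f f6) (f f7)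

theorem frc_eq {α : Type} (k : Fin 8) (f : Fin 8 → α) : frc k f = f k := by
  fin_cases k <;> rfl

def flip (k : Fin 8) : Fin 8 := sel k f4 f5 f6 f7 f0 f1 f2 f3
def res (k : Fin 8) : ℕ := sel k 0 1 2 3 0 1 2 3
def sgn (k : Fin 8) : Bool := Nat.ble 4 k.val

/-- the eight signed letters -/
def L (k : Fin 8) : Cl :=
  sel k ⟨true, false, false, false, false⟩ ⟨false, true, false, false, false⟩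
    ⟨false, false, true, false, false⟩ ⟨false, false, false, true, false⟩
    ⟨true, false, false, false, true⟩ ⟨false, true, false, false, true⟩
    ⟨false, false, true, false, true⟩ ⟨false, false, false, true, true⟩

/-- images of the four letters -/
structure R where
  x0 : Fin 8
  x1 : Fin 8
  x2 : Fin 8
  x3 : Fin 8

namespace R

def beq (a b : R) : Bool :=
  Nat.beq a.x0.val b.x0.val && Nat.beq a.x1.val b.x1.val && Nat.beq a.x2.val b.x2.val &&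
    Nat.beq a.x3.val b.x3.val

theorem beq_iff (a b : R) : beq a b = true ↔ a = b := by
  rcases a with ⟨a0, a1, a2, a3⟩
  rcases b with ⟨b0, b1, b2, b3⟩
  simp only [beq, Bool.and_eq_true, Nat.beq_eq, R.mk.injEq, Fin.ext_iff, and_assoc]

instance : DecidableEq R := fun a b => decidable_of_iff _ (beq_iff a b)

def at' (r : R) (k : Fin 8) : Fin 8 :=
  sel k r.x0 r.x1 r.x2 r.x3 (flip r.x0) (flip r.x1) (flip r.x2) (flip r.x3)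

def mul (a b : R) : R :=
  frc (a.at' b.x0) fun y0 => frc (a.at' b.x1) fun y1 => frc (a.at' b.x2) fun y2 =>
    frc (a.at' b.x3) fun y3 => ⟨y0, y1, y2, y3⟩

theorem mul_eq (a b : R) : mul a b = ⟨a.at' b.x0, a.at' b.x1, a.at' b.x2, a.at' b.x3⟩ := by
  simp only [mul, frc_eq]

def one : R := ⟨f0, f1, f2, f3⟩
def neg : R := ⟨f4, f5, f6, f7⟩

def find (r : R) (j : Fin 8) : Fin 8 :=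
  cond (Nat.beq r.x0.val j.val) f0 <| cond (Nat.beq r.x1.val j.val) f1 <|
  cond (Nat.beq r.x2.val j.val) f2 <| cond (Nat.beq r.x3.val j.val) f3 <|
  cond (Nat.beq (flip r.x0).val j.val) f4 <| cond (Nat.beq (flip r.x1).val j.val) f5 <|
  cond (Nat.beq (flip r.x2).val j.val) f6 f7

def inv (r : R) : R :=
  frc (r.find f0) fun y0 => frc (r.find f1) fun y1 => frc (r.find f2) fun y2 =>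
    frc (r.find f3) fun y3 => ⟨y0, y1, y2, y3⟩

def ok (r : R) : Bool :=
  !(Nat.beq (res r.x0) (res r.x1)) && !(Nat.beq (res r.x0) (res r.x2)) &&
  !(Nat.beq (res r.x0) (res r.x3)) && !(Nat.beq (res r.x1) (res r.x2)) &&
  !(Nat.beq (res r.x1) (res r.x3)) && !(Nat.beq (res r.x2) (res r.x3))

theorem flip_flip (y : Fin 8) : flip (flip y) = y := by revert y; decide

theorem at_flip (a : R) (k : Fin 8) : a.at' (flip k) = flip (a.at' k) := by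
  fin_cases k <;> first | rfl | exact (flip_flip _).symm

theorem at_mul (a b : R) (k : Fin 8) : (mul a b).at' k = a.at' (b.at' k) := by
  rw [mul_eq]
  fin_cases k <;> first | rfl | exact (at_flip _ _).symm

theorem mul_assoc' (a b c : R) : mul (mul a b) c = mul a (mul b c) := by
  rw [mul_eq (mul a b), mul_eq a (mul b c), mul_eq b c]
  simp only [at_mul]

theorem at_one (k : Fin 8) : one.at' k = k := by revert k; decide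

theorem res_ne : ∀ a b : Fin 8, a ≠ b → a ≠ flip b → Nat.beq (res a) (res b) = false := by decide

theorem ok_of_inj (r : R) (h : Function.Injective r.at') : r.ok = true := by
  have k : ∀ i j : Fin 8, i ≠ j → i ≠ flip j →
      Nat.beq (res (r.at' i)) (res (r.at' j)) = false := fun i j h1 h2 =>
    res_ne _ _ (fun e => h1 (h e)) (fun e => h2 (h (e.trans (at_flip r j).symm)))
  have e01 : Nat.beq (res r.x0) (res r.x1) = false := k f0 f1 (by decide) (by decide)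
  have e02 : Nat.beq (res r.x0) (res r.x2) = false := k f0 f2 (by decide) (by decide)
  have e03 : Nat.beq (res r.x0) (res r.x3) = false := k f0 f3 (by decide) (by decide)
  have e12 : Nat.beq (res r.x1) (res r.x2) = false := k f1 f2 (by decide) (by decide)
  have e13 : Nat.beq (res r.x1) (res r.x3) = false := k f1 f3 (by decide) (by decide)
  have e23 : Nat.beq (res r.x2) (res r.x3) = false := k f2 f3 (by decide) (by decide)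
  simp only [ok, e01, e02, e03, e12, e13, e23, Bool.not_false, Bool.and_self]

end R

def LR : List R :=
  [⟨f0, f1, f2, f3⟩, ⟨f0, f1, f2, f7⟩, ⟨f0, f1, f3, f2⟩, ⟨f0, f1, f3, f6⟩, ⟨f0, f1, f6, f3⟩, ⟨f0,
  f1, f6, f7⟩, ⟨f0, f1, f7, f2⟩, ⟨f0, f1, f7, f6⟩, ⟨f0, f2, f1, f3⟩, ⟨f0, f2, f1, f7⟩, ⟨f0, f2,
  f3, f1⟩, ⟨f0, f2, f3, f5⟩, ⟨f0, f2, f5, f3⟩, ⟨f0, f2, f5, f7⟩, ⟨f0, f2, f7, f1⟩, ⟨f0, f2, f7,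
  f5⟩, ⟨f0, f3, f1, f2⟩, ⟨f0, f3, f1, f6⟩, ⟨f0, f3, f2, f1⟩, ⟨f0, f3, f2, f5⟩, ⟨f0, f3, f5, f2⟩,
  ⟨f0, f3, f5, f6⟩, ⟨f0, f3, f6, f1⟩, ⟨f0, f3, f6, f5⟩, ⟨f0, f5, f2, f3⟩, ⟨f0, f5, f2, f7⟩, ⟨f0,
  f5, f3, f2⟩, ⟨f0, f5, f3, f6⟩, ⟨f0, f5, f6, f3⟩, ⟨f0, f5, f6, f7⟩, ⟨f0, f5, f7, f2⟩, ⟨f0, f5,
  f7, f6⟩, ⟨f0, f6, f1, f3⟩, ⟨f0, f6, f1, f7⟩, ⟨f0, f6, f3, f1⟩, ⟨f0, f6, f3, f5⟩, ⟨f0, f6, f5,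
  f3⟩, ⟨f0, f6, f5, f7⟩, ⟨f0, f6, f7, f1⟩, ⟨f0, f6, f7, f5⟩, ⟨f0, f7, f1, f2⟩, ⟨f0, f7, f1, f6⟩,
  ⟨f0, f7, f2, f1⟩, ⟨f0, f7, f2, f5⟩, ⟨f0, f7, f5, f2⟩, ⟨f0, f7, f5, f6⟩, ⟨f0, f7, f6, f1⟩, ⟨f0,
  f7, f6, f5⟩, ⟨f1, f0, f2, f3⟩, ⟨f1, f0, f2, f7⟩, ⟨f1, f0, f3, f2⟩, ⟨f1, f0, f3, f6⟩, ⟨f1, f0,
  f6, f3⟩, ⟨f1, f0, f6, f7⟩, ⟨f1, f0, f7, f2⟩, ⟨f1, f0, f7, f6⟩, ⟨f1, f2, f0, f3⟩, ⟨f1, f2, f0,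
  f7⟩, ⟨f1, f2, f3, f0⟩, ⟨f1, f2, f3, f4⟩, ⟨f1, f2, f4, f3⟩, ⟨f1, f2, f4, f7⟩, ⟨f1, f2, f7, f0⟩,
  ⟨f1, f2, f7, f4⟩, ⟨f1, f3, f0, f2⟩, ⟨f1, f3, f0, f6⟩, ⟨f1, f3, f2, f0⟩, ⟨f1, f3, f2, f4⟩, ⟨f1,
  f3, f4, f2⟩, ⟨f1, f3, f4, f6⟩, ⟨f1, f3, f6, f0⟩, ⟨f1, f3, f6, f4⟩, ⟨f1, f4, f2, f3⟩, ⟨f1, f4,
  f2, f7⟩, ⟨f1, f4, f3, f2⟩, ⟨f1, f4, f3, f6⟩, ⟨f1, f4, f6, f3⟩, ⟨f1, f4, f6, f7⟩, ⟨f1, f4, f7,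
  f2⟩, ⟨f1, f4, f7, f6⟩, ⟨f1, f6, f0, f3⟩, ⟨f1, f6, f0, f7⟩, ⟨f1, f6, f3, f0⟩, ⟨f1, f6, f3, f4⟩,
  ⟨f1, f6, f4, f3⟩, ⟨f1, f6, f4, f7⟩, ⟨f1, f6, f7, f0⟩, ⟨f1, f6, f7, f4⟩, ⟨f1, f7, f0, f2⟩, ⟨f1,
  f7, f0, f6⟩, ⟨f1, f7, f2, f0⟩, ⟨f1, f7, f2, f4⟩, ⟨f1, f7, f4, f2⟩, ⟨f1, f7, f4, f6⟩, ⟨f1, f7,
  f6, f0⟩, ⟨f1, f7, f6, f4⟩, ⟨f2, f0, f1, f3⟩, ⟨f2, f0, f1, f7⟩, ⟨f2, f0, f3, f1⟩, ⟨f2, f0, f3,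
  f5⟩, ⟨f2, f0, f5, f3⟩, ⟨f2, f0, f5, f7⟩, ⟨f2, f0, f7, f1⟩, ⟨f2, f0, f7, f5⟩, ⟨f2, f1, f0, f3⟩,
  ⟨f2, f1, f0, f7⟩, ⟨f2, f1, f3, f0⟩, ⟨f2, f1, f3, f4⟩, ⟨f2, f1, f4, f3⟩, ⟨f2, f1, f4, f7⟩, ⟨f2,
  f1, f7, f0⟩, ⟨f2, f1, f7, f4⟩, ⟨f2, f3, f0, f1⟩, ⟨f2, f3, f0, f5⟩, ⟨f2, f3, f1, f0⟩, ⟨f2, f3,
  f1, f4⟩, ⟨f2, f3, f4, f1⟩, ⟨f2, f3, f4, f5⟩, ⟨f2, f3, f5, f0⟩, ⟨f2, f3, f5, f4⟩, ⟨f2, f4, f1,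
  f3⟩, ⟨f2, f4, f1, f7⟩, ⟨f2, f4, f3, f1⟩, ⟨f2, f4, f3, f5⟩, ⟨f2, f4, f5, f3⟩, ⟨f2, f4, f5, f7⟩,
  ⟨f2, f4, f7, f1⟩, ⟨f2, f4, f7, f5⟩, ⟨f2, f5, f0, f3⟩, ⟨f2, f5, f0, f7⟩, ⟨f2, f5, f3, f0⟩, ⟨f2,
  f5, f3, f4⟩, ⟨f2, f5, f4, f3⟩, ⟨f2, f5, f4, f7⟩, ⟨f2, f5, f7, f0⟩, ⟨f2, f5, f7, f4⟩, ⟨f2, f7,
  f0, f1⟩, ⟨f2, f7, f0, f5⟩, ⟨f2, f7, f1, f0⟩, ⟨f2, f7, f1, f4⟩, ⟨f2, f7, f4, f1⟩, ⟨f2, f7, f4,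
  f5⟩, ⟨f2, f7, f5, f0⟩, ⟨f2, f7, f5, f4⟩, ⟨f3, f0, f1, f2⟩, ⟨f3, f0, f1, f6⟩, ⟨f3, f0, f2, f1⟩,
  ⟨f3, f0, f2, f5⟩, ⟨f3, f0, f5, f2⟩, ⟨f3, f0, f5, f6⟩, ⟨f3, f0, f6, f1⟩, ⟨f3, f0, f6, f5⟩, ⟨f3,
  f1, f0, f2⟩, ⟨f3, f1, f0, f6⟩, ⟨f3, f1, f2, f0⟩, ⟨f3, f1, f2, f4⟩, ⟨f3, f1, f4, f2⟩, ⟨f3, f1,
  f4, f6⟩, ⟨f3, f1, f6, f0⟩, ⟨f3, f1, f6, f4⟩, ⟨f3, f2, f0, f1⟩, ⟨f3, f2, f0, f5⟩, ⟨f3, f2, f1,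
  f0⟩, ⟨f3, f2, f1, f4⟩, ⟨f3, f2, f4, f1⟩, ⟨f3, f2, f4, f5⟩, ⟨f3, f2, f5, f0⟩, ⟨f3, f2, f5, f4⟩,
  ⟨f3, f4, f1, f2⟩, ⟨f3, f4, f1, f6⟩, ⟨f3, f4, f2, f1⟩, ⟨f3, f4, f2, f5⟩, ⟨f3, f4, f5, f2⟩, ⟨f3,
  f4, f5, f6⟩, ⟨f3, f4, f6, f1⟩, ⟨f3, f4, f6, f5⟩, ⟨f3, f5, f0, f2⟩, ⟨f3, f5, f0, f6⟩, ⟨f3, f5,
  f2, f0⟩, ⟨f3, f5, f2, f4⟩, ⟨f3, f5, f4, f2⟩, ⟨f3, f5, f4, f6⟩, ⟨f3, f5, f6, f0⟩, ⟨f3, f5, f6,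
  f4⟩, ⟨f3, f6, f0, f1⟩, ⟨f3, f6, f0, f5⟩, ⟨f3, f6, f1, f0⟩, ⟨f3, f6, f1, f4⟩, ⟨f3, f6, f4, f1⟩,
  ⟨f3, f6, f4, f5⟩, ⟨f3, f6, f5, f0⟩, ⟨f3, f6, f5, f4⟩, ⟨f4, f1, f2, f3⟩, ⟨f4, f1, f2, f7⟩, ⟨f4,
  f1, f3, f2⟩, ⟨f4, f1, f3, f6⟩, ⟨f4, f1, f6, f3⟩, ⟨f4, f1, f6, f7⟩, ⟨f4, f1, f7, f2⟩, ⟨f4, f1,
  f7, f6⟩, ⟨f4, f2, f1, f3⟩, ⟨f4, f2, f1, f7⟩, ⟨f4, f2, f3, f1⟩, ⟨f4, f2, f3, f5⟩, ⟨f4, f2, f5,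
  f3⟩, ⟨f4, f2, f5, f7⟩, ⟨f4, f2, f7, f1⟩, ⟨f4, f2, f7, f5⟩, ⟨f4, f3, f1, f2⟩, ⟨f4, f3, f1, f6⟩,
  ⟨f4, f3, f2, f1⟩, ⟨f4, f3, f2, f5⟩, ⟨f4, f3, f5, f2⟩, ⟨f4, f3, f5, f6⟩, ⟨f4, f3, f6, f1⟩, ⟨f4,
  f3, f6, f5⟩, ⟨f4, f5, f2, f3⟩, ⟨f4, f5, f2, f7⟩, ⟨f4, f5, f3, f2⟩, ⟨f4, f5, f3, f6⟩, ⟨f4, f5,
  f6, f3⟩, ⟨f4, f5, f6, f7⟩, ⟨f4, f5, f7, f2⟩, ⟨f4, f5, f7, f6⟩, ⟨f4, f6, f1, f3⟩, ⟨f4, f6, f1,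
  f7⟩, ⟨f4, f6, f3, f1⟩, ⟨f4, f6, f3, f5⟩, ⟨f4, f6, f5, f3⟩, ⟨f4, f6, f5, f7⟩, ⟨f4, f6, f7, f1⟩,
  ⟨f4, f6, f7, f5⟩, ⟨f4, f7, f1, f2⟩, ⟨f4, f7, f1, f6⟩, ⟨f4, f7, f2, f1⟩, ⟨f4, f7, f2, f5⟩, ⟨f4,
  f7, f5, f2⟩, ⟨f4, f7, f5, f6⟩, ⟨f4, f7, f6, f1⟩, ⟨f4, f7, f6, f5⟩, ⟨f5, f0, f2, f3⟩, ⟨f5, f0,
  f2, f7⟩, ⟨f5, f0, f3, f2⟩, ⟨f5, f0, f3, f6⟩, ⟨f5, f0, f6, f3⟩, ⟨f5, f0, f6, f7⟩, ⟨f5, f0, f7,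
  f2⟩, ⟨f5, f0, f7, f6⟩, ⟨f5, f2, f0, f3⟩, ⟨f5, f2, f0, f7⟩, ⟨f5, f2, f3, f0⟩, ⟨f5, f2, f3, f4⟩,
  ⟨f5, f2, f4, f3⟩, ⟨f5, f2, f4, f7⟩, ⟨f5, f2, f7, f0⟩, ⟨f5, f2, f7, f4⟩, ⟨f5, f3, f0, f2⟩, ⟨f5,
  f3, f0, f6⟩, ⟨f5, f3, f2, f0⟩, ⟨f5, f3, f2, f4⟩, ⟨f5, f3, f4, f2⟩, ⟨f5, f3, f4, f6⟩, ⟨f5, f3,
  f6, f0⟩, ⟨f5, f3, f6, f4⟩, ⟨f5, f4, f2, f3⟩, ⟨f5, f4, f2, f7⟩, ⟨f5, f4, f3, f2⟩, ⟨f5, f4, f3,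
  f6⟩, ⟨f5, f4, f6, f3⟩, ⟨f5, f4, f6, f7⟩, ⟨f5, f4, f7, f2⟩, ⟨f5, f4, f7, f6⟩, ⟨f5, f6, f0, f3⟩,
  ⟨f5, f6, f0, f7⟩, ⟨f5, f6, f3, f0⟩, ⟨f5, f6, f3, f4⟩, ⟨f5, f6, f4, f3⟩, ⟨f5, f6, f4, f7⟩, ⟨f5,
  f6, f7, f0⟩, ⟨f5, f6, f7, f4⟩, ⟨f5, f7, f0, f2⟩, ⟨f5, f7, f0, f6⟩, ⟨f5, f7, f2, f0⟩, ⟨f5, f7,
  f2, f4⟩, ⟨f5, f7, f4, f2⟩, ⟨f5, f7, f4, f6⟩, ⟨f5, f7, f6, f0⟩, ⟨f5, f7, f6, f4⟩, ⟨f6, f0, f1,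
  f3⟩, ⟨f6, f0, f1, f7⟩, ⟨f6, f0, f3, f1⟩, ⟨f6, f0, f3, f5⟩, ⟨f6, f0, f5, f3⟩, ⟨f6, f0, f5, f7⟩,
  ⟨f6, f0, f7, f1⟩, ⟨f6, f0, f7, f5⟩, ⟨f6, f1, f0, f3⟩, ⟨f6, f1, f0, f7⟩, ⟨f6, f1, f3, f0⟩, ⟨f6,
  f1, f3, f4⟩, ⟨f6, f1, f4, f3⟩, ⟨f6, f1, f4, f7⟩, ⟨f6, f1, f7, f0⟩, ⟨f6, f1, f7, f4⟩, ⟨f6, f3,
  f0, f1⟩, ⟨f6, f3, f0, f5⟩, ⟨f6, f3, f1, f0⟩, ⟨f6, f3, f1, f4⟩, ⟨f6, f3, f4, f1⟩, ⟨f6, f3, f4,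
  f5⟩, ⟨f6, f3, f5, f0⟩, ⟨f6, f3, f5, f4⟩, ⟨f6, f4, f1, f3⟩, ⟨f6, f4, f1, f7⟩, ⟨f6, f4, f3, f1⟩,
  ⟨f6, f4, f3, f5⟩, ⟨f6, f4, f5, f3⟩, ⟨f6, f4, f5, f7⟩, ⟨f6, f4, f7, f1⟩, ⟨f6, f4, f7, f5⟩, ⟨f6,
  f5, f0, f3⟩, ⟨f6, f5, f0, f7⟩, ⟨f6, f5, f3, f0⟩, ⟨f6, f5, f3, f4⟩, ⟨f6, f5, f4, f3⟩, ⟨f6, f5,
  f4, f7⟩, ⟨f6, f5, f7, f0⟩, ⟨f6, f5, f7, f4⟩, ⟨f6, f7, f0, f1⟩, ⟨f6, f7, f0, f5⟩, ⟨f6, f7, f1,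
  f0⟩, ⟨f6, f7, f1, f4⟩, ⟨f6, f7, f4, f1⟩, ⟨f6, f7, f4, f5⟩, ⟨f6, f7, f5, f0⟩, ⟨f6, f7, f5, f4⟩,
  ⟨f7, f0, f1, f2⟩, ⟨f7, f0, f1, f6⟩, ⟨f7, f0, f2, f1⟩, ⟨f7, f0, f2, f5⟩, ⟨f7, f0, f5, f2⟩, ⟨f7,
  f0, f5, f6⟩, ⟨f7, f0, f6, f1⟩, ⟨f7, f0, f6, f5⟩, ⟨f7, f1, f0, f2⟩, ⟨f7, f1, f0, f6⟩, ⟨f7, f1,
  f2, f0⟩, ⟨f7, f1, f2, f4⟩, ⟨f7, f1, f4, f2⟩, ⟨f7, f1, f4, f6⟩, ⟨f7, f1, f6, f0⟩, ⟨f7, f1, f6,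
  f4⟩, ⟨f7, f2, f0, f1⟩, ⟨f7, f2, f0, f5⟩, ⟨f7, f2, f1, f0⟩, ⟨f7, f2, f1, f4⟩, ⟨f7, f2, f4, f1⟩,
  ⟨f7, f2, f4, f5⟩, ⟨f7, f2, f5, f0⟩, ⟨f7, f2, f5, f4⟩, ⟨f7, f4, f1, f2⟩, ⟨f7, f4, f1, f6⟩, ⟨f7,
  f4, f2, f1⟩, ⟨f7, f4, f2, f5⟩, ⟨f7, f4, f5, f2⟩, ⟨f7, f4, f5, f6⟩, ⟨f7, f4, f6, f1⟩, ⟨f7, f4,
  f6, f5⟩, ⟨f7, f5, f0, f2⟩, ⟨f7, f5, f0, f6⟩, ⟨f7, f5, f2, f0⟩, ⟨f7, f5, f2, f4⟩, ⟨f7, f5, f4,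
  f2⟩, ⟨f7, f5, f4, f6⟩, ⟨f7, f5, f6, f0⟩, ⟨f7, f5, f6, f4⟩, ⟨f7, f6, f0, f1⟩, ⟨f7, f6, f0, f5⟩,
  ⟨f7, f6, f1, f0⟩, ⟨f7, f6, f1, f4⟩, ⟨f7, f6, f4, f1⟩, ⟨f7, f6, f4, f5⟩, ⟨f7, f6, f5, f0⟩, ⟨f7,
  f6, f5, f4⟩]

theorem mem_LR : ∀ a b c d : Fin 8, R.ok ⟨a, b, c, d⟩ = true → (⟨a, b, c, d⟩ : R) ∈ LR := by
  decide +kernel

theorem ok_LR : ∀ r ∈ LR, r.ok = true := by decide +kernel

theorem ok_inv : ∀ a ∈ LR, (R.inv a).ok = true ∧ R.mul (R.inv a) a = R.one := by decide +kernel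

theorem inj_of_ok (r : R) (h : r.ok = true) : Function.Injective r.at' := by
  intro i j e
  have h1 := (ok_inv r (mem_LR _ _ _ _ h)).2
  have h2 := congrArg (R.inv r).at' e
  rwa [← R.at_mul, ← R.at_mul, h1, R.at_one, R.at_one] at h2

theorem ok_mul (a b : R) (ha : a.ok = true) (hb : b.ok = true) : (R.mul a b).ok = true :=
  R.ok_of_inj _ fun i j e => by
    rw [R.at_mul, R.at_mul] at e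
    exact inj_of_ok b hb (inj_of_ok a ha e)

theorem nodup_LR : LR.Nodup := by decide +kernel

/-- signed permutations of four letters -/
def W : Type := {r : R // r.ok = true}

instance : DecidableEq W := inferInstanceAs (DecidableEq {r : R // r.ok = true})

theorem W.mem (w : W) : w.1 ∈ LR := mem_LR _ _ _ _ w.2

theorem allW {P : R → Prop} (h : ∀ r ∈ LR, P r) (w : W) : P w.1 := h _ w.mem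

instance : Mul W := ⟨fun a b => ⟨R.mul a.1 b.1, ok_mul _ _ a.2 b.2⟩⟩
instance : One W := ⟨⟨R.one, by decide⟩⟩
instance : Inv W := ⟨fun a => ⟨R.inv a.1, (ok_inv _ a.mem).1⟩⟩

theorem W.val_mul (a b : W) : (a * b).1 = R.mul a.1 b.1 := rfl
theorem W.val_one : (1 : W).1 = R.one := rfl
theorem W.val_inv (a : W) : (a⁻¹).1 = R.inv a.1 := rfl
theorem W.ext {a b : W} (h : a.1 = b.1) : a = b := Subtype.ext h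

instance : Group W :=
  Group.ofLeftAxioms (fun a b c => Subtype.ext (R.mul_assoc' a.1 b.1 c.1))
    (fun a => Subtype.ext (by
      show R.mul R.one a.1 = a.1
      simp only [R.mul_eq, R.at_one]))
    (fun a => Subtype.ext (ok_inv _ a.mem).2)

theorem card_filter (P : R → Bool) :
    Nat.card {w : W // P w.1 = true} = (LR.filter P).length := by
  have e : {w : W // P w.1 = true} ≃ {r : R // r ∈ (LR.filter P).toFinset} :=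
    { toFun := fun w => ⟨w.1.1, by simp [w.1.mem, w.2]⟩
      invFun := fun r => ⟨⟨r.1, ok_LR _ (by have := r.2; simp at this; exact this.1)⟩,
        by have := r.2; simp at this; exact this.2⟩
      left_inv := fun _ => rfl
      right_inv := fun _ => rfl }
  rw [Nat.card_congr e, Nat.card_eq_fintype_card, Fintype.card_coe,
    List.toFinset_card_of_nodup (nodup_LR.filter _)]

instance : Finite W :=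
  Finite.of_injective (fun w : W => (⟨w.1, List.mem_toFinset.2 w.mem⟩ : LR.toFinset))
    (fun _ _ h => Subtype.ext (Subtype.mk.inj h))

theorem card_W : Nat.card W = 384 := by
  have h := card_filter (fun _ => true)
  rw [Nat.card_congr (Equiv.subtypeUnivEquiv (fun _ => rfl))] at h
  rw [h]; decide +kernel

/-- the automorphism of `Cl` with prescribed images of the generators -/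
def hm (x1 x2 x3 x4 c : Cl) : Cl :=
  cond c.s1 x1 1 * cond c.s2 x2 1 * cond c.s3 x3 1 * cond c.s4 x4 1 * cond c.e cz 1

def app (r : R) (c : Cl) : Cl := hm (L r.x0) (L r.x1) (L r.x2) (L r.x3) c

theorem hm_self : ∀ c ∈ LC, hm (L f0) (L f1) (L f2) (L f3) c = c := by decide +kernel

def sg (c : Cl) (i : Fin 8) : Fin 8 := if c * L i = L i * c then i else flip i

/-- the inner automorphisms -/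
def innR (c : Cl) : R := ⟨sg c f0, sg c f1, sg c f2, sg c f3⟩

theorem ok_innR : ∀ c ∈ LC, (innR c).ok = true := by decide +kernel

def inn (c : Cl) : W := ⟨innR c, ok_innR c (mem_LC c)⟩

theorem at_inn : ∀ c ∈ LC, ∀ k : Fin 8, L ((innR c).at' k) = c * L k * c⁻¹ := by decide +kernel

theorem L_inj : Function.Injective L := by decide +kernel

theorem L_flip (k : Fin 8) : L (flip k) = L k * cz := by revert k; decide +kernel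

theorem cz_comm : ∀ c ∈ LC, cz * c = c * cz := by decide +kernel

def LG : List R :=
  [⟨f0, f1, f3, f2⟩, ⟨f0, f1, f7, f6⟩, ⟨f0, f2, f1, f3⟩, ⟨f0, f2, f1, f7⟩, ⟨f0, f3, f2, f1⟩, ⟨f0,
  f3, f6, f1⟩, ⟨f0, f5, f3, f2⟩, ⟨f0, f5, f6, f7⟩, ⟨f0, f5, f7, f6⟩, ⟨f0, f6, f5, f3⟩, ⟨f0, f6,
  f5, f7⟩, ⟨f0, f7, f2, f5⟩, ⟨f0, f7, f6, f5⟩, ⟨f1, f0, f2, f3⟩, ⟨f1, f0, f2, f7⟩, ⟨f1, f0, f3,
  f2⟩, ⟨f1, f0, f6, f3⟩, ⟨f1, f0, f6, f7⟩, ⟨f1, f0, f7, f6⟩, ⟨f2, f1, f0, f3⟩, ⟨f2, f1, f0, f7⟩,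
  ⟨f2, f3, f0, f1⟩, ⟨f2, f5, f0, f3⟩, ⟨f2, f5, f0, f7⟩, ⟨f2, f7, f0, f5⟩, ⟨f3, f1, f2, f0⟩, ⟨f3,
  f1, f6, f0⟩, ⟨f3, f2, f1, f0⟩, ⟨f3, f5, f2, f0⟩, ⟨f3, f5, f6, f0⟩, ⟨f3, f6, f5, f0⟩, ⟨f4, f1,
  f3, f2⟩, ⟨f4, f1, f6, f7⟩, ⟨f4, f1, f7, f6⟩, ⟨f4, f2, f1, f3⟩, ⟨f4, f2, f1, f7⟩, ⟨f4, f3, f2,
  f1⟩, ⟨f4, f3, f6, f1⟩, ⟨f4, f5, f2, f7⟩, ⟨f4, f5, f3, f2⟩, ⟨f4, f5, f6, f3⟩, ⟨f4, f5, f6, f7⟩,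
  ⟨f4, f5, f7, f6⟩, ⟨f4, f6, f5, f3⟩, ⟨f4, f6, f5, f7⟩, ⟨f4, f7, f2, f5⟩, ⟨f4, f7, f6, f5⟩, ⟨f5,
  f4, f2, f3⟩, ⟨f5, f4, f2, f7⟩, ⟨f5, f4, f3, f2⟩, ⟨f5, f4, f6, f3⟩, ⟨f5, f4, f6, f7⟩, ⟨f5, f4,
  f7, f6⟩, ⟨f6, f1, f4, f3⟩, ⟨f6, f1, f4, f7⟩, ⟨f6, f3, f4, f1⟩, ⟨f6, f5, f4, f3⟩, ⟨f6, f5, f4,
  f7⟩, ⟨f6, f7, f4, f5⟩, ⟨f7, f1, f2, f4⟩, ⟨f7, f1, f6, f4⟩, ⟨f7, f2, f1, f4⟩, ⟨f7, f5, f2, f4⟩,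
  ⟨f7, f5, f6, f4⟩, ⟨f7, f6, f5, f4⟩]

end Cfsg.Agent.Inv.AL4
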