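import Mathlib
import Cfsg.Agent.Inv.SylowNumber
import Cfsg.Agent.Inv.ChTools5
import Cfsg.Agent.Blk.Fong
import Cfsg.Agent.Ch.MultiplierCrit

/-!
A character degree divisible by a prime `p ∥ |G|` gives a quasisimple normal subgroup.
-/

set_option autoImplicit false

namespace Cfsg.Agent.Inv.DG

open Cfsg.Agent.Ch Cfsg.Agent.Inv.PB Subgroup

variable {G : Type*} [Group G] [Finite G]

theorem exists_under (N : Subgroup G) [N.Normal] (χ : IrrCharacter G) :
    ∃ (θ : IrrCharacter N) (e : ℕ), e ∣ N.index ∧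
      charDegree (χ : G → ℂ) = e * charDegree (θ : N → ℂ) := by
  obtain ⟨θ, h⟩ := Blk.Om.exists_over_under N.subtype χ
  exact ⟨θ, h.exists_degree_eq_mul χ.2 θ.2⟩

theorem exists_quasi {p : ℕ} (hp : p.Prime) (h2 : ¬ p ^ 2 ∣ Nat.card G)
    (hq : SN.NoPow p (Nat.card G)) {χ : IrrCharacter G} (hχ : p ∣ charDegree (χ : G → ℂ)) :
    ∃ E : Subgroup G, E.Normal ∧ commutator E = ⊤ ∧ IsSimpleGroup (E ⧸ center E) ∧
      ¬ (Nat.card (E ⧸ center E)).Prime ∧ p ∣ Nat.card (E ⧸ center E) := by
  have := Fact.mk hp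
  obtain ⟨x, hx⟩ := exists_prime_orderOf_dvd_card' (G := G) p (hχ.trans χ.2.charDegree_dvd_card)
  have hs : Setup p x := ⟨hp, hx, h2⟩
  set E := closure {y : G | orderOf y = p} with hE
  have hconj : ∀ g y : G, orderOf (g * y * g⁻¹) = orderOf y := fun g y =>
    (CT.orderOf_eq_of_isConj (isConj_iff.2 ⟨g, rfl⟩)).symm
  have hN : E.Normal := ⟨fun y hy g => by
    induction hy using closure_induction with
    | mem y hy => exact subset_closure ((hconj g y).trans hy)
    | one => simp
    | mul y z _ _ hy hz => simpa [mul_assoc] using E.mul_mem hy hz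
    | inv y _ hy => simpa [mul_assoc] using E.inv_mem hy⟩
  have hxE : x ∈ E := subset_closure hx
  have key : ∀ M : Subgroup E, M.Normal → M = ⊤ ∨ M ≤ center E := fun M hM => by
    by_cases h1 : p ∣ Nat.card M
    · obtain ⟨y, hy, hy'⟩ := exists_mem_orderOf hp h1
      refine Or.inl (eq_top_iff.2 fun ⟨z, hz⟩ _ => ?_)
      induction hz using closure_induction with
      | mem z hz =>
        have h3 : Setup p (⟨z, subset_closure hz⟩ : E) := ⟨hp, (orderOf_mk _ _).trans hz,
          mt (·.trans (card_subgroup_dvd_card E)) h2⟩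
        obtain ⟨k, hk, hk1, hc⟩ := h3.exists_isConj hy'
        obtain ⟨c, rfl⟩ := isConj_iff.1 hc.symm
        exact zpowers_le.2 (hM.conj_mem y hy c) ((h3.zpowers_eq hk hk1).ge (mem_zpowers _))
      | one => exact M.one_mem
      | mul y z _ _ hy hz => exact M.mul_mem (hy trivial) (hz trivial)
      | inv y _ hy => exact M.inv_mem (hy trivial)
    · refine Or.inr fun m hm => mem_center_iff.2 fun ⟨z, hz⟩ => ?_
      induction hz using closure_induction with
      | mem z hz =>
        exact (mem_centralizer_singleton_iff.1 (SN.le_centralizer hp (k := 1)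
          (x := (⟨z, subset_closure hz⟩ : E)) (CT.pow_prime_eq_one ((orderOf_mk _ _).trans hz))
          (by rw [normalizer_eq_top]; trivial) h1 (fun q j h3 h4 => hq q j h3 (h4.trans
            ((card_subgroup_dvd_card M).trans (card_subgroup_dvd_card E)))) hm)).symm
      | one => exact Commute.one_left m
      | mul y z hy' hz' hy hz => exact Commute.mul_left (a := (⟨y, hy'⟩ : E)) (b := ⟨z, hz'⟩) hy hz
      | inv y hy' hy => exact Commute.inv_left (a := (⟨y, hy'⟩ : E)) hy
  have hpE : p ∣ Nat.card E := hx ▸ E.orderOf_dvd_natCard hxE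
  have hZ : center E ≠ ⊤ := fun h => by
    have h3 := hχ.trans (χ.2.charDegree_dvd_index_of_comm E fun a ha b hb => congrArg Subtype.val
      (mem_center_iff.1 (h ▸ mem_top _ : (⟨b, hb⟩ : E) ∈ center E) ⟨a, ha⟩))
    exact h2 (by rw [← E.index_mul_card, pow_two]; exact mul_dvd_mul h3 hpE)
  have hnt : Nontrivial (E ⧸ center E) := QuotientGroup.nontrivial_iff.2 hZ
  have hS : IsSimpleGroup (E ⧸ center E) := ⟨fun M hM => by
    rcases key _ (hM.comap (QuotientGroup.mk' _)) with h | h
    · exact Or.inr (comap_injective (QuotientGroup.mk'_surjective _) (h.trans (comap_top _).symm))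
    · refine Or.inl (eq_bot_iff.2 fun m hm => ?_)
      obtain ⟨m, rfl⟩ := QuotientGroup.mk_surjective m
      exact (QuotientGroup.eq_one_iff m).2 (h hm)⟩
  have hP : ¬ (Nat.card (E ⧸ center E)).Prime := fun h => by
    have := Fact.mk h
    have : IsCyclic (E ⧸ center E) := isCyclic_of_prime_card rfl
    exact hZ (eq_top_iff.2 fun a _ => mem_center_iff.2 fun b =>
      commutative_of_cyclic_center_quotient (QuotientGroup.mk' (center E)) (by simp) b a)
  refine ⟨E, hN, (key _ inferInstance).resolve_right fun h => ?_, hS, hP, ?_⟩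
  · have h3 := CT.commutator_eq_top hP
    rw [commutator_def, ← map_top_of_surjective _ (QuotientGroup.mk'_surjective (center E)),
      ← map_commutator, ← commutator_def, (Subgroup.map_eq_bot_iff _).2 (by simpa using h)] at h3
    exact bot_ne_top (h3.trans (map_top_of_surjective _ (QuotientGroup.mk'_surjective _)))
  · rw [← (center E).index_mul_card] at hpE
    refine (hp.dvd_mul.1 hpE).resolve_right fun h => ?_
    obtain ⟨y, hy, hy'⟩ := exists_mem_orderOf hp h
    refine hZ (eq_top_iff.2 fun ⟨z, hz⟩ _ => ?_)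
    induction hz using closure_induction with
    | mem z hz =>
      have h3 : Setup p (⟨z, subset_closure hz⟩ : E) := ⟨hp, (orderOf_mk _ _).trans hz,
        mt (·.trans (card_subgroup_dvd_card E)) h2⟩
      obtain ⟨k, hk, hk1, hc⟩ := h3.exists_isConj hy'
      obtain ⟨c, rfl⟩ := isConj_iff.1 hc.symm
      exact zpowers_le.2 (Normal.conj_mem inferInstance y hy c)
        ((h3.zpowers_eq hk hk1).ge (mem_zpowers _))
    | one => exact one_mem _
    | mul y z _ _ hy hz => exact mul_mem (hy trivial) (hz trivial)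
    | inv y _ hy => exact inv_mem (hy trivial)

theorem card_eq (E : Subgroup G) :
    Nat.card G = E.index * Nat.card (center E) * Nat.card (E ⧸ center E) := by
  rw [← E.index_mul_card, ← (center E).index_mul_card, index_eq_card (center E)]
  ring

theorem simple_of_card {E : Subgroup G} [IsSimpleGroup (E ⧸ center E)]
    (h : Nat.card (E ⧸ center E) = Nat.card G) : IsSimpleGroup G := by
  have h1 := card_eq E
  rw [h, eq_comm, Nat.mul_eq_right Nat.card_pos.ne', mul_eq_one, index_eq_one, card_eq_one] at h1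
  obtain ⟨rfl, h1⟩ := h1
  exact (topEquiv.symm.trans (QuotientGroup.quotientBot.symm.trans
    (QuotientGroup.quotientMulEquivOfEq h1.symm))).isSimpleGroup

theorem equiv_of_mult {E M : Type*} [Group E] [Group M] (hM : HasCyclicSchurMultiplier M 1)
    (hE : commutator E = ⊤) (e : E ⧸ center E ≃* M) : Nonempty (E ≃* M) := by
  have h : IsStemExtension (e.toMonoidHom.comp (QuotientGroup.mk' (center E))) :=
    ⟨e.surjective.comp (QuotientGroup.mk'_surjective _), fun x hx => by simpa using hx,
      hE ▸ le_top⟩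
  exact ⟨MulEquiv.ofBijective _ ⟨(MonoidHom.ker_eq_bot_iff _).1 (ker_eq_bot_of_stem hM _ h), h.1⟩⟩

omit [Finite G] in
/-- A complete normal subgroup is a direct factor. -/
theorem equiv_prod {M : Type*} [Group M] (hM : Nat.card (Out M) = 1) {E : Subgroup G} [E.Normal]
    (hZ : center E = ⊥) (e : E ≃* M) :
    Nonempty (centralizer (E : Set G) × E ≃* G) := by
  refine ⟨MulEquiv.ofBijective (MonoidHom.noncommCoprod (centralizer (E : Set G)).subtype E.subtype
    fun a b => (a.2 b b.2).symm) ⟨(injective_iff_map_eq_one _).2 fun ⟨a, b⟩ h => ?_, fun g => ?_⟩⟩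
  · replace h : (a : G) * b = 1 := h
    have h1 : b = 1 := mem_bot.1 (hZ ▸ mem_center_iff.2 fun c => Subtype.ext (by
      rw [coe_mul, coe_mul, eq_inv_of_mul_eq_one_right h]
      exact inv_mem a.2 c c.2))
    rw [h1, OneMemClass.coe_one, mul_one] at h
    exact Prod.ext (Subtype.ext h) h1
  · obtain ⟨m, hm⟩ : MulAut.congr e (MulAut.conjNormal g) ∈ Inn M := by
      rw [← QuotientGroup.eq_one_iff]
      exact (Nat.card_eq_one_iff_unique.1 hM).1.elim _ _
    refine ⟨(⟨g * (e.symm m : G)⁻¹, fun c hc => ?_⟩, e.symm m), inv_mul_cancel_right _ _⟩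
    have h1 := congrArg (fun φ : MulAut M => (e.symm (φ (e ((e.symm m)⁻¹ * ⟨c, hc⟩ * e.symm m))) : G))
      hm
    simp [mul_assoc] at h1
    conv_lhs => rw [h1]
    group

end Cfsg.Agent.Inv.DG
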