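import Mathlib
import Cfsg.Agent.Inv.CertIco
import Cfsg.Agent.Cl.LinearBasic
import Cfsg.Agent.Cl.Intertwine

/-! The binary icosahedral group: presentation and order bound. -/

set_option autoImplicit false

namespace Cfsg.Agent.Inv.Ico

open Cfsg.Agent.Spor

/-- The relators of the presentation. -/
def rels : Set (FreeGroup (Fin 3)) :=
  {FreeGroup.of (0 : Fin 3) ^ 3, FreeGroup.of (1 : Fin 3) ^ 5, FreeGroup.of (2 : Fin 3) ^ 2,
    (FreeGroup.of (2 : Fin 3))⁻¹ * FreeGroup.of 0 * FreeGroup.of 2 * (FreeGroup.of (0 : Fin 3))⁻¹,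
    (FreeGroup.of (2 : Fin 3))⁻¹ * FreeGroup.of 1 * FreeGroup.of 2 * (FreeGroup.of (1 : Fin 3))⁻¹,
    (FreeGroup.of (0 : Fin 3) * FreeGroup.of 1) ^ 2 * (FreeGroup.of (2 : Fin 3))⁻¹}

/-- The relations on three elements. -/
structure Rel {G : Type*} [Group G] (x y z : G) : Prop where
  hx : x ^ 3 = 1
  hy : y ^ 5 = 1
  hz : z ^ 2 = 1
  hzx : z * x = x * z
  hzy : z * y = y * z
  hxy : (x * y) ^ 2 = z

theorem Rel.card_le {G : Type*} [Group G] {x y z : G} (h : Rel x y z)
    (htop : Subgroup.closure {x, y, z} = ⊤) : Nat.card G ≠ 0 ∧ Nat.card G ≤ 120 := by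
  let g : ℕ → G := fun i => if i = 0 then x else if i = 1 then x⁻¹ else if i = 2 then y else
    if i = 3 then y⁻¹ else z
  have hzz : z * z = 1 := by rw [← pow_two, h.hz]
  have hinv : ∀ i < 5, g i * g (ico_inv i) = 1 := by
    intro i hi
    have e0 : ico_inv 0 = 1 := by decide +kernel
    have e1 : ico_inv 1 = 0 := by decide +kernel
    have e2 : ico_inv 2 = 3 := by decide +kernel
    have e3 : ico_inv 3 = 2 := by decide +kernel
    have e4 : ico_inv 4 = 4 := by decide +kernel
    interval_cases i <;> simp [g, e0, e1, e2, e3, e4, hzz]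
  have hall : ico_rels.all (fun l => decide (l ∈ [[], [4,0,4,1],[3,2],[1,0],[0,2,0,2,4],[0,0,0],
      [0,1],[4,2,4,3],[4,4],[2,3],[2,2,2,2,2]])) = true := by decide +kernel
  have hrels : ∀ i, evalW g (ico_rels.get i) = 1 := by
    intro i
    have hm := LT.all_get hall i
    rw [decide_eq_true_eq] at hm
    generalize ico_rels.get i = l at hm
    simp only [List.mem_cons, List.not_mem_nil, or_false] at hm
    have h3 : x * (x * x) = 1 := by rw [← h.hx]; simp [pow_succ, mul_assoc]
    have h5 : y * (y * (y * (y * y))) = 1 := by rw [← h.hy]; simp [pow_succ, mul_assoc]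
    have ha : z * (x * (z * x⁻¹)) = 1 := by
      rw [← mul_assoc x, ← h.hzx, ← mul_assoc, ← mul_assoc, hzz]; simp
    have hb : z * (y * (z * y⁻¹)) = 1 := by
      rw [← mul_assoc y, ← h.hzy, ← mul_assoc, ← mul_assoc, hzz]; simp
    have hc : x * (y * (x * (y * z))) = 1 := by
      have : x * (y * (x * (y * z))) = (x * y) ^ 2 * z := by simp [pow_two, mul_assoc]
      rw [this, h.hxy, hzz]
    rcases hm with rfl | rfl | rfl | rfl | rfl | rfl | rfl | rfl | rfl | rfl | rfl <;>
      simp [g, h3, h5, ha, hb, hc, hzz]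
  have hb := ico_bound (g := g) (H := ⊥) hinv hrels (fun i hi => absurd hi (Nat.not_lt_zero i))
    (fun i => by
      have : ico_hws.get i = [] := rfl
      rw [this]; exact Subgroup.one_mem _)
  have htop' : genLt g 5 = ⊤ := by
    rw [eq_top_iff, ← htop, Subgroup.closure_le]
    intro w hw
    simp only [Set.mem_insert_iff, Set.mem_singleton_iff] at hw
    rcases hw with rfl | rfl | rfl
    · exact mem_genLt g (x := 0) (by norm_num)
    · exact mem_genLt g (x := 2) (by norm_num)
    · exact mem_genLt g (x := 4) (by norm_num)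
  rwa [htop', Subgroup.relIndex_top_right, Subgroup.index_bot] at hb

theorem rel_of : Rel (PresentedGroup.of 0 : PresentedGroup rels) (PresentedGroup.of 1)
    (PresentedGroup.of 2) := by
  have key : ∀ r ∈ rels, PresentedGroup.mk rels r = 1 := fun r hr => PresentedGroup.one_of_mem hr
  have e : ∀ i, PresentedGroup.mk rels (FreeGroup.of i) = PresentedGroup.of i := fun i => rfl
  have h1 := key _ (by unfold rels; left; rfl)
  have h2 := key _ (by unfold rels; right; left; rfl)
  have h3 := key _ (by unfold rels; right; right; left; rfl)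
  have h4 := key _ (by unfold rels; right; right; right; left; rfl)
  have h5 := key _ (by unfold rels; right; right; right; right; left; rfl)
  have h6 := key _ (by unfold rels; right; right; right; right; right; rfl)
  simp only [map_mul, map_pow, map_inv, e] at h1 h2 h3 h4 h5 h6
  refine ⟨h1, h2, h3, ?_, ?_, ?_⟩
  · rw [mul_inv_eq_one, mul_assoc, inv_mul_eq_iff_eq_mul] at h4; exact h4.symm
  · rw [mul_inv_eq_one, mul_assoc, inv_mul_eq_iff_eq_mul] at h5; exact h5.symm
  · exact mul_inv_eq_one.1 h6

theorem card_pres : Nat.card (PresentedGroup rels) ≠ 0 ∧ Nat.card (PresentedGroup rels) ≤ 120 := by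
  refine rel_of.card_le ?_
  rw [← PresentedGroup.closure_range_of rels]
  congr 1
  ext w
  simp only [Set.mem_insert_iff, Set.mem_singleton_iff, Set.mem_range]
  constructor
  · rintro (rfl | rfl | rfl) <;> exact ⟨_, rfl⟩
  · rintro ⟨i, rfl⟩
    fin_cases i <;> simp

/-- A group of order 120 generated by elements satisfying the relations is the presented group. -/
theorem Rel.nonempty_equiv {G : Type*} [Group G] {x y z : G} (h : Rel x y z)
    (htop : Subgroup.closure {x, y, z} = ⊤) (hc : Nat.card G = 120) :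
    Nonempty (PresentedGroup rels ≃* G) := by
  let f : Fin 3 → G := ![x, y, z]
  have hf : ∀ r ∈ rels, FreeGroup.lift f r = 1 := by
    intro r hr
    unfold rels at hr
    simp only [Set.mem_insert_iff, Set.mem_singleton_iff] at hr
    rcases hr with rfl | rfl | rfl | rfl | rfl | rfl
    · simpa [f] using h.hx
    · simpa [f] using h.hy
    · simpa [f] using h.hz
    · simp only [map_mul, map_inv, FreeGroup.lift_apply_of, f]
      simp only [Matrix.cons_val_zero, Matrix.cons_val]
      rw [mul_assoc z⁻¹, ← h.hzx]; simp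
    · simp only [map_mul, map_inv, FreeGroup.lift_apply_of, f]
      simp only [Matrix.cons_val_one, Matrix.cons_val_zero, Matrix.cons_val]
      rw [mul_assoc z⁻¹, ← h.hzy]; simp
    · simp only [map_mul, map_inv, map_pow, FreeGroup.lift_apply_of, f]
      simp only [Matrix.cons_val_one, Matrix.cons_val_zero, Matrix.cons_val]
      rw [h.hxy]; simp
  let φ : PresentedGroup rels →* G := PresentedGroup.toGroup hf
  have hφ : ∀ i, φ (PresentedGroup.of i) = f i := fun i => PresentedGroup.toGroup.of hf
  have hs : Function.Surjective φ := by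
    rw [← MonoidHom.range_eq_top, eq_top_iff, ← htop, Subgroup.closure_le]
    intro w hw
    simp only [Set.mem_insert_iff, Set.mem_singleton_iff] at hw
    rcases hw with rfl | rfl | rfl
    · exact ⟨_, hφ 0⟩
    · exact ⟨_, hφ 1⟩
    · exact ⟨_, hφ 2⟩
  have : Finite (PresentedGroup rels) := Nat.finite_of_card_ne_zero card_pres.1
  have hb : Function.Bijective φ := hs.bijective_of_nat_card_le (by rw [hc]; exact card_pres.2)
  exact ⟨MulEquiv.ofBijective φ hb⟩

/-- Generator of order 3. -/
def sX : Matrix.SpecialLinearGroup (Fin 2) (ZMod 5) :=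
  ⟨!![0, 1; -1, -1], by rw [Matrix.det_fin_two_of]; decide⟩
/-- Generator of order 5. -/
def sY : Matrix.SpecialLinearGroup (Fin 2) (ZMod 5) :=
  ⟨!![1, -1; 0, 1], by rw [Matrix.det_fin_two_of]; decide⟩
/-- The central involution. -/
def sZ : Matrix.SpecialLinearGroup (Fin 2) (ZMod 5) :=
  ⟨!![-1, 0; 0, -1], by rw [Matrix.det_fin_two_of]; decide⟩

theorem rel_sl : Rel sX sY sZ := by
  refine ⟨?_, ?_, ?_, ?_, ?_, ?_⟩ <;> apply Subtype.ext <;> decide +kernel

theorem sY_pow : (sY ^ 4).1 = !![1, 1; 0, 1] := by decide +kernel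
theorem sY_conj : ((sX * sY) * sY * (sX * sY) ^ 3).1 = !![1, 0; 1, 1] := by decide +kernel

theorem closure_sl : Subgroup.closure ({sX, sY, sZ} : Set _) = ⊤ := by
  have : Fact (Nat.Prime 5) := ⟨by norm_num⟩
  apply Cl.sl_eq_top_of_prime (F := ZMod 5) (by rw [Nat.card_zmod]; norm_num)
  have hX : sX ∈ Subgroup.closure ({sX, sY, sZ} : Set _) := Subgroup.subset_closure (by simp)
  have hY : sY ∈ Subgroup.closure ({sX, sY, sZ} : Set _) := Subgroup.subset_closure (by simp)
  intro i j hij
  fin_cases i <;> fin_cases j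
  · exact absurd rfl hij
  · have : Matrix.SpecialLinearGroup.transvection hij (1 : ZMod 5) = sY ^ 4 := by
      apply Subtype.ext
      rw [sY_pow]
      ext a b
      fin_cases a <;> fin_cases b <;> simp [Matrix.SpecialLinearGroup.transvection, Matrix.transvection]
    rw [this]; exact Subgroup.pow_mem _ hY 4
  · have : Matrix.SpecialLinearGroup.transvection hij (1 : ZMod 5) =
        (sX * sY) * sY * (sX * sY) ^ 3 := by
      apply Subtype.ext
      rw [sY_conj]
      ext a b
      fin_cases a <;> fin_cases b <;> simp [Matrix.SpecialLinearGroup.transvection, Matrix.transvection]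
    rw [this]
    exact Subgroup.mul_mem _ (Subgroup.mul_mem _ (Subgroup.mul_mem _ hX hY) hY)
      (Subgroup.pow_mem _ (Subgroup.mul_mem _ hX hY) 3)
  · exact absurd rfl hij

/-- `SL(2,5)` is the presented group. -/
theorem nonempty_equiv_sl :
    Nonempty (PresentedGroup rels ≃* Matrix.SpecialLinearGroup (Fin 2) (ZMod 5)) := by
  refine rel_sl.nonempty_equiv closure_sl ?_
  have : Fact (Nat.Prime 5) := ⟨by norm_num⟩
  have := Cl.card_sl_two (F := ZMod 5)
  rw [Nat.card_zmod] at this
  exact this

end Cfsg.Agent.Inv.Ico
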