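import Mathlib
import Cfsg.Agent.Inv.Jnt

/-!
Simple groups of order 10200960: the searches.
-/

set_option autoImplicit false

namespace Cfsg.Agent.Inv.Srch

open Cfsg.Agent.Inv.Sieve

/-- The possible degrees when the element of order `p` is self-centralizing. -/
def okd (p e a : ℕ) : Bool := Nat.beq (a % p) 0 || Nat.beq (a % p) 1 || Nat.beq (a % p + 1) p ||
  Nat.beq (a % p) e || Nat.beq (a % p + e) p

/-- All columns with the listed possible values satisfy `fin`. -/
def colG (N t : ℕ) (fin : ℤ → Bool) : List (ℤ × List ℤ) → ℤ → ℕ → Bool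
  | [], s, sq => Nat.blt N (sq + t * (s.natAbs * s.natAbs)) || fin s
  | (d, vs) :: r, s, sq => vs.all fun v => Nat.blt N (sq + v.natAbs * v.natAbs) ||
      colG N t fin r (s + d.sign * v) (sq + v.natAbs * v.natAbs)

theorem colG_sound {ι : Type*} {N t : ℕ} {w : ℤ} {fin : ℤ → Bool} (d v : ι → ℤ)
    (vs : ι → List ℤ) : ∀ (L : List ι) (s : ℤ) (sq : ℕ),
      (∀ i ∈ L, v i ∈ vs i) → s + (L.map fun i => (d i).sign * v i).sum = w →
      (sq : ℤ) + (L.map fun i => v i ^ 2).sum + t * w ^ 2 ≤ N →
      colG N t fin (L.map fun i => (d i, vs i)) s sq = true → fin w = true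
  | [], s, sq, _, h1, h2, h => by
    simp only [List.map_nil, List.sum_nil, add_zero] at h1 h2
    simp only [List.map_nil, colG, h1, Bool.or_eq_true, Nat.blt_eq] at h
    exact h.resolve_left (by zify; rw [abs_mul_abs_self, ← pow_two]; omega)
  | i :: L, s, sq, h0, h1, h2, h => by
    simp only [List.map_cons, List.sum_cons] at h1 h2
    have h4 : 0 ≤ (L.map fun i => v i ^ 2).sum :=
      List.sum_nonneg fun a ha => by
        obtain ⟨j, -, rfl⟩ := List.mem_map.1 ha
        positivity
    have h8 : (0 : ℤ) ≤ t * w ^ 2 := by positivity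
    simp only [List.map_cons, colG, List.all_eq_true, Bool.or_eq_true, Nat.blt_eq] at h
    exact colG_sound d v vs L _ _ (fun j hj => h0 j (by simp [hj])) (by rw [add_assoc, h1])
      (by rw [Nat.cast_add, Int.natAbs_mul_self, ← pow_two]; omega)
      ((h (v i) (h0 i (by simp))).resolve_left (by
        zify
        rw [abs_mul_abs_self, ← pow_two]
        omega))

/-- The test of the value `v` of a character of degree `a` at an element of order `r`. -/
def okr (r a : ℕ) (v : ℤ) : Bool :=
  Nat.beq ((v - a).natAbs % r) 0 && (!Nat.beq (a % r) 0 || Nat.beq v.natAbs 0)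

/-- A lower bound for the sum of the squares of the values at an element of order `r`. -/
def msum (r : ℕ) (A : List (ℕ × ℤ)) : ℕ := (A.map fun a => min (a.1 % r) (r - a.1 % r) ^ 2).sum

/-- The block `(D, l)` has no column at a rational element of order `r`. -/
def noCol (p e r N sq : ℕ) (D : ℤ) (l : List ℤ) : Bool :=
  colG N ((p - 1) / e) (fun w => !okr r D.natAbs (D.sign * w))
    (l.map fun d => (d, (sym (rootUp N)).filter (okr r d.natAbs))) 1 sq

end Cfsg.Agent.Inv.Srch

namespace Cfsg.Agent.Inv.M23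

open Cfsg.Agent.Inv.Srch Cfsg.Agent.Inv.Sieve

theorem s23 : (locAll 10200960 23 fun e c => Nat.beq c 1 ||
    blkAll2 10200960 23 e c (fun _ => true) (fun _ => true) fun D l =>
      !(Nat.beq (c % 2) 1 || anyZ 10200960 23 e c (fun cz => Nat.beq (cz % 23) 0) D l)) = true := by
  decide +kernel

theorem s11 : (locAll 10200960 11 fun e c => (Nat.beq c 1 || Nat.beq (c % 23) 0) ||
    blkAll2 10200960 11 e c (fun a => okd 23 11 a.natAbs) (fun a => okd 23 11 a.natAbs) fun D l =>
      !(Nat.beq (c % 2) 1 || anyZ 10200960 11 e c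
        (fun cz => Nat.beq (cz % 11) 0 && !Nat.beq (cz % 23) 0) D l) || (e == 2 && c % 7 == 0 &&
        ((D == 24 && l == [23]) || (D == 46 && l == [45])))) = true := by
  decide +kernel

/-- The possible degrees. -/
def ok (a : ℤ) : Bool := okd 23 11 a.natAbs && okd 11 5 a.natAbs && Nat.ble 21 a.natAbs

theorem s5 : (locAll 10200960 5 fun e c => (Nat.beq (c % 11) 0 || Nat.beq (c % 23) 0) ||
    blkAll2 10200960 5 e c ok ok fun D l =>
      !(Nat.beq (c % 2) 1 || anyZ 10200960 5 e c
        (fun cz => Nat.beq (cz % 5) 0 && !Nat.beq (cz % 11) 0 && !Nat.beq (cz % 23) 0) D l) ||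
      !anyZ 10200960 5 e c (fun cz => Nat.beq (10200960 / cz % 2) 1 && !Nat.beq (cz % 11) 0 &&
        !Nat.beq (cz % 23) 0) D l || (e == 4 && c == 3 && D == 2024 &&
        (l == [231, 896, 896] || l == [-644, 896, 1771]))) = true := by
  decide +kernel

theorem s11' : ([[231, 896, 896], [-644, 896, 1771]].all fun l' =>
    locAll 10200960 11 fun e c => !Nat.beq c 1 || blkAll2 10200960 11 e c ok ok
      fun D l => !inc 11 1 (degR 11 e D l) (degR 5 4 2024 l') ||
      (e == 5 && D == 896 && l' == [231, 896, 896] &&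
        (l == [45, 45, -230, 1035] || l == [45, 45, -483, 1288]))) = true := by
  decide +kernel

theorem s23' : ([[45, 45, -230, 1035], [45, 45, -483, 1288]].all fun l' =>
    locAll 10200960 23 fun e c => !Nat.beq c 1 || blkAll2 10200960 23 e c
      (fun a => Nat.ble 21 a.natAbs && (Nat.beq (a.natAbs % 11) 0 ||
        (degR 11 5 896 l').elem (a.natAbs, (a.natAbs : ℤ))))
      (fun a => Nat.ble 21 a.natAbs && (Nat.beq (a.natAbs % 11) 0 ||
        (degR 11 5 896 l').elem (a.natAbs, (a.natAbs : ℤ)))) fun D l =>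
      !inc 23 1 (degR 23 e D l) (degR 11 5 896 l') ||
      Nat.blt 10200960 (1 + sqs (degR 23 e D l ++ (on 23 (degR 11 5 896 l') ++ [(2024, 2024)]))) ||
      noCol 23 e 5 15 (1 + msum 5 (on 23 (degR 11 5 896 l') ++ [(2024, 2024)])) D l ||
      (e == 11 && D == 770 && l' == [45, 45, -230, 1035] &&
        l == [-22, -45, -45, 231, 231, 231, -896, -896, 990, 990])) = true := by
  decide +kernel

theorem s2 : ((divs 10200960).all fun cz => !(Nat.beq (10200960 / cz % 2) 1 &&
    !Nat.beq (cz % 11) 0 && !Nat.beq (cz % 23) 0) ||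
    !anyC 10200960 5 4 3 cz (fun _ _ => true) (fun _ => true) 2024 [231, 896, 896] ||
    colR 10200960 11 5 1 cz (fun a v => !Nat.beq a 230 ||
      (List.range 22).any fun x => x * x == 24 + 2 * v) (fun _ => false) 896
      [45, 45, -230, 1035]) = true := by
  decide +kernel

end Cfsg.Agent.Inv.M23
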