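import Mathlib
import Cfsg.Agent.Inv.M22A
import Cfsg.Agent.Inv.M23S
import Cfsg.Agent.Cl.LinearBasic
import Cfsg.Agent.S4703

/-!
Simple groups of order 10200960: the principal blocks.
-/

set_option autoImplicit false

namespace Cfsg.Agent.Inv

open Finset Cfsg.Agent.Ch Cfsg.Agent.Inv.PB Cfsg.Agent.Inv.M11 Cfsg.Agent.Inv.Srch
  Cfsg.Agent.Inv.Sieve

variable {G : Type*} [Group G]

namespace PB

theorem deg_ge [Finite G] [IsSimpleGroup G] {n p : ℕ} (hn : Nat.card G = n) (hG : ¬ n.Prime)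
    (hp : p.Prime) (h7 : 7 < p) (h1 : p ∣ n) (h2 : ¬ p ^ 2 ∣ n) (h3 : p * (p ^ 2 - 1) < n)
    {χ : IrrCharacter G} (hχ : χ ≠ irrOne G) : p - 2 ≤ charDegree (χ : G → ℂ) := by
  have := Fact.mk hp
  subst hn
  obtain ⟨x, hx⟩ := exists_prime_orderOf_dvd_card' (G := G) p h1
  obtain ⟨Q, hQ⟩ := PS.exists_sylow_eq h2 hx
  have hc : Nat.card Q = p := by rw [hQ, Nat.card_zpowers, hx]
  have hZ := CT.center_eq_bot hG
  refine (S4703.result (by simp [hZ]) p h7 Q hc (fun h => ?_) _ χ.2 fun g hg => by_contra fun h =>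
    CT.apply_ne_of_simple χ.2 (ne_one_iff.1 hχ) h hg).resolve_left ?_
  · rcases h.eq_bot_or_eq_top with h | h
    · exact hp.ne_one (hc.symm.trans (Subgroup.card_eq_one.2 h))
    · exact hG (by rwa [← Subgroup.card_top, ← h, hc])
  · rintro ⟨⟨F, _, _, hF, ⟨f⟩⟩, -⟩
    have h4 := Cl.card_psl_two_mul (F := F)
    rw [← Nat.card_congr f.toEquiv, Nat.card_eq_fintype_card (α := F), hF,
      ← Subgroup.index_eq_card, hZ, Subgroup.index_bot] at h4
    have h5 := Nat.le_mul_of_pos_left (Nat.card G) (Nat.gcd_pos_of_pos_left (p - 1) two_pos)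
    omega

theorem Setup.okd [Finite G] {p e : ℕ} {x : G} (h : Setup p x) (hC : Nat.card (C x) = p)
    (hN : Nat.card (N x) = e * Nat.card (C x)) (χ : IrrCharacter G) :
    okd p e (charDegree (χ : G → ℂ)) = true := by
  have := Fintype.ofFinite G
  obtain ⟨X, Y, δ, ε, B⟩ := h.exists_blk hN
  have h0 := B.e_pos
  have h1 := B.e_lt
  have h2 : ∀ a r : ℕ, 0 < r → r < p → ∀ s : ℤ, s = 1 ∨ s = -1 → (a : ℤ) ≡ s * r [ZMOD p] →
      a % p = r ∨ a % p + r = p := fun a r h2 h3 s hs h4 => by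
    rcases hs with rfl | rfl
    · rw [one_mul, Int.natCast_modEq_iff] at h4
      exact .inl (Eq.trans h4 (Nat.mod_eq_of_lt h3))
    · have h5 : (a : ℤ) ≡ (p - r : ℕ) [ZMOD p] :=
        h4.trans (Int.modEq_iff_dvd.2 ⟨1, by rw [Nat.cast_sub h3.le]; ring⟩)
      have h6 : a % p = p - r :=
        Eq.trans (Int.natCast_modEq_iff.1 h5) (Nat.mod_eq_of_lt (by omega))
      omega
  simp only [Srch.okd, Bool.or_eq_true, Nat.beq_eq]
  by_cases hX : χ ∈ X
  · have := h2 _ 1 one_pos h.prime.one_lt _ (B.sign χ hX) (by simpa using B.deg χ hX)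
    tauto
  by_cases hY : χ ∈ Y
  · have := h2 _ e h0 h1 _ B.sign_Y (B.deg_Y χ hY)
    tauto
  simp [Nat.mod_eq_zero_of_dvd (B.other hC χ hX hY)]

theorem okr_of [Finite G] {r : ℕ} (hr : r.Prime) (h2 : ¬ r ^ 2 ∣ Nat.card G) {y : G}
    (hy : orderOf y = r) {χ : IrrCharacter G} {v : ℤ} (hv : (χ : G → ℂ) y = v) :
    okr r (charDegree (χ : G → ℂ)) v = true := by
  have h1 := CT.modEq_of_pow χ.isCharacter hr y hv (b := dg χ)
    (by rw [← hy, pow_orderOf_eq_one, dg_spec])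
  simp only [okr, Bool.and_eq_true, Bool.or_eq_true, Bool.not_eq_true', ← Bool.not_eq_true,
    Nat.beq_eq, Int.natAbs_eq_zero]
  refine ⟨Nat.mod_eq_zero_of_dvd (Int.natCast_dvd.1 h1.symm.dvd), or_iff_not_imp_left.2 fun h => ?_⟩
  exact_mod_cast hv.symm.trans (CT.zero_of_defect χ.2 (a := 1) hr h2
    (by rw [pow_one]; exact Nat.dvd_of_mod_eq_zero (not_not.1 h)) hy.symm.dvd)

theorem msum_le {r : ℕ} (hr : 0 < r) (v : IrrCharacter G → ℤ) : ∀ E : List (IrrCharacter G),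
    (∀ χ ∈ E, okr r (charDegree (χ : G → ℂ)) (v χ) = true) →
      msum r (E.map (rc dg)) ≤ sqs (E.map (rc v))
  | [], _ => le_rfl
  | χ :: E, h => by
    have h1 := msum_le hr v E fun ψ hψ => h ψ (by simp [hψ])
    have h2 := h χ (by simp)
    simp only [okr, Bool.and_eq_true, Nat.beq_eq] at h2
    simp only [msum, sqs, rc, List.map_cons, List.sum_cons, pow_two] at h1 ⊢
    refine Nat.add_le_add (Nat.mul_self_le_mul_self ?_) h1
    obtain ⟨k, hk⟩ := Int.natCast_dvd.2 (Nat.dvd_of_mod_eq_zero h2.1)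
    generalize charDegree (χ : G → ℂ) = a at hk ⊢
    have h3 := Nat.mod_add_div a r
    have h4 := Nat.mod_lt a hr
    have h5 : v χ = (a % r : ℕ) + r * (k + (a / r : ℕ)) := by
      rw [mul_add, ← hk, ← Nat.cast_mul]; omega
    generalize k + (a / r : ℕ) = j at h5
    rcases le_or_gt 0 j with h6 | h6
    · have := mul_nonneg (Nat.cast_nonneg (α := ℤ) r) h6
      omega
    · have : (r : ℤ) * j ≤ r * (-1) := mul_le_mul_of_nonneg_left (by omega) (Nat.cast_nonneg r)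
      omega

theorem BD.noCol [Fintype G] {p e c : ℕ} {D : ℤ} {l : List ℤ} (B : BD G p e c D l) {r : ℕ}
    (hr : r.Prime) (hpr : p ≠ r) (h2 : ¬ r ^ 2 ∣ Nat.card G) {y : G} (hy : orderOf y = r)
    {v : IrrCharacter G → ℤ} (hv : ∀ χ : IrrCharacter G, (χ : G → ℂ) y = v χ)
    {E : List (IrrCharacter G)} (hE : (B.F ++ E).Nodup) (h1 : irrOne G ∉ E) :
    noCol p e r (Nat.card (C y)) (1 + msum r (E.map (rc dg))) D l = false := by
  have hp : ¬ p ∣ orderOf y := fun h =>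
    hpr ((Nat.prime_dvd_prime_iff_eq B.blk.setup.prime hr).1 (hy ▸ h))
  have ho := fun χ => okr_of hr h2 hy (hv χ)
  have h3 := sqs_le hE (by simp [B.one_notMem, h1]) hv
  have h4 := msum_le hr.pos v E fun χ _ => ho χ
  rw [List.map_append, sqs_append, B.map_F hp hv, sqs_append] at h3
  have hs : ∀ χ ∈ B.L, (sd B.δ χ).sign = B.δ χ := fun χ hχ =>
    sign_sign_mul (B.blk.sign χ (B.lst.mem_of hχ).1) χ.2.charDegree_pos
  have hε : B.ε * B.ε = 1 := by rcases B.blk.sign_Y with h | h <;> simp [h]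
  rw [← Bool.not_eq_true, Srch.noCol, ← B.hl, List.map_map]
  intro h
  have h5 := colG_sound (w := B.ε * v B.θ) (sd B.δ) v _ B.L 1 _ (fun χ hχ => List.mem_filter.2
    ⟨mem_sym_rootUp (by simpa [pow_two] using CT.col_le {χ} y v fun ψ _ => hv ψ), by
      rw [sd, natAbs_sign_mul (B.blk.sign χ (B.lst.mem_of hχ).1), ho]⟩) (by
      have h5 := B.rel hp B.hθ
      simp only [hv] at h5
      rw [List.map_congr_left fun χ hχ => by rw [hs χ hχ]]
      apply Int.cast_injective (α := ℂ)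
      simpa [Function.comp_def] using h5) (by
      zify at h3 h4
      simp only [sqs, rc, List.map_replicate, List.sum_replicate, List.map_map, Function.comp_def,
        Nat.cast_list_sum, Nat.cast_mul, Nat.cast_natAbs, Int.cast_abs, Int.cast_eq,
        abs_mul_abs_self, smul_eq_mul] at h3 h4
      simp only [pow_two, mul_mul_mul_comm B.ε, hε, one_mul, Nat.cast_add, Nat.cast_one]
      omega) h
  rw [← B.sign_D, ← mul_assoc, hε, one_mul, B.natAbs_D, ho] at h5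
  exact Bool.false_ne_true h5

theorem BD.cenV [Fintype G] [IsSimpleGroup G] {p e c n : ℕ} {D : ℤ} {l : List ℤ}
    (B : BD G p e c D l) (hn : Nat.card G = n) (hG : ¬ n.Prime) (h4 : 4 ∣ n) (hp : p ≠ 2)
    {f : ℕ → Bool} (hf : ∀ u : G, orderOf u = 2 → Nat.card (C u) % p = 0 →
      f (Nat.card (C u)) = true) : (Nat.beq (c % 2) 1 || Srch.anyZ n p e c f D l) = true := by
  rw [Bool.or_eq_true, Nat.beq_eq]
  refine or_iff_not_imp_left.2 fun h6 => ?_
  obtain ⟨u, hu, h7⟩ := B.exists_invol h6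
  exact B.anyZ hn hG h4 hp hu (hf u hu h7)

theorem beq_false_of_sc [Finite G] {p q : ℕ} (hp : p.Prime) (h2 : ¬ p ^ 2 ∣ Nat.card G)
    (h : ∀ x : G, orderOf x = p → Nat.card (C x) = p) {y : G} (hy : orderOf y = q) (h1 : q ≠ 1)
    (hq : q ≠ p) {c : ℕ} (hc : c ∣ Nat.card (C y)) : Nat.beq (c % p) 0 = false := by
  rw [← Bool.not_eq_true, Nat.beq_eq]
  intro h3
  obtain ⟨x, -, hx⟩ := exists_mem_orderOf hp ((Nat.dvd_of_mod_eq_zero h3).trans hc)
  exact Setup.not_dvd_C ⟨hp, hx, h2⟩ (h x hx) (CT.ne_one_of_orderOf hy h1) (hy ▸ hq)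
    ((Nat.dvd_of_mod_eq_zero h3).trans hc)

theorem beq_false_of_ne [Finite G] {p : ℕ} {x : G} (h : Setup p x) (h1 : Nat.card (C x) ≠ p)
    {y : G} (hy : orderOf y = p) {c : ℕ} (hc : Nat.card (C y) = c * p) : Nat.beq c 1 = false := by
  rw [← Bool.not_eq_true, Nat.beq_eq]
  rintro rfl
  exact h1 (by rw [← h.card_C_eq hy, hc, one_mul])

theorem eq_one_of_sc {p c : ℕ} (hp : p.Prime) (h : p = c * p) : c = 1 :=
  Nat.eq_of_mul_eq_mul_right hp.pos (by rw [← h, one_mul])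

end PB

namespace M23

variable [Fintype G] [IsSimpleGroup G] (hG : Nat.card G = 10200960)
include hG

theorem c23 (x : G) (hx : orderOf x = 23) : Nat.card (C x) = 23 := by
  by_contra h
  obtain ⟨e, c, D, l, ⟨A⟩, h1⟩ := exists_BD (p := 23) hG (by norm_num) (by norm_num) (by norm_num)
    (by norm_num) (fun y hy c hc => beq_false_of_ne ⟨by norm_num, hx, by rw [hG]; norm_num⟩ h hy hc)
    (ok := fun _ _ _ => true) (okY := fun _ _ _ => true) (fun _ _ _ _ _ _ => ⟨rfl, rfl⟩) s23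
  rw [A.cenV hG (by norm_num) (by norm_num) (by norm_num) fun u _ h => Nat.beq_eq ▸ h] at h1
  exact Bool.false_ne_true h1

theorem d23 (χ : IrrCharacter G) : okd 23 11 (charDegree (χ : G → ℂ)) = true := by
  obtain ⟨x, hx⟩ := exists_prime_orderOf_dvd_card' (G := G) 23 (hp := ⟨by norm_num⟩)
    (by rw [hG]; norm_num)
  have hs : Setup 23 x := ⟨by norm_num, hx, by rw [hG]; norm_num⟩
  obtain ⟨e, c, hc, hN, h⟩ := hs.loc (by rw [hG]; norm_num) hG
    (test := fun e c => c != 1 || e == 11) (by decide +kernel)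
  obtain rfl := eq_one_of_sc hs.prime ((c23 hG x hx).symm.trans hc)
  obtain rfl : e = 11 := by simpa using h
  exact hs.okd (c23 hG x hx) hN χ

theorem n23 {q : ℕ} {y : G} (hy : orderOf y = q) {c : ℕ} (hc : c ∣ Nat.card (C y))
    (h1 : q ≠ 1 := by norm_num) (hq : q ≠ 23 := by norm_num) : Nat.beq (c % 23) 0 = false :=
  beq_false_of_sc (by norm_num) (by rw [hG]; norm_num) (c23 hG) hy h1 hq hc

theorem c11 (x : G) (hx : orderOf x = 11) : Nat.card (C x) = 11 := by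
  by_contra h
  obtain ⟨e, c, D, l, ⟨A⟩, h1⟩ := exists_BD (p := 11) hG (by norm_num) (by norm_num) (by norm_num)
    (by norm_num) (fun y hy c hc => by
      rw [beq_false_of_ne ⟨by norm_num, hx, by rw [hG]; norm_num⟩ h hy hc,
        n23 hG hy (Dvd.intro _ hc.symm), Bool.or_self])
    (fun _ _ χ _ a ha => by rw [ha, d23 hG, and_self]) s11
  rw [A.cenV hG (by norm_num) (by norm_num) (by norm_num) fun u hu h => by
    rw [n23 hG hu dvd_rfl, h]; rfl] at h1
  simp only [Bool.not_true, Bool.false_or, Bool.and_eq_true, Bool.or_eq_true, beq_iff_eq] at h1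
  obtain ⟨⟨rfl, h2⟩, h3⟩ := h1
  obtain ⟨w, hw, h4⟩ := CT.exists_commute_of_dvd (g := A.x) (p := 7) (by norm_num)
    (by rw [show Nat.card (Subgroup.centralizer {A.x}) = c * 11 from A.hc]; omega)
  have key : ∀ n : ℕ, l = [(n : ℤ)] → D.natAbs ≠ n → 0 < n → ∃ (v : ℤ) (k : ℕ), (11 : ℤ) ∣ 1 - v ∧
      n + 6 * v = 7 * k ∧ |v| < n := fun n hl hD hn => by
    obtain ⟨χ, hL, hχ⟩ : ∃ χ, A.L = [χ] ∧ sd A.δ χ = n := by
      simpa [hl] using A.hl
    obtain ⟨h5, h6, -⟩ := A.of_pos (by simp [hL]) n hχ hn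
    obtain ⟨h7, h8⟩ := A.lst.mem_of (χ := χ) (by simp [hL])
    obtain ⟨v, hv⟩ := A.blk.int_of_unique (.inl h7) (fun ψ hψ h9 => by
      rcases hψ with h10 | h10
      · rw [A.lst.mem, hL, List.mem_cons, List.mem_singleton] at h10
        refine h10.resolve_left ?_
        rintro rfl
        exact absurd (CT.two_le_degree (CT.commutator_eq_top (by rw [hG]; norm_num)) χ.2
          (ne_one_iff.1 h8)) (by rw [← h9, deg_irrOne]; norm_num)
      · exact absurd ((A.deg_Y h10).symm.trans (h9.trans h6)) hD) w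
    exact ⟨v, _, h5 ▸ A.blk.dvd_sub h7 h4.symm (by rw [hw]; norm_num) hv,
      by simpa [h6] using CT.fix_prime χ.isCharacter hv (by norm_num) hw,
      h6 ▸ CT.abs_lt_deg (by rw [hG]; norm_num) h8 (CT.ne_one_of_orderOf hw (by norm_num)) hv⟩
  rcases h3 with ⟨rfl, h3⟩ | ⟨rfl, h3⟩
  · obtain ⟨v, k, h5⟩ := key 23 h3 (by norm_num) (by norm_num)
    rw [abs_lt] at h5
    omega
  · obtain ⟨v, k, h5⟩ := key 45 h3 (by norm_num) (by norm_num)
    rw [abs_lt] at h5
    omega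

theorem card_N (x : G) (hx : orderOf x = 11) : Nat.card (N x) = 5 * Nat.card (C x) := by
  have hs : Setup 11 x := ⟨by norm_num, hx, by rw [hG]; norm_num⟩
  obtain ⟨e, c, hc, hN, h⟩ := hs.loc (by rw [hG]; norm_num) hG
    (test := fun e c => c != 1 || e == 5) (by decide +kernel)
  obtain rfl := eq_one_of_sc hs.prime ((c11 hG x hx).symm.trans hc)
  obtain rfl : e = 5 := by simpa using h
  exact hN

theorem n11 {q : ℕ} {y : G} (hy : orderOf y = q) {c : ℕ} (hc : c ∣ Nat.card (C y))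
    (h1 : q ≠ 1 := by norm_num) (hq : q ≠ 11 := by norm_num) : Nat.beq (c % 11) 0 = false :=
  beq_false_of_sc (by norm_num) (by rw [hG]; norm_num) (c11 hG) hy h1 hq hc

theorem ge21 {χ : IrrCharacter G} (h : χ ≠ irrOne G) : 21 ≤ charDegree (χ : G → ℂ) :=
  deg_ge (p := 23) hG (by norm_num) (by norm_num) (by norm_num) (by norm_num) (by norm_num)
    (by norm_num) h

theorem ok_of {χ : IrrCharacter G} (h : χ ≠ irrOne G) {a : ℤ}
    (ha : a.natAbs = charDegree (χ : G → ℂ)) : ok a = true := by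
  obtain ⟨x, hx⟩ := exists_prime_orderOf_dvd_card' (G := G) 11 (hp := ⟨by norm_num⟩)
    (by rw [hG]; norm_num)
  rw [ok, ha, d23 hG, Setup.okd ⟨by norm_num, hx, by rw [hG]; norm_num⟩ (c11 hG x hx)
    (card_N hG x hx), Nat.ble_eq_true_of_le (ge21 hG h)]
  rfl

theorem exists_BD3 :
    Nonempty (BD G 23 11 1 770 [-22, -45, -45, 231, 231, 231, -896, -896, 990, 990]) ∧
    Nonempty (BD G 11 5 1 896 [45, 45, -230, 1035]) ∧
    Nonempty (BD G 5 4 3 2024 [231, 896, 896]) := by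
  have hp : ¬ Nat.Prime 10200960 := by norm_num
  have h4 : 4 ∣ 10200960 := by norm_num
  obtain ⟨e, c, D, l, ⟨Z⟩, h⟩ := exists_BD (p := 5) hG hp (by norm_num) (by norm_num)
    (by norm_num) (fun y hy c hc => by
      rw [n11 hG hy (Dvd.intro _ hc.symm), n23 hG hy (Dvd.intro _ hc.symm), Bool.or_self])
    (fun _ _ χ h a ha => by rw [ok_of hG h ha, and_self]) s5
  obtain ⟨t, ht, h1⟩ := exists_cen hG h4
  rw [Z.cenV hG hp h4 (by norm_num) fun u hu h => by
    rw [n11 hG hu dvd_rfl, n23 hG hu dvd_rfl, h]; rfl, Z.anyZ hG hp h4 (by norm_num) ht (by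
    rw [n11 hG ht dvd_rfl, n23 hG ht dvd_rfl, h1]; rfl)] at h
  simp only [Bool.not_true, Bool.false_or, Bool.and_eq_true, Bool.or_eq_true, beq_iff_eq] at h
  obtain ⟨⟨⟨rfl, rfl⟩, rfl⟩, h⟩ := h
  obtain ⟨e, c, D, l', ⟨Y⟩, h2⟩ := exists_BD (p := 11) hG hp (by norm_num) (by norm_num)
    (by norm_num) (fun y hy c hc => by
      rw [eq_one_of_sc (by norm_num) ((c11 hG y hy).symm.trans hc)]; rfl)
    (fun _ _ χ h a ha => by rw [ok_of hG h ha, and_self])
    (List.all_eq_true.1 s11' l (by simpa using h))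
  obtain rfl := eq_one_of_sc (by norm_num) ((c11 hG _ Y.blk.setup.ord).symm.trans Y.hc)
  rw [← Y.degR, ← Z.degR, Y.inc Z.nodup Z.one_notMem] at h2
  simp only [Bool.not_true, Bool.false_or, Bool.and_eq_true, Bool.or_eq_true, beq_iff_eq] at h2
  obtain ⟨⟨⟨rfl, rfl⟩, rfl⟩, h2⟩ := h2
  obtain ⟨e, c, D, l, ⟨X⟩, h3⟩ := exists_BD (p := 23) hG hp (by norm_num) (by norm_num)
    (by norm_num) (fun y hy c hc => by
      rw [eq_one_of_sc (by norm_num) ((c23 hG y hy).symm.trans hc)]; rfl)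
    (fun _ _ χ h a ha => by
      rw [and_self, ha, Nat.ble_eq_true_of_le (ge21 hG h), ← Y.degR]
      exact Y.elem dg h)
    (List.all_eq_true.1 s23' l' (by simpa using h2))
  obtain rfl := eq_one_of_sc (by norm_num) ((c23 hG _ X.blk.setup.ord).symm.trans X.hc)
  have dθ : charDegree (Z.θ : G → ℂ) = 2024 := Z.natAbs_D.symm
  have h5 : (X.F ++ ((Y.F.filter fun χ : IrrCharacter G =>
      Nat.beq (charDegree (χ : G → ℂ) % 23) 0) ++ [Z.θ])).Nodup := by
    rw [← List.append_assoc]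
    refine List.nodup_append.2 ⟨X.nodup_on Y.nodup, List.nodup_singleton _, fun χ hχ _ h5 h6 => ?_⟩
    obtain rfl := h6.trans (List.mem_singleton.1 h5)
    rcases List.mem_append.1 hχ with h7 | h7
    · exact X.not_dvd h7 (by rw [dθ]; norm_num)
    · exact Y.not_dvd (List.mem_filter.1 h7).1 (by rw [dθ]; norm_num)
  have h6 : irrOne G ∉ (Y.F.filter fun χ : IrrCharacter G =>
      Nat.beq (charDegree (χ : G → ℂ) % 23) 0) ++ [Z.θ] := by
    simpa [Y.one_notMem] using (Z.blk.ne_one_Y Z.hθ).symm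
  obtain ⟨v, hv⟩ := Z.blk.setup.exists_col Z.blk.card_N
  have h7 := X.noCol (r := 5) (by norm_num) (by norm_num) Z.blk.setup.sq Z.blk.setup.ord hv h5 h6
  have h8 := sqs_le h5 (by rw [List.mem_append, not_or]; exact ⟨X.one_notMem, h6⟩) dg_spec
  have h9 : [Z.θ].map (rc dg) = [(2024, 2024)] := by simp [rc, dg, dθ]
  rw [List.map_append, List.map_append, ← on_map, h9, show C (1 : G) = ⊤ from
    eq_top_iff.2 fun g _ => by simp [mem_C], Subgroup.card_top, hG] at h8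
  rw [List.map_append, ← on_map, h9, Z.hc] at h7
  rw [← X.degR, ← Y.degR, X.inc Y.nodup Y.one_notMem, h7] at h3
  simp only [Bool.not_true, Bool.false_or, Bool.or_false, Bool.and_eq_true, Bool.or_eq_true,
    beq_iff_eq, Nat.blt_eq] at h3
  obtain ⟨⟨⟨rfl, rfl⟩, rfl⟩, rfl⟩ := h3.resolve_left (not_lt.2 h8)
  exact ⟨⟨X⟩, ⟨Y⟩, ⟨Z⟩⟩

end M23

end Cfsg.Agent.Inv
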