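import Mathlib
import Cfsg.Agent.Inv.M23A
import Cfsg.Agent.Inv.J3OD
import Cfsg.Agent.Blk.BlockOrth2
import Cfsg.Agent.Blk.Idem

/-!
Simple groups of order 50232960: soundness of the tests.
-/

set_option autoImplicit false

namespace Cfsg.Agent.Inv.J3O

open Finset Cfsg.Agent.Ch Cfsg.Agent.Inv.PB Cfsg.Agent.Inv.Srch Cfsg.Agent.Inv.Sieve

variable {G : Type*} [Group G]

open Classical in
/-- A generalized character vanishing on the `q`-singular elements, cut by a union of blocks. -/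
theorem dvd_of_vanish [Fintype G] {q b : ℕ} (hb : q ^ b ∣ Nat.card G) {M : Ideal AlgInt}
    (hM : IsPModular q M) {W : Set (IrrCharacter G)} (hW : Blk.IsBlockUnion M W)
    (a : IrrCharacter G → ℤ) (ha : ∀ g, q ∣ orderOf g → ∑ χ, (a χ : ℂ) * (χ : G → ℂ) g = 0) :
    ((q ^ b : ℕ) : ℤ) ∣ ∑ χ, if χ ∈ W then a χ * charDegree (χ : G → ℂ) else 0 := by
  have := hM.isMaximal
  have hq := hM.prime
  set θ : G → ℂ := ∑ χ : IrrCharacter G, (a χ : ℂ) • (χ : G → ℂ) with hθ
  have h1 : pRegularPart q θ = θ := by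
    funext g
    rw [Blk.pRegularPart_apply]
    split_ifs with hg
    · rw [← ha g hg, hθ, Finset.sum_apply]
      rfl
    · rfl
  have h2 := Blk.blockPart_pRegularPart hM (B := W) hW.setIdem_mem θ
  rw [h1] at h2
  have h3 : ∀ g, blockPart W θ g = ∑ χ : IrrCharacter G,
      (if χ ∈ W then (a χ : ℂ) else 0) * (χ : G → ℂ) g := fun g => by
    rw [hθ, Blk.blockPart_sum, Finset.sum_apply]
    refine Finset.sum_congr rfl fun χ _ => ?_
    rw [Blk.blockPart_smul, Blk.blockPart_irr]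
    by_cases a2 : χ ∈ W <;> simp [a2]
  obtain ⟨Q, -, hQ⟩ := CT.exists_le_card_pow (⊤ : Subgroup G) hq (by rwa [Subgroup.card_top])
  choose n hn using fun χ : IrrCharacter G => CT.exists_sum_subgroup χ.2.isCharacter Q
  have h4 : ∑ u : Q, blockPart W θ u = blockPart W θ 1 := by
    rw [Finset.sum_eq_single (1 : Q)]
    · rfl
    · intro u _ hu
      rw [h2, Blk.pRegularPart_of_dvd]
      obtain ⟨k, -, hk⟩ := (Nat.dvd_prime_pow hq).1 (hQ ▸ orderOf_dvd_natCard u)
      rw [Subgroup.orderOf_coe, hk]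
      refine dvd_pow_self _ fun h => hu ?_
      rwa [h, pow_zero, orderOf_eq_one_iff] at hk
    · simp
  refine ⟨∑ χ, if χ ∈ W then a χ * n χ else 0, Int.cast_injective (α := ℂ) ?_⟩
  simp only [h3] at h4
  rw [Finset.sum_comm] at h4
  simp only [← Finset.mul_sum, hn, hQ] at h4
  push_cast at h4 ⊢
  rw [Finset.mul_sum]
  refine Eq.trans ?_ (h4.symm.trans ?_)
  · refine Finset.sum_congr rfl fun χ _ => ?_
    split_ifs
    · rw [χ.2.coe_charDegree]
    · simp
  · refine Finset.sum_congr rfl fun χ _ => ?_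
    split_ifs <;> ring

theorem btS_of {ι : Type*} {m d : ℕ} {f : ℕ → Bool} (s : ι → ℤ) (w : ι → Prop)
    [DecidablePred w] : ∀ (L : List ι) (t : ℤ) (b : Bool),
      (∀ i ∈ L, w i → f (s i).natAbs = true) → (b = true ∨ ∃ i ∈ L, w i ∧ (s i).natAbs = d) →
      (m : ℤ) ∣ t + (L.map fun i => if w i then s i else 0).sum →
      btS m f d (L.map s) t b = true
  | [], t, b, _, h1, h2 => by
    have h3 : b = true := by simpa using h1
    have h4 : t.natAbs % m = 0 := Nat.mod_eq_zero_of_dvd (Int.natCast_dvd.1 (by simpa using h2))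
    show (b && Nat.beq (t.natAbs % m) 0) = true
    rw [h3, h4]
    rfl
  | i :: L, t, b, h0, h1, h2 => by
    show (btS m f d (L.map s) t b || (f (s i).natAbs &&
      btS m f d (L.map s) (t + s i) (b || Nat.beq (s i).natAbs d))) = true
    have h3 : ∀ j ∈ L, w j → f (s j).natAbs = true := fun j hj => h0 j (by simp [hj])
    rw [List.map_cons, List.sum_cons] at h2
    by_cases h : w i
    · rw [if_pos h, ← add_assoc] at h2
      rw [h0 i (by simp) h, btS_of s w L (t + s i) _ h3 ?_ h2]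
      · simp
      rcases h1 with h1 | ⟨j, hj, h4, h5⟩
      · simp [h1]
      · rcases List.mem_cons.1 hj with rfl | hj
        · simp [h5]
        · exact .inr ⟨j, hj, h4, h5⟩
    · rw [if_neg h, zero_add] at h2
      rw [btS_of s w L t b h3 (h1.imp_right ?_) h2]
      · rfl
      rintro ⟨j, hj, h4, h5⟩
      rcases List.mem_cons.1 hj with rfl | hj
      · exact absurd h4 h
      · exact ⟨j, hj, h4, h5⟩

theorem qz_map (s v w : IrrCharacter G → ℤ) : ∀ L : List (IrrCharacter G),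
    qz (L.map s) (L.map (rc v)) (L.map (rc w)) =
      (L.map fun χ => (s χ).sign * (v χ * w χ * (50232960 / (s χ).natAbs : ℕ))).sum
  | [] => rfl
  | χ :: L => by
    rw [List.map_cons, List.map_cons, List.map_cons, List.map_cons, List.sum_cons, ← qz_map s v w L]
    rfl

theorem btz_map (k : ℕ) (s v : IrrCharacter G → ℤ) : ∀ L : List (IrrCharacter G),
    btz k (L.map s) (L.map (rc v)) =
      (L.map fun χ => if k * (v χ).natAbs / (s χ).natAbs % 2 = 1 then s χ else 0).sum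
  | [] => rfl
  | χ :: L => by
    rw [List.map_cons, List.map_cons, List.map_cons, List.sum_cons, ← btz_map k s v L]
    show (bif Nat.beq (k * (v χ).natAbs / (s χ).natAbs % 2) 1 then s χ else 0) + _ = _
    congr 1
    by_cases h : k * (v χ).natAbs / (s χ).natAbs % 2 = 1
    · rw [if_pos h, h]; rfl
    · rw [if_neg h, show Nat.beq (k * (v χ).natAbs / (s χ).natAbs % 2) 1 = false by
        rw [← Bool.not_eq_true, Nat.beq_eq]; exact h]
      rfl

section

variable [Fintype G] {p e c : ℕ} {D : ℤ} {l : List ℤ} (B : BD G p e c D l)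

open Classical in
/-- The signed degree. -/
noncomputable def sg (χ : IrrCharacter G) : ℤ := if χ ∈ B.Y then -D else sd B.δ χ

theorem sg_L {χ : IrrCharacter G} (h : χ ∈ B.L) : sg B χ = sd B.δ χ :=
  if_neg (B.blk.disj χ (B.lst.mem_of h).1)

theorem map_sg {θ : IrrCharacter G} (hθ : θ ∈ B.Y) : (θ :: B.L).map (sg B) = -D :: l := by
  rw [List.map_cons, List.map_congr_left fun χ hχ => sg_L B hχ, B.hl, sg, if_pos hθ]

theorem natAbs_sg {θ : IrrCharacter G} (hθ : θ ∈ B.Y) {χ : IrrCharacter G} (h : χ ∈ θ :: B.L) :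
    (sg B χ).natAbs = charDegree (χ : G → ℂ) := by
  rcases List.mem_cons.1 h with rfl | h
  · rw [sg, if_pos hθ, Int.natAbs_neg, B.deg_Y hθ]
  · rw [sg_L B h, sd, natAbs_sign_mul (B.blk.sign χ (B.lst.mem_of h).1)]

theorem drop_F {u : G} (hu : ¬ p ∣ orderOf u) {v : IrrCharacter G → ℤ}
    (hv : ∀ χ : IrrCharacter G, (χ : G → ℂ) u = v χ) :
    (B.F.map (rc v)).drop ((p - 1) / e - 1) = (B.θ :: B.L).map (rc v) := by
  have h1 : 0 < (p - 1) / e := B.blk.card_Y' ▸ card_pos.2 B.blk.Y_nonempty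
  rw [B.map_F hu hv, List.drop_append_of_le_length (by simp), List.drop_replicate,
    show (p - 1) / e - ((p - 1) / e - 1) = 1 by omega, B.natAbs_D]
  rfl

open Classical in
/-- The Brauer-Tuan congruence. -/
theorem bt {q b : ℕ} (hb : q ^ b ∣ Nat.card G) (hno : ∀ g : G, q ∣ orderOf g → ¬ p ∣ orderOf g)
    {M : Ideal AlgInt} (hM : IsPModular q M) {W : Set (IrrCharacter G)}
    (hW : Blk.IsBlockUnion M W) {θ : IrrCharacter G} (hθ : θ ∈ B.Y) :
    ((q ^ b : ℕ) : ℤ) ∣ (if irrOne G ∈ W then 1 else 0) +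
      ((θ :: B.L).map fun χ => if χ ∈ W then sg B χ else 0).sum := by
  have h1 := dvd_of_vanish hb hM hW
    (fun χ => (if χ ∈ B.X then B.δ χ else 0) - if χ = θ then B.ε else 0) fun g hg => by
      have h2 := B.blk.rel g (hno g hg) θ hθ
      simp only [Int.cast_sub, Int.cast_ite, Int.cast_zero, sub_mul, ite_mul, zero_mul,
        sum_sub_distrib, sum_ite_mem, univ_inter, sum_ite_eq', mem_univ, if_true, h2, sub_self]
  have h2 : ∀ χ : IrrCharacter G, (if χ ∈ W then ((if χ ∈ B.X then B.δ χ else 0) -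
      if χ = θ then B.ε else 0) * (charDegree (χ : G → ℂ) : ℤ) else 0) =
      (if χ ∈ B.X then (if χ ∈ W then sd B.δ χ else 0) else 0) +
        if χ = θ then (if θ ∈ W then -D else 0) else 0 := fun χ => by
    by_cases h3 : χ = θ
    · subst h3
      have h4 : χ ∉ B.X := fun h => B.blk.disj χ h hθ
      have h5 := B.hD
      rw [B.blk.deg_eq B.hθ hθ] at h5
      simp [h4, h5]
    · by_cases h4 : χ ∈ B.X <;> simp [h3, h4, sd]
  simp only [h2, sum_add_distrib, sum_ite_mem, univ_inter, sum_ite_eq', mem_univ, if_true,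
    B.lst.sum] at h1
  rw [List.map_cons, List.sum_cons, List.map_congr_left (g := fun χ =>
    if χ ∈ W then sd B.δ χ else 0) fun χ hχ => by rw [sg_L B hχ], sg, if_pos hθ]
  convert h1 using 1
  simp only [sd, B.blk.δ_one, M11.deg_irrOne]
  ring

/-- The pair formula for two involutions. -/
theorem pair (hn : Nat.card G = 50232960) (hp : p ≠ 2) {u w : G} (hu : orderOf u = 2)
    (hw : orderOf w = 2) {a b : IrrCharacter G → ℤ}
    (ha : ∀ χ : IrrCharacter G, (χ : G → ℂ) u = a χ)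
    (hb : ∀ χ : IrrCharacter G, (χ : G → ℂ) w = b χ) :
    ((invs u B.x).card * Nat.card (C u) * ((invs w B.x).card * Nat.card (C w)) : ℤ) =
      c * p * qm ((p - 1) / e) D l (B.F.map (rc a)) (B.F.map (rc b)) := by
  have h0 : ∀ {u : G}, orderOf u = 2 → ¬ p ∣ orderOf u := fun hu h1 =>
    hp ((Nat.prime_dvd_prime_iff_eq B.blk.setup.prime Nat.prime_two).1 (hu ▸ h1))
  have h1 : ∀ {u : G}, orderOf u = 2 → u * u = 1 := fun hu => by
    rw [← pow_two, ← hu, pow_orderOf_eq_one]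
  have h2 := B.blk.pairs_inv hp (h1 hu) (h1 hw) B.hθ
  have h3 : ∀ χ : IrrCharacter G, (Nat.card G : ℂ) * ((χ : G → ℂ) u * (χ : G → ℂ) w /
      (χ : G → ℂ) 1) = ((a χ * b χ * (50232960 / charDegree (χ : G → ℂ) : ℕ) : ℤ) : ℂ) :=
    fun χ => by
      obtain ⟨k, hk⟩ := χ.2.charDegree_dvd_card
      have h4 := χ.2.charDegree_pos
      rw [ha, hb, ← hn, hk, Nat.mul_div_cancel_left _ h4, ← χ.2.coe_charDegree]
      have : (charDegree (χ : G → ℂ) : ℂ) ≠ 0 := Nat.cast_ne_zero.2 h4.ne'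
      push_cast
      field_simp
  rw [mul_comm (Nat.card G : ℂ), mul_assoc _ (Nat.card G : ℂ), mul_sub, mul_sum] at h2
  simp only [mul_left_comm (Nat.card G : ℂ), h3] at h2
  rw [B.lst.sum, B.blk.δ_one, B.hc] at h2
  rw [qm, drop_F B (h0 hu) ha, drop_F B (h0 hw) hb, ← map_sg B B.hθ, qz_map, List.map_cons,
    List.sum_cons, natAbs_sg B B.hθ (by simp), List.map_congr_left (g := fun χ =>
      B.δ χ * (a χ * b χ * (50232960 / charDegree (χ : G → ℂ) : ℕ))) fun χ hχ => by
        rw [natAbs_sg B B.hθ (by simp [hχ]), sg_L B hχ, sd,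
          sign_sign_mul (B.blk.sign χ (B.lst.mem_of hχ).1) χ.2.charDegree_pos],
    sg, if_pos B.hθ, Int.sign_neg, ← B.sign_D]
  have h5 : a (irrOne G) = 1 := by exact_mod_cast (ha _).symm.trans (M11.irrOne_apply u)
  have h6 : b (irrOne G) = 1 := by exact_mod_cast (hb _).symm.trans (M11.irrOne_apply w)
  rw [h5, h6, M11.deg_irrOne] at h2
  apply Int.cast_injective (α := ℂ)
  simp only [Int.cast_mul, Int.cast_add, Int.cast_neg, Int.cast_natCast, Int.cast_list_sum,
    List.map_map, Function.comp_def, Int.cast_one, Int.cast_ofNat, Nat.cast_mul, Nat.div_one,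
    Nat.cast_ofNat] at h2 ⊢
  linear_combination h2

theorem anyE_of [IsSimpleGroup G] (hn : Nat.card G = 50232960) (hp : p ≠ 2) {f : ℕ → Bool} {u : G}
    (hu : orderOf u = 2) (hf : f (Nat.card (C u)) = true) {v : IrrCharacter G → ℤ}
    (hv : ∀ χ : IrrCharacter G, (χ : G → ℂ) u = v χ) {ex : ℕ → ℤ → Bool}
    (hex : ∀ χ ∈ B.F, ex (charDegree (χ : G → ℂ)) (v χ) = true)
    {test : ℕ → List (ℕ × ℤ) → Bool} (ht : test (Nat.card (C u)) (B.F.map (rc v)) = true) :
    anyE p e c f ex test D l = true := by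
  simp only [anyE, List.any_eq_true, Bool.and_eq_true, Nat.blt_eq]
  exact ⟨_, mem_divs (by norm_num) (hn ▸ card_C_dvd u),
    ⟨hf, hn ▸ card_C_lt (by rw [hn]; norm_num) (CT.ne_one_of_orderOf hu (by norm_num))⟩,
    B.anyC hn (by norm_num) (by norm_num) hp hu hv hex ht⟩

end

theorem mix_of [Fintype G] {c : ℕ} {D : ℤ} {l : List ℤ} (B : BD G 5 4 c D l)
    (hn : Nat.card G = 50232960) {u w : G} (hu : orderOf u = 2)
    (hw : orderOf w = 2) {a b : IrrCharacter G → ℤ}
    (ha : ∀ χ : IrrCharacter G, (χ : G → ℂ) u = a χ)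
    (hb : ∀ χ : IrrCharacter G, (χ : G → ℂ) w = b χ) :
    mix D l (B.F.map (rc a)) (B.F.map (rc b)) = true := by
  have h1 := pair B hn (by norm_num) hu hw ha hb
  have h2 := pair B hn (by norm_num) hu hu ha ha
  have h3 := pair B hn (by norm_num) hw hw hb hb
  have h4 : (c * (5 : ℕ) : ℤ) ≠ 0 := by
    have h5 : c * 5 ≠ 0 := B.hc ▸ Nat.card_pos.ne'
    exact_mod_cast h5
  rw [mix, beq_iff_eq]
  refine mul_left_cancel₀ (mul_ne_zero h4 h4) ?_
  rw [show (5 - 1) / 4 = 1 from rfl] at h1 h2 h3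
  rw [mul_mul_mul_comm, mul_mul_mul_comm _ _ (qm 1 D l (B.F.map (rc a)) (B.F.map (rc a))), ← h1,
    ← h2, ← h3]
  ring

/-- The value at an involution inverting `x` is bounded by the fixed space of `x`. -/
theorem abs_le_fix [Finite G] {p : ℕ} {x : G} (h : Setup p x) {s : G} (hs : orderOf s = 2)
    (hN : s ∈ N x) (hC : s ∉ C x) {χ : G → ℂ} (hχ : IsCharacter G χ) {m : ℤ} (hm : χ s = m) :
    ∃ a : ℕ, a = CT.fix χ (P s ⊔ P x) ∧ a ≤ CT.fix χ (P x) ∧ m = 2 * a - CT.fix χ (P x) := by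
  have h1 := (h.fix_sup (R := P s) (Subgroup.zpowers_le.2 hN) (fun r hr hc => by
    classical
    rw [mem_zpowers_iff_mem_range_orderOf, hs] at hr
    obtain ⟨i, hi, rfl⟩ := mem_image.1 hr
    rw [mem_range] at hi
    interval_cases i
    · simp
    · exact absurd (by simpa using hc) hC) hχ).2
  have h2 := CT.fix_prime hχ hm Nat.prime_two hs
  rw [Nat.card_zpowers, hs] at h1
  refine ⟨_, rfl, CT.fix_mono hχ le_sup_right, ?_⟩
  zify at h1
  push_cast at h2
  linarith

/-- The fixed space of a self-centralizing element. -/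
theorem fix_eq [Fintype G] {p : ℕ} {x : G} (h : Setup p x) (hC : Nat.card (C x) = p)
    (χ : IrrCharacter G) :
    (p * CT.fix (χ : G → ℂ) (P x) : ℤ) = charDegree (χ : G → ℂ) + tau p x χ := by
  classical
  have h1 := h.sum_singC χ
  have h2 := CT.sum_eq_fix χ.isCharacter (P x)
  have h3 : cc x = 1 := eq_one_of_sc h.prime (hC.symm.trans h.card_C)
  have h4 : singC p x = (univ.filter (· ∈ P x)).erase 1 := by
    ext g
    rw [mem_singC, mem_erase, mem_filter, h.C_eq_P hC]
    refine ⟨fun ⟨h5, h6⟩ => ⟨fun h7 => ?_, mem_univ _, h5⟩,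
      fun ⟨h5, _, h6⟩ => ⟨h6, (h.orderOf_of_mem h6 h5).symm.dvd⟩⟩
    rw [h7, orderOf_one, Nat.dvd_one] at h6
    exact h.prime.ne_one h6
  rw [← sum_subtype (univ.filter (· ∈ P x)) (p := (· ∈ P x)) (by simp) (χ : G → ℂ),
    ← add_sum_erase _ _ (show (1 : G) ∈ univ.filter (· ∈ P x) by simp), ← h4, h1, h3, h.card_P,
    ← χ.2.coe_charDegree] at h2
  exact_mod_cast (by simpa using h2.symm :
    (p * CT.fix (χ : G → ℂ) (P x) : ℂ) = charDegree (χ : G → ℂ) + tau p x χ)

end Cfsg.Agent.Inv.J3O
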