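import Mathlib
import Cfsg.Agent.Inv.J3OL
import Cfsg.Agent.Inv.J3OS

/-!
Simple groups of order 50232960: the elements of order 17 and 19 are self-centralizing.
-/

set_option autoImplicit false

namespace Cfsg.Agent.Inv.J3O

open Finset Cfsg.Agent.Ch Cfsg.Agent.Inv.PB Cfsg.Agent.Inv.Srch Cfsg.Agent.Inv.Sieve

variable {G : Type*} [Group G]

theorem hno_of [Finite G] {p q : ℕ} {x : G} (h : Setup p x) (hc : ¬ q ∣ Nat.card (C x)) (g : G)
    (h1 : q ∣ orderOf g) : ¬ p ∣ orderOf g := fun h2 => hc (by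
  rw [← h.card_C_eq (orderOf_pow_orderOf_div (orderOf_pos g).ne' h2)]
  exact h1.trans ((orderOf_dvd_card_C g).trans (Subgroup.card_dvd_of_le (C_le_C_pow g _))))

theorem of_invs [Fintype G] {p : ℕ} {x u s : G} (h : Setup p x) (hp : p ≠ 2) (hu : orderOf u = 2)
    (hs : s ∈ invs u x) : orderOf s = 2 ∧ s ∈ N x ∧ s ∉ C x ∧
      ∀ χ : IrrCharacter G, (χ : G → ℂ) s = (χ : G → ℂ) u := by
  obtain ⟨h1, h2⟩ := mem_invs.1 hs
  refine ⟨(CT.orderOf_eq_of_isConj h1).symm.trans hu, (Blk.One.mem_normalizer_zpowers_iff x s).2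
    (h2 ▸ inv_mem (Subgroup.mem_zpowers x)), fun h3 => ?_, fun χ => ?_⟩
  · rw [mem_C.1 h3, mul_inv_cancel_right] at h2
    have h8 : orderOf x ∣ 2 := orderOf_dvd_of_pow_eq_one (by
      rw [pow_two]; exact mul_eq_one_iff_eq_inv.2 h2)
    rw [h.ord] at h8
    exact hp ((Nat.prime_dvd_prime_iff_eq h.prime Nat.prime_two).1 h8)
  · obtain ⟨g, rfl⟩ := isConj_iff.1 h1
    exact χ.isClassFunction _ _

theorem orbit_le [Finite G] {p c : ℕ} {y u : G} (hs : Setup p y) (hcy : Nat.card (C y) = c * p)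
    (hu : u ≠ 1) (hpu : ¬ p ∣ orderOf u) (huy : u ∈ C y) :
    Nat.card (N y) ≤ Nat.card (N y ⊓ C u : Subgroup G) * (c - 1) := by
  classical
  have := Fintype.ofFinite G
  let s : Finset G := univ.filter (· ∈ N y)
  have h5 : s.card ≤ Nat.card (N y ⊓ C u : Subgroup G) * (s.image fun n => n * u * n⁻¹).card := by
    refine card_le_mul_card_image s _ fun a ha => ?_
    obtain ⟨n, hn, rfl⟩ := mem_image.1 ha
    rw [Nat.subtype_card (univ.filter (· ∈ N y ⊓ C u)) (by simp)]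
    refine card_le_card_of_injOn (fun m => n⁻¹ * m) (fun m hm => ?_) fun a _ b _ hab => by
      simpa using hab
    simp only [s, coe_filter, mem_filter, Set.mem_ofPred_eq, mem_univ, true_and,
      Subgroup.mem_inf, mem_C] at hm hn ⊢
    refine ⟨mul_mem (inv_mem hn) hm.1, ?_⟩
    calc n⁻¹ * m * u = n⁻¹ * (m * u * m⁻¹) * m := by group
      _ = u * (n⁻¹ * m) := by rw [hm.2]; group
  have h6 : (s.image fun n => n * u * n⁻¹).card ≤ c - 1 := by
    have h7 : cc y = c := Nat.eq_of_mul_eq_mul_right hs.prime.pos (hs.card_C.symm.trans hcy)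
    have := Fintype.ofFinite (V y).ker
    rw [← h7, ← hs.card_ker, Nat.card_eq_fintype_card, ← card_univ,
      ← card_erase_of_mem (mem_univ (1 : (V y).ker))]
    refine le_trans (card_le_card fun a ha => ?_)
      (card_image_le (f := fun k : (V y).ker => ((k : C y) : G)))
    obtain ⟨n, hn, rfl⟩ := mem_image.1 ha
    refine mem_image.2 ⟨⟨⟨_, conj_mem_C ⟨n, (mem_filter.1 hn).2⟩ huy⟩,
      (hs.V_eq_one_iff _).2 (by rwa [← Blk.orderOf_conj_eq u n] at hpu)⟩,
      mem_erase.2 ⟨fun h9 => ?_, mem_univ _⟩, rfl⟩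
    have h10 : n * u * n⁻¹ = 1 := congrArg (fun k : (V y).ker => ((k : C y) : G)) h9
    exact hu (by simpa using h10)
  rw [Nat.subtype_card s (by simp [s])]
  exact h5.trans (Nat.mul_le_mul_left _ h6)

theorem pow_mem_C [Finite G] {x a : G} {e : ℕ} (he : Nat.card (N x) = e * Nat.card (C x))
    (ha : a ∈ N x) : a ^ e ∈ C x := by
  have h2 : (C x).relIndex (N x) = e := by
    have h3 := Subgroup.card_mul_index ((C x).subgroupOf (N x))
    rw [Nat.card_congr (Subgroup.subgroupOfEquivOfLe (C_le_N x)).toEquiv, he, mul_comm] at h3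
    exact Nat.eq_of_mul_eq_mul_right Nat.card_pos h3
  have : ((C x).subgroupOf (N x)).Normal := ⟨fun c hc n => conj_mem_C n hc⟩
  have := Subgroup.pow_index_mem ((C x).subgroupOf (N x)) ⟨a, ha⟩
  rwa [← Subgroup.relIndex, h2] at this

theorem nine_dvd [Finite G] {H : Subgroup G} (h9 : 9 ∣ Nat.card H) {a : G} (ha : a ∈ H)
    (h3 : orderOf a = 3) : 9 ∣ Nat.card (H ⊓ C a : Subgroup G) := by
  have := Fact.mk Nat.prime_three
  obtain ⟨K, hK, h1⟩ := Sylow.exists_subgroup_card_pow_prime_le 3 (n := 1) (m := 2) (G := H) h9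
    (Subgroup.zpowers ⟨a, ha⟩) (by rw [Nat.card_zpowers, ← Subgroup.orderOf_coe, h3]; rfl)
    (by norm_num)
  have h2 := (IsPGroup.isMulCommutative_of_card_eq_prime_sq hK).is_comm.comm
  have h4 : K.map H.subtype ≤ H ⊓ C a := by
    rintro _ ⟨k, hk, rfl⟩
    exact ⟨k.2, mem_C.2 (congrArg (fun t : K => ((t : H) : G))
      (h2 ⟨k, hk⟩ ⟨_, h1 (Subgroup.mem_zpowers _)⟩))⟩
  have h5 := Subgroup.card_dvd_of_le h4
  rwa [Subgroup.card_map_of_injective H.subtype_injective, hK] at h5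

theorem res_of {a e k : ℕ} {s : ℤ} (hs : s = 1 ∨ s = -1) (hk : k * e + 1 = 17)
    (h : (a : ℤ) ≡ s * e [ZMOD (17 : ℕ)]) : [1, 2, 4, 8, 9, 13, 15, 16].elem (a % 17) = true := by
  have h1 : e ∈ Nat.divisors 16 := Nat.mem_divisors.2 ⟨Dvd.intro_left k (by omega), by norm_num⟩
  have h2 := h.dvd
  simp only [List.elem_iff, List.mem_cons, List.not_mem_nil, or_false]
  rw [show Nat.divisors 16 = {1, 2, 4, 8, 16} by decide] at h1
  simp only [mem_insert, mem_singleton] at h1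
  rcases hs with rfl | rfl <;> rcases h1 with rfl | rfl | rfl | rfl | rfl <;> omega

variable [Fintype G] [IsSimpleGroup G] (hG : Nat.card G = 50232960)
include hG

omit [IsSimpleGroup G] [Fintype G] in
theorem setup {p : ℕ} {x : G} (hx : orderOf x = p) (hp : p.Prime := by norm_num)
    (h : ¬ p ^ 2 ∣ 50232960 := by norm_num) : Setup p x := ⟨hp, hx, hG ▸ h⟩

omit [IsSimpleGroup G] in
theorem exists_elt (p : ℕ) (hp : p.Prime := by norm_num) (h : p ∣ 50232960 := by norm_num) :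
    ∃ x : G, orderOf x = p :=
  exists_prime_orderOf_dvd_card' (G := G) p (hp := ⟨hp⟩) (hG ▸ h)

theorem c19 (x : G) (hx : orderOf x = 19) : Nat.card (C x) = 19 := by
  classical
  by_contra h
  obtain ⟨e, c, D, l, ⟨A⟩, h1⟩ := exists_BD (p := 19) hG (by norm_num) (by norm_num) (by norm_num)
    (by norm_num) (fun y hy c hc => beq_false_of_ne (setup hG hx) h hy hc)
    (ok := fun _ _ _ => true) (okY := fun _ _ _ => true) (fun _ _ _ _ _ _ => ⟨rfl, rfl⟩) s19
  simp only [Bool.and_eq_true, Bool.or_eq_true, beq_iff_eq, Bool.not_eq_true'] at h1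
  rcases h1 with ⟨⟨⟨rfl, rfl⟩, rfl⟩, rfl⟩ | ⟨⟨rfl, rfl⟩, h1⟩
  · obtain ⟨u, hu, h2⟩ := A.exists_invol (by norm_num)
    obtain ⟨v, hv⟩ := CT.exists_col_invol (u := u) (by rw [← pow_two, ← hu, pow_orderOf_eq_one])
    refine Bool.false_ne_true (s19b.symm.trans (anyE_of A hG (by norm_num) hu (Nat.beq_eq ▸ h2) hv
      (fun _ _ => rfl) ?_))
    simp only [Bool.or_eq_true, beq_iff_eq, Bool.not_eq_true', ← Bool.not_eq_true, List.elem_iff]
    refine or_iff_not_imp_left.2 fun h3 h4 => ?_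
    have h5 := pair A hG (by norm_num) hu hu hv hv
    obtain ⟨s, hs⟩ : (invs u A.x).Nonempty := card_ne_zero.1 fun h6 => h3 (by simpa [h6] using h5)
    obtain ⟨h6, h7, h8, h9⟩ := of_invs A.blk.setup (by norm_num) hu hs
    obtain ⟨χ, hχ, h10⟩ := List.mem_map.1 h4
    obtain ⟨h11, h12⟩ := Prod.ext_iff.1 h10
    change charDegree (χ : G → ℂ) = 153 at h11
    change v χ = -151 at h12
    have h13 : χ ∈ A.X := (A.mem_F.1 hχ).1.resolve_right fun h13 => by
      simpa [h11] using A.deg_Y h13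
    obtain ⟨a, -, -, h14⟩ := abs_le_fix A.blk.setup h6 h7 h8 χ.isCharacter ((h9 χ).trans (hv χ))
    have h15 := CT.fix_prime χ.isCharacter (A.blk.sing χ h13 A.x A.blk.setup.ord.symm.dvd)
      (by norm_num) A.blk.setup.ord
    have h16 := A.blk.sign χ h13
    rw [h11] at h15
    push_cast at h15
    change v χ = 2 * a - CT.fix _ (Subgroup.zpowers A.x) at h14
    omega
  · obtain ⟨y, hy⟩ := exists_elt hG 17
    obtain ⟨e, he⟩ := Subgroup.card_dvd_of_le (C_le_N y)
    obtain ⟨X, Y, δ, ε, B⟩ := (setup hG hy).exists_blk (he.trans (mul_comm _ _))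
    obtain ⟨M, hM, hB⟩ := B.blk
    have := hM.isMaximal
    have h2 := bt A (q := 17) (b := 1) (by rw [hG]; norm_num)
      (hno_of A.blk.setup (by rw [A.hc]; norm_num)) hM
      Blk.isPBlock_principalBlock.isBlockUnion A.hθ
    rw [if_pos Blk.irrOne_mem_principalBlock] at h2
    rw [← map_sg A A.hθ, btS_of (sg A) (· ∈ principalBlock M G) _ _ _ (fun χ hχ h3 => ?_)
      (.inl rfl) (by rw [pow_one] at h2; convert h2)] at h1
    · exact Bool.false_ne_true h1.symm
    rw [natAbs_sg A A.hθ hχ]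
    rcases (hB χ).1 h3 with h4 | h4
    · exact res_of (B.sign χ h4) (k := 16) (e := 1) rfl (by simpa using B.deg χ h4)
    · exact res_of B.sign_Y B.card_Y (B.deg_Y χ h4)

theorem N19 (x : G) (hx : orderOf x = 19) : Nat.card (N x) = 9 * Nat.card (C x) := by
  obtain ⟨e, c, hc, hN, h⟩ := (setup hG hx).loc (by rw [hG]; norm_num) hG
    (test := fun e c => c != 1 || e == 9) (by decide +kernel)
  obtain rfl := eq_one_of_sc (by norm_num) ((c19 hG x hx).symm.trans hc)
  obtain rfl : e = 9 := by simpa using h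
  exact hN

theorem d19 (χ : IrrCharacter G) : okd 19 9 (charDegree (χ : G → ℂ)) = true := by
  obtain ⟨x, hx⟩ := exists_elt hG 19
  exact (setup hG hx).okd (c19 hG x hx) (N19 hG x hx) χ

theorem n19 {q : ℕ} {y : G} (hy : orderOf y = q) {c : ℕ} (hc : c ∣ Nat.card (C y))
    (h1 : q ≠ 1 := by norm_num) (hq : q ≠ 19 := by norm_num) : Nat.beq (c % 19) 0 = false :=
  beq_false_of_sc (by norm_num) (by rw [hG]; norm_num) (c19 hG) hy h1 hq hc

theorem c17 (x : G) (hx : orderOf x = 17) : Nat.card (C x) = 17 := by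
  classical
  by_contra h
  obtain ⟨e, c, D, l, ⟨A⟩, h1⟩ := exists_BD (p := 17) hG (by norm_num) (by norm_num) (by norm_num)
    (by norm_num) (fun y hy c hc => by
      rw [beq_false_of_ne (setup hG hx) h hy hc, n19 hG hy (Dvd.intro _ hc.symm), Bool.or_self])
    (fun _ _ χ _ a ha => by rw [ha, d19 hG, and_self]) s17
  simp only [Bool.and_eq_true, beq_iff_eq] at h1
  obtain ⟨⟨rfl, rfl⟩, h1⟩ := h1
  rw [← A.degR, List.count_eq_countP, List.countP_map, List.countP_eq_length_filter,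
    List.length_eq_one_iff] at h1
  obtain ⟨χ, h1⟩ := h1
  have h2 : ∀ ψ, ψ = χ ↔ ψ ∈ A.F ∧ charDegree (ψ : G → ℂ) = 1920 := fun ψ => by
    rw [← List.mem_singleton, ← h1, List.mem_filter]
    refine and_congr_right fun _ => ?_
    simp only [Function.comp, rc, dg, beq_iff_eq, Prod.ext_iff]
    exact ⟨fun h => h.1, fun h => ⟨h, by rw [h]; rfl⟩⟩
  obtain ⟨h3, h4⟩ := (h2 χ).1 rfl
  obtain ⟨h5, h6⟩ := A.mem_F.1 h3
  choose v hv using A.blk.int_of_unique h5 fun ψ h7 h8 => (h2 ψ).2 ⟨A.mem_F.2 ⟨h7, fun h9 => by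
    simp [h9, h4] at h8⟩, h8.trans h4⟩
  have hs := A.blk.setup
  have h7 : ∀ g, 17 ∣ orderOf g → (χ : G → ℂ) g = (-1 : ℤ) := fun g hg => by
    rcases h5 with h5 | h5
    · have h8 := (A.blk.deg χ h5).dvd
      have h9 := A.blk.sign χ h5
      rw [A.blk.sing χ h5 g hg, show A.δ χ = -1 by omega]
    · have h8 := (A.blk.deg_Y χ h5).dvd
      have h9 := A.blk.sign_Y
      have h10 := A.blk.sum_Y hg
      obtain ⟨θ, h11⟩ := card_eq_one.1 A.blk.card_Y'
      rw [h11, mem_singleton] at h5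
      rw [h11, sum_singleton, ← h5, show A.ε = 1 by omega] at h10
      exact_mod_cast h10
  have hN : Nat.card (N A.x) = 2448 := by rw [A.blk.card_N, A.hc]
  have key : ∀ a ∈ C A.x, orderOf a = 3 → C a ≤ N A.x := fun a ha h3 => by
    have ha1 := CT.ne_one_of_orderOf h3 (by norm_num)
    have hp : ¬ 17 ∣ orderOf a := by rw [h3]; norm_num
    have hx : A.x ∈ C a := mem_C.2 (mem_C.1 ha).symm
    obtain ⟨j, hj, h8⟩ := hs.exists_card_eq hx
    have h9 := orbit_le hs A.hc ha1 hp ha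
    have h10 : 153 ∣ Nat.card (N A.x ⊓ C a : Subgroup G) :=
      Nat.Coprime.mul_dvd_of_dvd_of_dvd (m := 9) (n := 17) (by norm_num)
        ((nine_dvd (by rw [A.hc]; norm_num) ha h3).trans
          (Subgroup.card_dvd_of_le (inf_le_inf_right _ (C_le_N _))))
        (hs.ord.symm.dvd.trans (Subgroup.orderOf_dvd_natCard _ ⟨C_le_N _ (mem_C_self _), hx⟩))
    have h11 := List.all_eq_true.1 (List.all_eq_true.1 s17b _
      (mem_divs (by norm_num) (hG ▸ card_C_dvd a))) _
      (mem_divs (by norm_num) (hN ▸ Subgroup.card_dvd_of_le (inf_le_left : N A.x ⊓ C a ≤ _)))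
    have h12 : 0 < Nat.card (N A.x ⊓ C a : Subgroup G) := Nat.card_pos
    have h13 := CT.col_le {χ} a (fun _ => v a) fun ψ hψ => by rw [mem_singleton.1 hψ, hv]
    rw [sum_singleton, pow_two] at h13
    have h14 := CT.modEq_mul χ.isCharacter hs.prime (CT.pow_prime_eq_one hs.ord)
      (mem_C.1 ha).symm (h7 _ (by rw [hs.orderOf_mul ha hp]; exact dvd_mul_right _ _)) (hv a)
    have h15 := (CT.modEq_of_pow χ.isCharacter Nat.prime_three a (hv a) (b := dg χ)
      (by rw [← h3, pow_orderOf_eq_one, dg_spec])).dvd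
    have h16 := CT.abs_lt_deg (by rw [hG]; norm_num) h6 ha1 (hv a)
    have h17 := CT.deg_dvd χ (hv a)
    rw [dg, h4] at h15
    rw [h4] at h16 h17
    rw [index_C_eq hG rfl] at h17
    rw [n19 hG h3 dvd_rfl] at h11
    simp only [Bool.or_eq_true, Bool.not_eq_true', ← Bool.not_eq_true, Bool.and_eq_true, Nat.beq_eq,
      Nat.ble_eq, Nat.blt_eq, List.all_eq_true] at h11
    rcases h11 with (h11 | h11) | h11
    · exact absurd ⟨⟨⟨⟨Nat.mod_eq_zero_of_dvd h10, by omega⟩, by rw [h8, Nat.mul_mod_left]⟩,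
        by rw [h8, Nat.mul_div_cancel _ h12, hj]⟩, by simp⟩ h11
    · exact (Subgroup.eq_of_le_of_card_ge inf_le_right h11.le).ge.trans inf_le_left
    · refine absurd ⟨⟨⟨⟨by omega, by omega⟩, by rw [abs_lt] at h16; omega⟩, ?_⟩, ?_⟩
        (h11 _ (mem_sym_rootUp h13))
      · rw [← Int.natAbs_mul_self] at h13
        exact_mod_cast h13
      · refine Nat.mod_eq_zero_of_dvd ?_
        have h18 := Int.natCast_dvd.1 h17
        rwa [Int.natAbs_mul, Int.natAbs_natCast] at h18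
  have := Fact.mk Nat.prime_three
  obtain ⟨a, ha, h3⟩ := exists_mem_orderOf (H := C A.x) Nat.prime_three (by rw [A.hc]; norm_num)
  obtain ⟨R, hR⟩ := (IsPGroup.of_card (p := 3) (n := 1) (G := P a)
    (by rw [Nat.card_zpowers, h3, pow_one])).exists_le_sylow
  obtain ⟨b, -, hb, h8⟩ := exists_central_of_isPGroup R.isPGroup'
    (R.ne_bot_of_dvd_card (by rw [hG]; norm_num))
  have h9 := pow_mem_C A.blk.card_N
    (key a ha h3 (mem_C.2 (h8 a (hR (Subgroup.mem_zpowers a))).symm))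
  rw [← pow_mod_orderOf, hb, pow_one] at h9
  have h10 := (R.pow_dvd_card_of_pow_dvd_card (n := 3) (by rw [hG]; norm_num)).trans
    (Subgroup.card_dvd_of_le (le_trans (fun y hy => mem_C.2 (h8 y hy)) (key b h9 hb)))
  rw [hN] at h10
  norm_num at h10

theorem N17 (x : G) (hx : orderOf x = 17) : Nat.card (N x) = 8 * Nat.card (C x) := by
  obtain ⟨e, c, hc, hN, h⟩ := (setup hG hx).loc (by rw [hG]; norm_num) hG
    (test := fun e c => c != 1 || e == 8) (by decide +kernel)
  obtain rfl := eq_one_of_sc (by norm_num) ((c17 hG x hx).symm.trans hc)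
  obtain rfl : e = 8 := by simpa using h
  exact hN

theorem n17 {q : ℕ} {y : G} (hy : orderOf y = q) {c : ℕ} (hc : c ∣ Nat.card (C y))
    (h1 : q ≠ 1 := by norm_num) (hq : q ≠ 17 := by norm_num) : Nat.beq (c % 17) 0 = false :=
  beq_false_of_sc (by norm_num) (by rw [hG]; norm_num) (c17 hG) hy h1 hq hc

theorem ok_of {χ : IrrCharacter G} (h : χ ≠ irrOne G) {a : ℤ}
    (ha : a.natAbs = charDegree (χ : G → ℂ)) : ok a = true := by
  obtain ⟨x, hx⟩ := exists_elt hG 17
  rw [ok, ha, d19 hG, (setup hG hx).okd (c17 hG x hx) (N17 hG x hx),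
    Nat.ble_eq_true_of_le (deg_ge (p := 19) hG (by norm_num) (by norm_num) (by norm_num)
      (by norm_num) (by norm_num) (by norm_num) h)]
  rfl

end Cfsg.Agent.Inv.J3O
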