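import Mathlib
import Cfsg.Agent.Inv.J3OA

/-!
Simple groups of order 50232960: the involution that inverts an element of order 17.
-/

set_option autoImplicit false

namespace Cfsg.Agent.Inv.J3O

open Finset Cfsg.Agent.Ch Cfsg.Agent.Inv.PB Cfsg.Agent.Inv.Srch Cfsg.Agent.Inv.Sieve
open scoped ComplexConjugate

variable {G : Type*} [Group G]

/-- The eigenvalue `-1` of a real element of order `8` has even multiplicity. -/
theorem det8 [Finite G] (hG : commutator G = ⊤) {χ : G → ℂ} (h : IsCharacter G χ) {f : G}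
    (hf : orderOf f = 8) (hr : ∀ k : ℕ, conj (χ (f ^ k)) = χ (f ^ k)) :
    Even (CT.fix χ (P (f ^ 2)) + CT.fix χ (P f)) := by
  classical
  have := Fintype.ofFinite G
  obtain ⟨μ, h1, h2, h3⟩ := CT.exists_roots_prod hG h f
  obtain ⟨z, hz⟩ : ∃ z : ℂ, IsPrimitiveRoot z 8 := ⟨_, Complex.isPrimitiveRoot_exp 8 (by norm_num)⟩
  have h4 : z ^ 4 = -1 := (hz.pow (by norm_num) (show 8 = 4 * 2 from rfl)).eq_neg_one_of_two_right
  choose j hj hj' using fun i => hz.eq_pow_of_pow_eq_one (hf ▸ h1 i)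
  obtain ⟨c, hc⟩ : ∃ c : ℕ → ℕ, ∀ r, c r = (univ.filter fun i => j i = r).card := ⟨_, fun _ => rfl⟩
  have hm : ∀ i ∈ univ, j i ∈ range 8 := fun i _ => mem_range.2 (hj i)
  have E : ∀ k, χ (f ^ k) = ∑ r ∈ range 8, (c r : ℂ) * ((-1) ^ (r * k / 4) * z ^ (r * k % 4)) :=
    fun k => by
      rw [h2, ← sum_fiberwise_of_maps_to hm]
      refine sum_congr rfl fun r _ => ?_
      rw [sum_congr rfl (g := fun _ => (-1) ^ (r * k / 4) * z ^ (r * k % 4)), sum_const,
        nsmul_eq_mul, hc]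
      intro i hi
      rw [← hj', (mem_filter.1 hi).2, ← pow_mul, ← h4, ← pow_mul, ← pow_add, Nat.div_add_mod]
  have hD : 8 ∣ ∑ r ∈ range 8, r * c r := by
    rw [← hz.pow_eq_one_iff_dvd, ← h3, ← prod_fiberwise_of_maps_to hm, ← prod_pow_eq_pow_sum]
    refine prod_congr rfl fun r _ => ?_
    rw [prod_congr rfl (g := fun _ => z ^ r), prod_const, hc, pow_mul]
    intro i hi
    rw [← hj', (mem_filter.1 hi).2]
  have hR : ∀ a b : ℕ, a + b = 8 → χ (f ^ a) = χ (f ^ b) := fun a b hab => by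
    rw [eq_inv_of_mul_eq_one_left (show f ^ a * f ^ b = 1 by
      rw [← pow_add, hab, ← hf, pow_orderOf_eq_one]), h.apply_inv, hr]
  have S8 := CT.sum_eq_fix h (P f)
  have S4 := CT.sum_eq_fix h (P (f ^ 2))
  have hf2 : orderOf (f ^ 2) = 4 := by rw [orderOf_pow_of_dvd (by norm_num) (by rw [hf]; norm_num), hf]
  rw [CT.sum_zpowers, Nat.card_zpowers, hf] at S8
  rw [CT.sum_zpowers, Nat.card_zpowers, hf2] at S4
  have r1 := hR 7 1 rfl
  have r2 := hR 6 2 rfl
  have r3 := hR 5 3 rfl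
  simp only [sum_range_succ, sum_range_zero, ← pow_mul, E] at S8 S4 r1 r2 r3 hD
  norm_num at S8 S4 r1 r2 r3
  have a1 : (c 2 : ℂ) = c 6 := by
    linear_combination (-z ^ 2 / 4) * (r3 - r1) + ((c 2 : ℂ) - c 6) * h4
  have a2 : (c 1 + c 5 : ℂ) = c 3 + c 7 := by
    linear_combination (z ^ 2 / 2) * r2 + ((c 1 : ℂ) - c 3 + c 5 - c 7) * h4
  have a3 : (c 1 + c 3 : ℂ) = c 5 + c 7 := by
    linear_combination ((z + z ^ 3) / 4) * (r1 + r3) +
      ((c 1 : ℂ) + c 3 - c 5 - c 7) * (z ^ 2 / 2 + 1) * h4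
  have a4 : (c 0 : ℂ) = CT.fix χ (P f) := by linear_combination S8 / 8
  have a5 : (c 0 + c 4 : ℂ) = CT.fix χ (P (f ^ 2)) := by linear_combination S4 / 4
  norm_cast at a1 a2 a3 a4 a5
  rw [Nat.even_iff]
  omega

variable [Fintype G] [IsSimpleGroup G] (hG : Nat.card G = 50232960)
include hG

theorem exists_t : ∃ t : G, orderOf t = 2 ∧ ∀ χ : IrrCharacter G, ∀ m : ℤ, (χ : G → ℂ) t = m →
    exT (charDegree (χ : G → ℂ)) m = true := by
  obtain ⟨x, hx⟩ := exists_elt hG 17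
  have hs := setup hG hx
  have hC := c17 hG x hx
  obtain ⟨X, Y, δ, ε, B⟩ := hs.exists_blk (N17 hG x hx)
  obtain ⟨f, hfN, hf⟩ := hs.exists_orderOf_eq (N17 hG x hx)
  have ht : orderOf (f ^ 4) = 2 := by
    rw [orderOf_pow_of_dvd (by norm_num) (by rw [hf]; norm_num), hf]
  have hf2 : orderOf (f ^ 2) = 4 := by
    rw [orderOf_pow_of_dvd (by norm_num) (by rw [hf]; norm_num), hf]
  refine ⟨_, ht, fun χ m hm => ?_⟩
  obtain ⟨a, ha, h1, h2⟩ := abs_le_fix hs ht (pow_mem hfN 4) (fun h => by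
    have := Subgroup.orderOf_dvd_natCard _ h
    rw [ht, hC] at this
    norm_num at this) χ.isCharacter hm
  have h3 := fix_eq hs hC χ
  have hε := B.sign_Y
  have h4 : tau 17 x χ ≤ 16 := by
    by_cases hX : χ ∈ X
    · have := B.sign χ hX
      rw [B.tau_X hX]
      push_cast
      omega
    by_cases hY : χ ∈ Y
    · rw [B.tau_Y hY]
      push_cast
      omega
    · simp [B.tau_other hX hY]
  push_cast at h3
  simp only [exT, Bool.and_eq_true, Nat.ble_eq, Bool.not_eq_true', ← Bool.not_eq_true, Nat.beq_eq,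
    beq_iff_eq]
  refine ⟨by omega, fun ⟨h5, h6⟩ => ?_⟩
  have h7 : ∀ ψ : IrrCharacter G, charDegree (ψ : G → ℂ) = 76 → ψ ∈ Y := fun ψ hψ =>
    (B.mem_of_not_dvd hC (by rw [hψ]; norm_num)).resolve_left fun h => by
      have h8 := (B.deg ψ h).dvd
      have h9 := B.sign ψ h
      omega
  have h8 := (B.deg_Y χ (h7 χ h5)).dvd
  rw [B.tau_Y (h7 χ h5)] at h3
  have h9 := det8 (CT.commutator_eq_top (by rw [hG]; norm_num)) χ.isCharacter hf fun k =>
    B.agree _ (fun h => by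
      have := h.trans (orderOf_pow_dvd k)
      rw [hf] at this
      norm_num at this) _ (h7 _ ((CT.charDegree_bar χ).trans h5)) _ (h7 χ h5)
  have h10 : ∀ g ∈ N x, ∀ k, orderOf g = k → k.Coprime 17 → f ^ 4 ∈ P g →
      k * CT.fix (χ : G → ℂ) (P g) = 72 := fun g hg k hk hk' h => by
    have h11 := (hs.fix_sup (R := P g) (Subgroup.zpowers_le.2 hg)
      (Setup.eq_one_of_coprime (by rwa [Nat.card_zpowers, hk, hC])) χ.isCharacter).2
    have h12 := CT.fix_mono χ.isCharacter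
      (sup_le_sup_right (Subgroup.zpowers_le.2 h) (P x) : P (f ^ 4) ⊔ P x ≤ P g ⊔ P x)
    have h13 : CT.fix (χ : G → ℂ) (P g ⊔ P x) ≤ a := ha ▸ h12
    rw [Nat.card_zpowers, hk, show CT.fix (χ : G → ℂ) (P g ⊔ P x) = 0 by omega] at h11
    omega
  have h11 := h10 f hfN 8 hf (by norm_num) (pow_mem (Subgroup.mem_zpowers f) 4)
  have h12 := h10 _ (pow_mem hfN 2) 4 hf2 (by norm_num)
    (by rw [show f ^ 4 = (f ^ 2) ^ 2 by rw [← pow_mul]]; exact pow_mem (Subgroup.mem_zpowers _) 2)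
  rw [Nat.even_iff] at h9
  omega

end Cfsg.Agent.Inv.J3O
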