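import Mathlib
import Cfsg.Agent.Inv.J3OE
import Cfsg.Agent.Inv.J3OT
import Cfsg.Agent.Inv.J3OU
import Cfsg.Agent.Inv.J3OV

/-!
Simple groups of order 50232960: the principal block for the prime 5.
-/

set_option autoImplicit false

namespace Cfsg.Agent.Inv.J3O

open Finset Cfsg.Agent.Ch Cfsg.Agent.Inv.PB Cfsg.Agent.Inv.Srch Cfsg.Agent.Inv.Sieve

variable {G : Type*} [Group G]

theorem union_unit {M : Ideal AlgInt} [M.IsMaximal] (g : G) :
    Blk.IsBlockUnion M {χ : IrrCharacter G | ¬ MemLocalIdeal M (centralChar (χ : G → ℂ) g)} :=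
  fun χ hχ ψ h h1 => hχ (by simpa using (h g).add h1)

theorem cc_int [Finite G] (χ : IrrCharacter G) {g : G} {v j : ℤ} (hv : (χ : G → ℂ) g = v)
    (h : (C g).index * v = charDegree (χ : G → ℂ) * j) : centralChar (χ : G → ℂ) g = j := by
  rw [centralChar, hv, div_eq_iff χ.2.apply_one_ne_zero, ← χ.2.coe_charDegree, mul_comm (j : ℂ)]
  exact_mod_cast h

theorem invs_ne_ten [Fintype G] {x u : G} (h : Setup 5 x) (hC : Nat.card (C x) = 3 * 5)
    (hu : orderOf u = 2) : (invs u x).card ≠ 10 := fun h1 => by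
  classical
  obtain ⟨a, ha, h3⟩ := exists_mem_orderOf (H := C x) Nat.prime_three (by rw [hC]; norm_num)
  have h2 := card_modEq_filter Nat.prime_three h3 (invs u x) fun s hs => by
    obtain ⟨h4, h5⟩ := mem_invs.1 hs
    refine mem_invs.2 ⟨h4.trans (isConj_iff.2 ⟨a, rfl⟩), ?_⟩
    have h6 : a⁻¹ * x * a = x := by rw [mul_assoc, ← mem_C.1 ha, inv_mul_cancel_left]
    calc a * s * a⁻¹ * x * (a * s * a⁻¹)⁻¹ = a * (s * (a⁻¹ * x * a) * s⁻¹) * a⁻¹ := by group
      _ = (a * x * a⁻¹)⁻¹ := by rw [h6, h5]; group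
      _ = x⁻¹ := by rw [mem_C.1 ha, mul_inv_cancel_right]
  obtain ⟨s, hs⟩ : ((invs u x).filter fun s => s * a = a * s).Nonempty := card_ne_zero.1 fun h4 => by
    rw [h1, h4] at h2
    exact absurd h2 (by decide)
  obtain ⟨hs, hsa⟩ := mem_filter.1 hs
  have hu2 : u * u = 1 := by rw [← pow_two, ← hu, pow_orderOf_eq_one]
  have h5 : (invs u x).card ≤ (univ.filter (· ∈ P x)).card := by
    refine card_le_card_of_injOn (s * ·) (fun t ht => ?_) fun a _ b _ hab => mul_left_cancel hab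
    have h6 := mul_mem_C_of_inverts (mem_invs.1 hs).2 (mem_invs.1 ht).2
    have h7 : s * (s * t) * s⁻¹ = (s * t)⁻¹ := by
      rw [← mul_assoc, mul_self_of_isConj hu2 (mem_invs.1 hs).1, one_mul, mul_inv_rev,
        inv_eq_of_mul_eq_one_right (mul_self_of_isConj hu2 (mem_invs.1 ht).1)]
    have h8 : ((s * t) ^ 5) ^ 3 = 1 := by
      rw [← pow_mul, mul_comm 5, ← hC]
      exact congrArg Subtype.val (pow_card_eq_one' (x := (⟨_, h6⟩ : C x)))
    have h9 : ∀ k : G, k ^ 3 = 1 → ¬ 5 ∣ orderOf k := fun k hk h9 =>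
      absurd (h9.trans (orderOf_dvd_of_pow_eq_one hk)) (by norm_num)
    have := Fact.mk Nat.prime_three
    obtain ⟨i, hi⟩ := mem_zpowers_of_prime_card (G := (V x).ker) (p := 3)
      (h.card_ker.trans (Nat.eq_of_mul_eq_mul_right (by norm_num) (h.card_C.symm.trans hC)))
      (g := ⟨⟨a, ha⟩, (h.V_eq_one_iff _).2 (by rw [h3]; norm_num)⟩)
      (g' := ⟨⟨_, pow_mem h6 5⟩, (h.V_eq_one_iff _).2 (h9 _ h8)⟩) fun h10 =>
        CT.ne_one_of_orderOf h3 (by norm_num) (congrArg (fun k : (V x).ker => ((k : C x) : G)) h10)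
    have h10 : a ^ i = (s * t) ^ 5 := congrArg (fun k : (V x).ker => ((k : C x) : G)) hi
    have h11 : (s * t) ^ 5 = ((s * t) ^ 5)⁻¹ := by
      rw [← inv_pow, ← h7, conj_pow, ← h10, (Commute.zpow_right hsa i).eq, mul_inv_cancel_right]
    have h12 : (s * t) ^ 5 = 1 := by
      rw [← h8, pow_succ _ 2, pow_two, mul_eq_one_iff_eq_inv.2 h11, one_mul]
    have := Fact.mk Nat.prime_five
    simp only [coe_filter, mem_univ, true_and, Set.mem_ofPred_eq]
    by_cases h13 : s * t = 1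
    · exact h13 ▸ one_mem _
    · exact CT.mem_zpowers_of_mem_normalizer h.sq h.ord (C_le_N x h6) (orderOf_eq_prime h12 h13)
  have h6 := (Nat.subtype_card (p := (· ∈ P x)) (univ.filter (· ∈ P x)) (by simp)).symm.trans
    h.card_P
  omega

variable [Fintype G] [IsSimpleGroup G] (hG : Nat.card G = 50232960)
include hG

theorem nz_of {e c : ℕ} {D : ℤ} {l : List ℤ} (B : BD G 5 e c D l) {u : G} (hu : orderOf u = 2) :
    nz c (Nat.card (C u)) = true := by
  rw [nz, n17 hG hu dvd_rfl, n19 hG hu dvd_rfl]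
  simp only [Bool.not_false, Bool.true_and, Bool.or_eq_true, Bool.not_eq_true', ← Bool.not_eq_true,
    Nat.beq_eq]
  refine or_iff_not_imp_right.2 fun h => ?_
  obtain ⟨y, h1, hy⟩ := exists_mem_orderOf Nat.prime_five (Nat.dvd_of_mod_eq_zero (not_not.1 h))
  have h2 := Subgroup.orderOf_dvd_natCard (C y) (mem_C.2 (mem_C.1 h1).symm)
  rw [hu, B.blk.setup.card_C_eq hy, B.hc] at h2
  omega

omit [IsSimpleGroup G] in
theorem btW {p e : ℕ} {D : ℤ} {l : List ℤ} (A : BD G p e 1 D l) {q b w d m M r : ℕ}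
    (hq : q.Prime) (hM : M = q ^ b) (hr : r = q ^ (w + 1)) {x : G} (hx : orderOf x = 5)
    {χ : IrrCharacter G} (h1 : χ ≠ irrOne G) (hd : charDegree (χ : G → ℂ) = d) {s : ℤ}
    (hs : s = 1 ∨ s = -1) (hv : (χ : G → ℂ) x = s) (hI : (C x).index = d * m)
    (h : ¬ q ∣ p ∧ M ∣ 50232960 ∧ ¬ p ∣ d ∧ ¬ q ∣ m ∧ r ∣ d * m) :
    btS M (fun a => Nat.beq (a % r) 0 && !Nat.beq (a % 5) 0) d (-D :: l) 0 false = true := by
  classical
  obtain ⟨h2, h3, h4, h5, k, h6⟩ := h
  subst hM hr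
  obtain ⟨M, hM⟩ := Blk.exists_isPModular hq
  have := hM.isMaximal
  obtain ⟨θ, hθ, h7⟩ : ∃ θ ∈ A.Y, χ ∈ θ :: A.L := by
    rcases List.mem_append.1 (A.mem_of rfl h1 (hd ▸ h4)) with h7 | h7
    exacts [⟨χ, mem_toList.1 h7, by simp⟩, ⟨A.θ, A.hθ, by simp [h7]⟩]
  have h8 := bt A (hG ▸ h3) (hno_of A.blk.setup (by rwa [A.hc, one_mul])) hM (union_unit x) hθ
  rw [if_neg (fun h => h (by
    rw [cc_int _ (v := 1) (j := (d * m : ℕ)) (by simp [M11.irrOne_apply]) (by simp [hI]), h6,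
      hM.intCast_mem_iff, Int.natCast_dvd_natCast]
    exact (dvd_pow_self q (by omega)).mul_right k))] at h8
  rw [← map_sg A hθ]
  refine btS_of (sg A) _ _ _ _ (fun ψ hψ h9 => ?_) (.inr ⟨χ, h7, ?_, hd ▸ natAbs_sg A hθ h7⟩)
    (by convert h8)
  · simp only [natAbs_sg A hθ hψ, Bool.and_eq_true, Bool.not_eq_true', ← Bool.not_eq_true,
      Nat.beq_eq]
    refine ⟨Nat.mod_eq_zero_of_dvd (by_contra fun h10 => h9 ?_), fun h10 => h9 ?_⟩
    · obtain ⟨j, d', h11, h12⟩ :=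
        Nat.exists_eq_pow_mul_and_not_dvd ψ.2.charDegree_pos.ne' q hq.ne_one
      obtain ⟨i, hi⟩ : ∃ i, w = j + i := Nat.exists_eq_add_of_le (by
        by_contra h13
        exact h10 (h12 ▸ (pow_dvd_pow q (by omega)).mul_right d'))
      have h13 : (d' : ℂ) ≠ 0 := Nat.cast_ne_zero.2 fun h => h11 (h ▸ dvd_zero q)
      have h14 : (q : ℂ) ≠ 0 := Nat.cast_ne_zero.2 hq.ne_zero
      convert ((hM.memLocalIdeal_p.mul_right (MemLocalRing.natCast (q ^ i * k))).mul_right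
        (Blk.memLocalRing_irr ψ x)).mul_right (hM.inv_natCast_mem h11) using 1
      rw [centralChar, ← ψ.2.coe_charDegree, h12, hI, h6, hi]
      push_cast
      field_simp
      ring
    · rw [centralChar, CT.zero_of_defect ψ.2 (a := 1) Nat.prime_five (by rw [hG]; norm_num)
        (by rw [pow_one]; exact Nat.dvd_of_mod_eq_zero h10) hx.symm.dvd]
      simpa using MemLocalIdeal.zero
  · rw [Set.mem_ofPred_eq, cc_int χ hv (j := m * s) (by rw [hI, hd]; push_cast; ring),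
      hM.intCast_mem_iff]
    rcases hs with rfl | rfl <;> simpa [Int.natCast_dvd_natCast] using h5

omit [IsSimpleGroup G] in
theorem t3_of {D : ℤ} {l : List ℤ} (B : BD G 5 4 3 D l) {z : G} (hz : orderOf z = 2)
    (h1 : (C z).index % 2 = 1) {v : IrrCharacter G → ℤ}
    (hv : ∀ χ : IrrCharacter G, (χ : G → ℂ) z = v χ) :
    t3 D l (Nat.card (C z)) (B.F.map (rc v)) = true := by
  classical
  simp only [t3, Bool.and_eq_true, Bool.not_eq_true', ← Bool.not_eq_true, Nat.beq_eq, beq_iff_eq]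
  constructor
  · obtain ⟨M, hM⟩ := Blk.exists_isPModular Nat.prime_two
    have := hM.isMaximal
    have h2 := bt B (q := 2) (b := 7) (by rw [hG]; norm_num)
      (hno_of B.blk.setup (by rw [B.hc]; norm_num)) hM (union_unit z) B.hθ
    have h3 : ∀ χ : IrrCharacter G, ¬ MemLocalIdeal M (centralChar (χ : G → ℂ) z) ↔
        (C z).index * (v χ).natAbs / charDegree (χ : G → ℂ) % 2 = 1 := fun χ => by
      obtain ⟨j, hj⟩ := CT.deg_dvd χ (hv χ)
      have h4 := congrArg Int.natAbs hj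
      rw [Int.natAbs_mul, Int.natAbs_mul, Int.natAbs_natCast, Int.natAbs_natCast] at h4
      rw [cc_int χ (hv χ) hj, hM.intCast_mem_iff, h4, Nat.mul_div_cancel_left _ χ.2.charDegree_pos]
      omega
    have h4 : v (irrOne G) = 1 := by exact_mod_cast (hv _).symm.trans (M11.irrOne_apply z)
    have h5 := drop_F B (u := z) (by rw [hz]; norm_num) hv
    rw [show (5 - 1) / 4 - 1 = 0 from rfl, List.drop_zero] at h5
    rw [if_pos (Set.mem_ofPred_eq ▸ (h3 (irrOne G)).2 (by simpa [h4] using h1))] at h2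
    rw [h5, ← map_sg B B.hθ, btz_map, ← index_C_eq hG rfl, List.map_congr_left (g := fun χ =>
      if χ ∈ {χ : IrrCharacter G | ¬ MemLocalIdeal M (centralChar (χ : G → ℂ) z)} then sg B χ
      else 0) fun χ hχ => by rw [natAbs_sg B B.hθ hχ]; exact if_congr (h3 χ).symm rfl rfl]
    exact Nat.mod_eq_zero_of_dvd (Int.natCast_dvd.1 (by convert h2; norm_num))
  · intro h2
    have h3 := pair B hG (by norm_num) hz hz hv hv
    rw [show ((3 : ℕ) * (5 : ℕ) : ℤ) = 15 from rfl, show (5 - 1) / 4 = 1 from rfl, h2] at h3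
    exact invs_ne_ten B.blk.setup B.hc hz (Nat.eq_of_mul_eq_mul_right Nat.card_pos
      (Nat.mul_self_inj.1 (by exact_mod_cast h3)))

theorem exists_B5 : Nonempty (BD G 5 2 6 (-323) [-324]) := by
  have hn : ¬ Nat.Prime 50232960 := by norm_num
  have hok : ∀ e c : ℕ, ∀ χ : IrrCharacter G, χ ≠ irrOne G → ∀ a : ℤ,
      a.natAbs = charDegree (χ : G → ℂ) → ok a = true ∧ ok a = true := fun _ _ χ h a ha => by
    rw [ok_of hG h ha, and_self]
  have col : ∀ {u : G}, orderOf u = 2 → ∃ v : IrrCharacter G → ℤ,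
      ∀ χ : IrrCharacter G, (χ : G → ℂ) u = v χ := fun hu =>
    CT.exists_col_invol (by rw [← pow_two, ← hu, pow_orderOf_eq_one])
  obtain ⟨t, ht, hT⟩ := exists_t hG
  obtain ⟨vt, hvt⟩ := col ht
  have aT : ∀ {e c : ℕ} {D : ℤ} {l : List ℤ} (B : BD G 5 e c D l)
      {test : ℕ → List (ℕ × ℤ) → Bool}, test (Nat.card (C t)) (B.F.map (rc vt)) = true →
      anyE 5 e c (nz c) exT test D l = true := fun B _ h =>
    anyE_of B hG (by norm_num) ht (nz_of hG B ht) hvt (fun χ _ => hT χ _ (hvt χ)) h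
  obtain ⟨z, hz, hz1⟩ := exists_two_central (G := G) (by rw [hG]; norm_num)
  obtain ⟨vz, hvz⟩ := col hz
  have aZ : ∀ {e c : ℕ} {D : ℤ} {l : List ℤ} (B : BD G 5 e c D l)
      {test : ℕ → List (ℕ × ℤ) → Bool}, test (Nat.card (C z)) (B.F.map (rc vz)) = true →
      anyE 5 e c (fZ c) (fun _ _ => true) test D l = true := fun B _ h =>
    anyE_of B hG (by norm_num) hz (by
      rw [fZ, nz_of hG B hz, ← index_C_eq hG rfl, hz1]; rfl) hvz (fun _ _ => rfl) h
  have aU : ∀ {e c : ℕ} {D : ℤ} {l : List ℤ} (B : BD G 5 e c D l), ¬ c % 2 = 1 →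
      ∀ {test : ℕ → List (ℕ × ℤ) → Bool}, (∀ u : G, orderOf u = 2 → ∀ v : IrrCharacter G → ℤ,
        (∀ χ : IrrCharacter G, (χ : G → ℂ) u = v χ) →
        test (Nat.card (C u)) (B.F.map (rc v)) = true) →
      anyE 5 e c (fU c) (fun _ _ => true) test D l = true := fun B hc _ h => by
    obtain ⟨u, hu, h1⟩ := B.exists_invol hc
    obtain ⟨v, hv⟩ := col hu
    exact anyE_of B hG (by norm_num) hu (by rw [fU, nz_of hG B hu, h1]; rfl) hv (fun _ _ => rfl)
      (h u hu v hv)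
  obtain ⟨x, hx⟩ := exists_elt hG 5
  have hs := setup hG hx
  by_cases h3 : Nat.card (C x) = 3 * 5
  · obtain ⟨e, c, D, l, ⟨B⟩, h⟩ := exists_BD (p := 5) hG hn (by norm_num) (by norm_num)
      (by norm_num) (fun y hy c hc => by
        rw [Nat.eq_of_mul_eq_mul_right (by norm_num) (hc.symm.trans ((hs.card_C_eq hy).trans h3))]
        rfl) hok s5b
    obtain rfl := Nat.eq_of_mul_eq_mul_right (by norm_num)
      (B.hc.symm.trans ((hs.card_C_eq B.blk.setup.ord).trans h3))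
    rw [Bool.and_eq_true, beq_iff_eq] at h
    obtain ⟨rfl, h⟩ := h
    rw [aT B rfl, aZ B (t3_of hG B hz hz1 hvz)] at h
    exact absurd h (by decide)
  obtain ⟨e, c, D, l, ⟨B⟩, h⟩ := exists_BD (p := 5) hG hn (by norm_num) (by norm_num)
    (by norm_num) (fun y hy c hc => by
      rw [n17 hG hy (Dvd.intro _ hc.symm), n19 hG hy (Dvd.intro _ hc.symm), Bool.or_self,
        Bool.false_or, ← Bool.not_eq_true, Nat.beq_eq]
      rintro rfl
      exact h3 ((hs.card_C_eq hy).symm.trans hc)) hok s5a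
  have h4 : (Nat.beq (c % 2) 1 || anyE 5 e c (fU c) (fun _ _ => true) (fun _ _ => true) D l) =
      true := by
    rw [Bool.or_eq_true, Nat.beq_eq]
    exact or_iff_not_imp_left.2 fun h4 => aU B h4 fun _ _ _ _ => rfl
  rw [h4, aT B rfl] at h
  have h5 : (e, c, D, l) ∈ surv := by simpa using h
  obtain ⟨e1, c1, D1, l1, ⟨A1⟩, k1⟩ := exists_BD (p := 19) hG hn (by norm_num) (by norm_num)
    (by norm_num) (fun y hy c hc => by
      rw [eq_one_of_sc (by norm_num) ((c19 hG y hy).symm.trans hc)]; rfl) hok b19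
  obtain rfl := eq_one_of_sc (by norm_num) ((c19 hG _ A1.blk.setup.ord).symm.trans A1.hc)
  obtain ⟨e2, c2, D2, l2, ⟨A2⟩, k2⟩ := exists_BD (p := 17) hG hn (by norm_num) (by norm_num)
    (by norm_num) (fun y hy c hc => by
      rw [eq_one_of_sc (by norm_num) ((c17 hG y hy).symm.trans hc)]; rfl) hok b17
  obtain rfl := eq_one_of_sc (by norm_num) ((c17 hG _ A2.blk.setup.ord).symm.trans A2.hc)
  simp only [Bool.and_eq_true, Bool.not_eq_true'] at k1 k2
  have hB := B.blk.setup.ord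
  have k816 : ∀ m : ℕ, (816 : ℤ) ∈ l → 50232960 / (c * 5) = 816 * m → ¬ 2 ∣ m → False :=
    fun m h6 h7 h8 => by
      obtain ⟨χ, hχ, h9⟩ := List.mem_map.1 (B.hl ▸ h6)
      obtain ⟨-, h10, h11⟩ := B.of_pos hχ 816 h9
      exact Bool.false_ne_true (k1.2.symm.trans (btW hG A1 (q := 2) (b := 7) (w := 3) Nat.prime_two
        rfl rfl hB (B.lst.mem_of hχ).2 h10 (.inl rfl) (h11 _ hB.symm.dvd)
        ((index_C_eq hG B.hc).trans h7) ⟨by norm_num, by norm_num, by norm_num, h8,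
          Dvd.dvd.mul_right (by norm_num) _⟩))
  have kA : ∀ c ∈ [108, 18], ∀ B : BD G 5 4 c 969 [76, 76, 816], ¬ c % 2 = 1 → False :=
    fun c hc B h6 => by
      have h7 := List.all_eq_true.1 sA c hc
      simp only [Bool.and_eq_true, Bool.not_eq_true', ← Bool.not_eq_true] at h7
      have h8 : B.F.map (rc vt) = vT c := by_contra fun h8 => h7.1 (aT B (by simpa using h8))
      exact h7.2 (aU B h6 fun u hu v hv => h8 ▸ mix_of B hG ht hu hvt hv)
  simp only [surv, List.mem_cons, Prod.mk.injEq, List.not_mem_nil, or_false] at h5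
  rcases h5 with ⟨rfl, rfl, rfl, rfl⟩ | ⟨rfl, rfl, rfl, rfl⟩ | ⟨rfl, rfl, rfl, rfl⟩ |
    ⟨rfl, rfl, rfl, rfl⟩ | ⟨rfl, rfl, rfl, rfl⟩ | ⟨rfl, rfl, rfl, rfl⟩ | ⟨rfl, rfl, rfl, rfl⟩ |
    ⟨rfl, rfl, rfl, rfl⟩ | ⟨rfl, rfl, rfl, rfl⟩
  · exact ⟨B⟩
  · obtain ⟨χ, hχ, h9⟩ := List.mem_map.1 (B.hl ▸ List.mem_singleton_self (-324 : ℤ))
    obtain ⟨-, h10, h11⟩ := B.of_neg hχ 324 h9
    exact absurd (k1.1.symm.trans (btW hG A1 (q := 2) (b := 7) (w := 1) (m := 323) Nat.prime_two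
      rfl rfl hB (B.lst.mem_of hχ).2 h10 (.inr rfl) (h11 _ hB.symm.dvd) (index_C_eq hG B.hc)
      (by norm_num))) Bool.false_ne_true
  · have h6 := B.blk.sum_Y hB.symm.dvd
    obtain ⟨θ, h7⟩ := card_eq_one.1 B.blk.card_Y'
    have h8 := B.hθ
    rw [h7, mem_singleton] at h8
    rw [h7, sum_singleton, ← h8, B.sign_D] at h6
    exact absurd (k2.symm.trans (btW hG A2 (q := 3) (b := 5) (w := 1) (m := 34) Nat.prime_three
      rfl rfl hB (B.blk.ne_one_Y B.hθ) B.natAbs_D.symm (s := 1) (.inl rfl)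
      (h6.trans (by rw [show Int.sign (-2736) = -1 from rfl]; norm_num)) (index_C_eq hG B.hc) (by norm_num))) Bool.false_ne_true
  · have h6 : B.F.map (rc vz) ∈ vZ := by_contra fun h6 =>
      Bool.false_ne_true (sB1.symm.trans (aZ B (by simpa using h6)))
    exact absurd (sB2.symm.trans (aT B (List.any_eq_true.2 ⟨_, h6, mix_of B hG hz ht hvz hvt⟩)))
      Bool.false_ne_true
  · exact (k816 1539 (by simp) rfl (by norm_num)).elim
  · exact (k816 19 (by simp) rfl (by norm_num)).elim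
  · exact (kA _ (by simp) B (by norm_num)).elim
  · exact (kA _ (by simp) B (by norm_num)).elim
  · exact (k816 1539 (by simp) rfl (by norm_num)).elim

theorem c5 (x : G) (hx : orderOf x = 5) : Nat.card (C x) = 30 := by
  obtain ⟨B⟩ := exists_B5 hG
  exact (B.blk.setup.card_C_eq hx).trans B.hc

theorem N5 (x : G) (hx : orderOf x = 5) : Nat.card (N x) = 60 := by
  obtain ⟨e, c, hc, hN, h⟩ := (setup hG hx).loc (by rw [hG]; norm_num) hG
    (test := fun e c => c != 6 || e == 2) (by decide +kernel)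
  obtain rfl : c = 6 := by have := c5 hG x hx; omega
  obtain rfl : e = 2 := by simpa using h
  rw [hN, hc]

theorem cz {z : G} (hz : orderOf z = 2) (h : (C z).index % 2 = 1) : Nat.card (C z) = 1920 := by
  obtain ⟨B⟩ := exists_B5 hG
  obtain ⟨v, hv⟩ := CT.exists_col_invol (u := z) (by rw [← pow_two, ← hz, pow_orderOf_eq_one])
  by_contra h1
  refine Bool.false_ne_true (sZ.symm.trans (anyE_of B hG (by norm_num) hz ?_ hv (fun _ _ => rfl) rfl))
  rw [fZ, nz_of hG B hz, ← index_C_eq hG rfl, h, show Nat.beq (Nat.card (C z)) 1920 = false by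
    rw [← Bool.not_eq_true, Nat.beq_eq]; exact h1]
  rfl

end Cfsg.Agent.Inv.J3O
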