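import Mathlib
import Cfsg.Agent.Inv.PB5

/-!
Simple groups of order 95040: the principal 11-block.
-/

set_option autoImplicit false

namespace Cfsg.Agent.Inv.M12

open Finset Cfsg.Agent.Ch Cfsg.Agent.Inv.PB Cfsg.Agent.Inv.M11 Cfsg.Agent.Inv.Srch

variable {G : Type*} [Group G]

omit [Group G] in
theorem np (hG : Nat.card G = 95040) : ¬ (Nat.card G).Prime := by rw [hG]; norm_num

theorem setup5 (hG : Nat.card G = 95040) {y : G} (hy : orderOf y = 5) : Setup 5 y :=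
  ⟨by norm_num, hy, by rw [hG]; norm_num⟩

theorem setup11 (hG : Nat.card G = 95040) {x : G} (hx : orderOf x = 11) : Setup 11 x :=
  ⟨by norm_num, hx, by rw [hG]; norm_num⟩

theorem two_dvd_C [Finite G] [IsSimpleGroup G] (hG : Nat.card G = 95040) {y : G}
    (hy : orderOf y = 5) : 2 ∣ Nat.card (C y) := by
  classical
  have := Fintype.ofFinite G
  have h := setup5 hG hy
  obtain ⟨e, c, hc, hN, ht⟩ := h.loc (np hG) hG (test := fun e c => Nat.beq (c % 2) 0 ||
    blkAll 95040 5 e c (fun _ => true) (fun _ => true) fun D l =>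
      !cen 95040 5 e c D l || (c == 9 && D == 12 && l == [11])) (by decide +kernel)
  rw [Bool.or_eq_true, Nat.beq_eq] at ht
  by_contra h2
  obtain ⟨X, Y, δ, ε, hB⟩ := h.exists_blk hN
  obtain ⟨θ, hθ⟩ := hB.Y_nonempty
  obtain ⟨L, hL, h3⟩ := hB.all (np hG) hG hc (fun _ _ _ => rfl) hθ rfl
    (ht.resolve_left (by omega))
  rw [hB.cen (np hG) (by norm_num) hG (by norm_num) hc hL hθ] at h3
  simp only [Bool.not_true, Bool.false_or, Bool.and_eq_true, beq_iff_eq,
    List.map_eq_singleton_iff] at h3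
  obtain ⟨⟨rfl, hD⟩, χ, rfl, hχ⟩ := h3
  obtain ⟨hχX, hχ1⟩ := hL.mem_of (χ := χ) (by simp)
  obtain ⟨hδ, hd⟩ := of_sdeg_pos (n := 11) (hB.sign χ hχX) (by norm_num) hχ
  obtain ⟨-, hd'⟩ := of_sdeg_pos (n := 12) hB.sign_Y (by norm_num) hD
  have h4 := hB.int_of_unique (Or.inl hχX) fun ψ hψ h5 => by
    rcases hψ with hψ | hψ
    · rcases List.mem_cons.1 ((hL.mem ψ).1 hψ) with rfl | h6
      · rw [deg_irrOne] at h5; omega
      · simpa using h6
    · rw [hB.deg_eq hψ hθ] at h5; omega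
  choose a ha using h4
  obtain ⟨V, hV, hV9⟩ := CT.exists_le_card_pow (C y) (p := 3) (k := 2) (by norm_num)
    (by rw [hc]; norm_num)
  have := Fintype.ofFinite V
  have h5 : ∀ w ∈ V, w ≠ 1 → a w = -4 := fun w hw h1 => by
    have h6 : w ^ 3 ^ 2 = 1 := by
      rw [← hV9]; exact orderOf_dvd_iff_pow_eq_one.1 (V.orderOf_dvd_natCard hw)
    have h7 := hB.dvd_sub hχX (mem_C.1 (hV hw)).symm (fun h8 => by
      have := h8.trans (orderOf_dvd_of_pow_eq_one h6)
      omega) (ha w)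
    have h8 := χ.isCharacter.prime_dvd_sub_charDegree Nat.prime_three h6 (ha w)
    have h9 := abs_lt.1 (CT.abs_lt_deg (np hG) hχ1 h1 (ha w))
    omega
  have h6 := CT.sum_int_eq_fix χ.isCharacter V (a := a) fun g _ => ha g
  have h7 : a 1 = 11 := by exact_mod_cast (ha 1).symm.trans (apply_one_of_deg hd)
  rw [CT.sum_subgroup_const V a h5, hV9, h7] at h6
  norm_num at h6
  omega

theorem deg_ne [Finite G] [IsSimpleGroup G] (hG : Nat.card G = 95040) (χ : IrrCharacter G) :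
    charDegree (χ : G → ℂ) ≠ 5 ∧ charDegree (χ : G → ℂ) ≠ 10 := by
  have := Fact.mk Nat.prime_five
  obtain ⟨y, hy⟩ := exists_prime_orderOf_dvd_card' (G := G) 5 (by rw [hG]; norm_num)
  obtain ⟨z, hz, hc⟩ := CT.exists_commute_of_dvd Nat.prime_two (two_dvd_C hG hy)
  have h : ∀ d, charDegree (χ : G → ℂ) = d → d = 5 ∨ d = 10 → False := fun d hd h1 => by
    obtain ⟨m, h2, h3, h4⟩ := CT.invol_val (np hG) (χ := χ)
      (by rintro rfl; rw [deg_irrOne] at hd; omega) hz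
    have h5 := (setup5 hG hy).dvd_of_dvd_deg (χ := χ) (by omega) hc.symm (by rw [hz]; norm_num) h2
    rw [abs_lt] at h4
    omega
  exact ⟨fun h1 => h _ h1 (by simp), fun h1 => h _ h1 (by simp)⟩

/-- The characters of degree prime to 11. -/
structure St1 [Finite G] (x : G) (A B Γ D θ θ' : IrrCharacter G) (a b c d : G → ℤ) : Prop where
  hx : orderOf x = 11
  hC : Nat.card (C x) = 11
  hN : Nat.card (N x) = 5 * Nat.card (C x)
  dA : charDegree (A : G → ℂ) = 45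
  dB : charDegree (B : G → ℂ) = 54
  dΓ : charDegree (Γ : G → ℂ) = 120
  dD : charDegree (D : G → ℂ) = 144
  dθ : charDegree (θ : G → ℂ) = 16
  dθ' : charDegree (θ' : G → ℂ) = 16
  ne : θ ≠ θ'
  ha : ∀ g, (A : G → ℂ) g = a g
  hb : ∀ g, (B : G → ℂ) g = b g
  hc : ∀ g, (Γ : G → ℂ) g = c g
  hd : ∀ g, (D : G → ℂ) g = d g
  hθ : ∀ g, ¬ 11 ∣ orderOf g → (θ : G → ℂ) g = (1 + a g - b g - c g + d g : ℤ)
  hθ' : ∀ g, ¬ 11 ∣ orderOf g → (θ' : G → ℂ) g = (1 + a g - b g - c g + d g : ℤ)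
  ax : a x = 1
  bx : b x = -1
  θx : (θ : G → ℂ) x + (θ' : G → ℂ) x = -1
  νθ : ¬ ∀ g, ((θ : G → ℂ) g).im = 0
  νθ' : ¬ ∀ g, ((θ' : G → ℂ) g).im = 0
  other : ∀ φ : IrrCharacter G, φ ∉ [irrOne G, A, B, Γ, D, θ, θ'] →
    11 ∣ charDegree (φ : G → ℂ) ∧ (φ : G → ℂ) x = 0
  inv : ∀ u : G, orderOf u = 2 →
    (Nat.card (C u) = 192 ∧ a u = -3 ∧ b u = 6 ∧ c u = -8 ∧ d u = 0) ∨
    (Nat.card (C u) = 1440 ∧ a u = -15 ∧ b u = 18 ∧ c u = 0 ∧ d u = 24) ∨
    ((Nat.card (C u) = 120 ∨ Nat.card (C u) = 240) ∧ a u = 5 ∧ b u = 6 ∧ c u = 0 ∧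
      (d u = 4 ∨ d u = -4))

theorem exists_blk11 [Fintype G] [IsSimpleGroup G] (hG : Nat.card G = 95040) {x : G}
    (hx : orderOf x = 11) : Nat.card (C x) = 11 ∧ ∃ X Y δ ε L, Blk 11 5 x X Y δ ε ∧ Lst X L ∧
      L.map (sd δ) = [45, -54, -120, 144] ∧ ∀ θ ∈ Y, ε * charDegree (θ : G → ℂ) = 16 := by
  classical
  have h := setup11 hG hx
  obtain ⟨e, c, hc, hN, ht⟩ := h.loc (np hG) hG (test := fun e c =>
    blkAll 95040 11 e c (fun a => a.natAbs != 10) (fun a => a.natAbs != 5) fun D l =>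
      !cenV 95040 11 e c D l || !cen 95040 11 e c D l || (c == 1 && e == 5 &&
        (D == 16 && l == [45, -54, -120, 144] || D == -160 && l == [-32, 45, -54, -120])))
    (by decide +kernel)
  obtain ⟨X, Y, δ, ε, hB⟩ := h.exists_blk hN
  obtain ⟨θ, hθ⟩ := hB.Y_nonempty
  obtain ⟨L, hL, h3⟩ := hB.all (np hG) hG hc
    (fun χ hχ _ => by simpa [sd, natAbs_sign_mul (hB.sign χ hχ)] using (deg_ne hG χ).2) hθ
    (by simpa [natAbs_sign_mul hB.sign_Y] using (deg_ne hG θ).1) ht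
  rw [hB.cen (np hG) (by norm_num) hG (by norm_num) hc hL hθ,
    hB.cenV (np hG) (by norm_num) hG hc hL hθ] at h3
  simp only [Bool.not_true, Bool.false_or, Bool.and_eq_true, Bool.or_eq_true, beq_iff_eq] at h3
  obtain ⟨⟨rfl, rfl⟩, h3⟩ := h3
  rw [one_mul] at hc
  rcases h3 with ⟨h3, h4⟩ | ⟨h3, h4⟩
  · exact ⟨hc, X, Y, δ, ε, L, hB, hL, h4, fun ψ hψ => by rw [hB.deg_eq hψ hθ, h3]⟩
  exfalso
  have h5 : ∀ φ : IrrCharacter G, φ ≠ irrOne G →
      11 ∣ charDegree (φ : G → ℂ) ∨ charDegree (φ : G → ℂ) ∈ [32, 45, 54, 120, 160] :=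
    fun φ h1 => or_iff_not_imp_left.2 fun h2 => by
      rcases hB.mem_of_not_dvd hc h2 with h6 | h6
      · have h7 := List.mem_map_of_mem (f := fun χ => (sd δ χ).natAbs)
          ((List.mem_cons.1 ((hL.mem φ).1 h6)).resolve_left h1)
        rw [← Function.comp_def Int.natAbs, ← List.map_map, h4, sd,
          natAbs_sign_mul (hB.sign φ h6)] at h7
        simp only [List.map_cons, List.map_nil, List.mem_cons, List.not_mem_nil, or_false] at h7 ⊢
        omega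
      · have h7 := congrArg Int.natAbs h3
        rw [natAbs_sign_mul hB.sign_Y, ← hB.deg_eq h6 hθ] at h7
        simp [h7]
  have := Fact.mk Nat.prime_five
  obtain ⟨y, hy⟩ := exists_prime_orderOf_dvd_card' (G := G) 5 (by rw [hG]; norm_num)
  obtain ⟨e, c, hc', hN', ht'⟩ := (setup5 hG hy).loc (np hG) hG (test := fun e c =>
    blkAll 95040 5 e c (fun a => a.natAbs % 11 == 0 || a.natAbs ∈ [32, 45, 54, 120, 160])
      (fun a => a.natAbs % 11 == 0 || a.natAbs ∈ [32, 45, 54, 120, 160]) fun _ _ => false)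
    (by decide +kernel)
  obtain ⟨X', Y', δ', ε', hB'⟩ := (setup5 hG hy).exists_blk hN'
  obtain ⟨θ', hθ'⟩ := hB'.Y_nonempty
  obtain ⟨_, -, h6⟩ := hB'.all (np hG) hG hc'
    (fun χ hχ h1 => by
      simpa [sd, natAbs_sign_mul (hB'.sign χ hχ), ← Nat.dvd_iff_mod_eq_zero] using h5 χ h1) hθ'
    (by simpa [natAbs_sign_mul hB'.sign_Y, ← Nat.dvd_iff_mod_eq_zero] using
      h5 θ' (hB'.ne_one_Y hθ')) ht'
  simp at h6

theorem exists_st1 [Finite G] [IsSimpleGroup G] (hG : Nat.card G = 95040) :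
    ∃ (x : G) (A B Γ D θ θ' : IrrCharacter G) (a b c d : G → ℤ), St1 x A B Γ D θ θ' a b c d := by
  classical
  have := Fintype.ofFinite G
  have : Fact (Nat.Prime 11) := ⟨by norm_num⟩
  obtain ⟨x, hx⟩ := exists_prime_orderOf_dvd_card' (G := G) 11 (by rw [hG]; norm_num)
  obtain ⟨hC, X, Y, δ, ε, L, h, hL, h1, h2⟩ := exists_blk11 hG hx
  simp only [List.map_eq_cons_iff, List.map_eq_nil_iff] at h1
  obtain ⟨A, _, rfl, hA, B, _, rfl, hB, Γ, _, rfl, hΓ, D, _, rfl, hD, rfl⟩ := h1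
  obtain ⟨θ, θ', hne, rfl⟩ := card_eq_two.1 (show Y.card = 2 by have := h.card_Y; omega)
  have hAX := (hL.mem_of (χ := A) (by simp)).1
  have hBX := (hL.mem_of (χ := B) (by simp)).1
  have hΓX := (hL.mem_of (χ := Γ) (by simp)).1
  have hDX := (hL.mem_of (χ := D) (by simp)).1
  obtain ⟨δA, dA⟩ := of_sdeg_pos (n := 45) (h.sign A hAX) (by norm_num) hA
  obtain ⟨δB, dB⟩ := of_sdeg_neg (n := 54) (h.sign B hBX) (by norm_num) hB
  obtain ⟨δΓ, dΓ⟩ := of_sdeg_neg (n := 120) (h.sign Γ hΓX) (by norm_num) hΓ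
  obtain ⟨δD, dD⟩ := of_sdeg_pos (n := 144) (h.sign D hDX) (by norm_num) hD
  obtain ⟨hε, dθ⟩ := of_sdeg_pos (n := 16) h.sign_Y (by norm_num) (h2 θ (by simp))
  obtain ⟨-, dθ'⟩ := of_sdeg_pos (n := 16) h.sign_Y (by norm_num) (h2 θ' (by simp))
  have hint : ∀ χ ∈ X, χ ≠ irrOne G → ∀ g, ∃ n : ℤ, (χ : G → ℂ) g = n := fun χ hχ h3 =>
    h.int_of_unique (Or.inl hχ) fun ψ hψ h4 => by
      have h5 := @deg_irrOne G _
      simp only [hL.mem, List.mem_cons, List.not_mem_nil, or_false, mem_insert, mem_singleton,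
        h3, false_or] at hχ hψ
      rcases hχ with rfl | rfl | rfl | rfl <;>
        rcases hψ with (rfl | rfl | rfl | rfl | rfl) | rfl | rfl <;> first | rfl | omega
  choose a ha using hint A hAX (hL.mem_of (by simp)).2
  choose b hb using hint B hBX (hL.mem_of (by simp)).2
  choose c hc using hint Γ hΓX (hL.mem_of (by simp)).2
  choose d hd using hint D hDX (hL.mem_of (by simp)).2
  have hrel : ∀ ψ ∈ ({θ, θ'} : Finset _), ∀ g, ¬ 11 ∣ orderOf g →
      (ψ : G → ℂ) g = (1 + a g - b g - c g + d g : ℤ) := fun ψ hψ g hg => by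
    have h3 := h.rel g hg ψ hψ
    simp only [hL.sum, h.δ_one, List.map_cons, List.map_nil, List.sum_cons, List.sum_nil, δA, δB,
      δΓ, δD, hε, ha, hb, hc, hd, irrOne_apply] at h3
    push_cast at h3 ⊢
    linear_combination -h3
  have hx11 : 11 ∣ orderOf x := by rw [hx]
  have hθx : (θ : G → ℂ) x + (θ' : G → ℂ) x = -1 := by
    have h3 := h.sum_Y hx11
    rwa [sum_pair hne, hε, Int.cast_one] at h3
  have hoth : ∀ φ : IrrCharacter G, φ ∉ [irrOne G, A, B, Γ, D, θ, θ'] →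
      11 ∣ charDegree (φ : G → ℂ) ∧ (φ : G → ℂ) x = 0 := fun φ hφ => by
    have h3 : φ ∉ X := by rw [hL.mem]; simp only [List.mem_cons] at hφ ⊢; tauto
    have h4 : φ ∉ ({θ, θ'} : Finset _) := by
      simp only [List.mem_cons, mem_insert, mem_singleton] at hφ ⊢; tauto
    exact ⟨h.other hC φ h3 h4, h.vanish hC h3 h4 hx11⟩
  have hnr : ¬ (((θ : G → ℂ) x).im = 0 ∧ ((θ' : G → ℂ) x).im = 0) := fun h3 => by
    refine CT.not_isConj_inv (PS.sc_of_card hx hC) (by rw [h.card_N, hC]; decide)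
      (Subgroup.mem_zpowers x) (fun h4 => by
        have := orderOf_dvd_of_pow_eq_one h4
        rw [hx] at this
        omega) (isConj_iff_forall_irr.2 fun φ => ?_)
    rw [φ.isCharacter.apply_inv]
    refine (Complex.conj_eq_iff_im.2 ?_).symm
    by_cases h4 : φ ∈ [irrOne G, A, B, Γ, D, θ, θ']
    · simp only [List.mem_cons, List.not_mem_nil, or_false] at h4
      rcases h4 with rfl | rfl | rfl | rfl | rfl | rfl | rfl <;>
        simp [irrOne_apply, ha, hb, hc, hd, h3.1, h3.2]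
    · simp [(hoth φ h4).2]
  have him : ((θ : G → ℂ) x).im + ((θ' : G → ℂ) x).im = 0 := by
    simpa using congrArg Complex.im hθx
  refine ⟨x, A, B, Γ, D, θ, θ', a, b, c, d, hx, hC, h.card_N, dA, dB, dΓ, dD, dθ, dθ', hne, ha, hb,
    hc, hd, hrel θ (by simp), hrel θ' (by simp), ?_, ?_, hθx,
    fun h3 => hnr ⟨h3 x, by linarith [h3 x]⟩, fun h3 => hnr ⟨by linarith [h3 x], h3 x⟩, hoth, fun u hu => ?_⟩
  · exact Int.cast_injective.eq_iff.1 ((ha x).symm.trans (δA ▸ h.sing A hAX x hx11))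
  · exact Int.cast_injective.eq_iff.1 ((hb x).symm.trans (δB ▸ h.sing B hBX x hx11))
  · obtain ⟨v, hv⟩ := CT.exists_col_invol (u := u) (by rw [← pow_two, ← hu, pow_orderOf_eq_one])
    have h3 : ((Sieve.divs 95040).all fun cz => cz % 11 == 0 ||
        invAll 95040 cz 1 ((11 - 1) / 5) (fun _ _ => true) (fun q l => q != 0 ||
          (cz == 192 && l == [0, -8, 6, -3, 0]) || (cz == 1440 && l == [24, 0, 18, -15, -8]) ||
          ((cz == 120 || cz == 240) && (l == [4, 0, 6, 5, 4] || l == [-4, 0, 6, 5, -4])))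
          16 [45, -54, -120, 144]) = true := by decide +kernel
    have h4 := List.all_eq_true.1 h3 _ (Sieve.mem_divs (by norm_num) (hG ▸ card_C_dvd u))
    rw [Bool.or_eq_true, beq_iff_eq] at h4
    obtain ⟨q, h5, h6⟩ := h.inv (np hG) (by norm_num) hG hu rfl hv hL (θ := θ) (by simp) ∅
      (by simp) (sq := 1) (by simp) (ex := fun _ _ => true) (fun _ _ => rfl) (by
        rw [h2 θ (by simp)]
        simp only [List.map_cons, List.map_nil, hA, hB, hΓ, hD]
        exact h4.resolve_left fun h5 => h.setup.not_dvd_C hC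
          (CT.ne_one_of_orderOf hu (by norm_num)) (by omega) (Nat.dvd_of_mod_eq_zero h5))
    rw [h.setup.invs_eq_empty (by norm_num) h.card_N (by decide), hC] at h5
    have h7 : q = 0 := by simp at h5; omega
    have e1 : v A = a u := by exact_mod_cast (hv A).symm.trans (ha u)
    have e2 : v B = b u := by exact_mod_cast (hv B).symm.trans (hb u)
    have e3 : v Γ = c u := by exact_mod_cast (hv Γ).symm.trans (hc u)
    have e4 : v D = d u := by exact_mod_cast (hv D).symm.trans (hd u)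
    generalize Nat.card (C u) = cz at h6 ⊢
    simp [h7, e1, e2, e3, e4] at h6
    omega

end Cfsg.Agent.Inv.M12
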