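import Mathlib
import Cfsg.Agent.Inv.M12A
import Cfsg.Agent.Inv.PB6
import Cfsg.Agent.Ch.BSWInt

/-!
Simple groups of order 95040: the characters of degree prime to 5.
-/

set_option autoImplicit false

namespace Cfsg.Agent.Inv.M12

open Finset Cfsg.Agent.Ch Cfsg.Agent.Inv.PB Cfsg.Agent.Inv.M11 Cfsg.Agent.Inv.Srch

variable {G : Type*} [Group G] [Finite G] [IsSimpleGroup G] {x : G}
  {A B Γ D θ θ' : IrrCharacter G} {a b c d : G → ℤ}

omit [IsSimpleGroup G] in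
theorem St1.deg (h : St1 x A B Γ D θ θ' a b c d) {φ : IrrCharacter G} (h1 : φ ≠ irrOne G) :
    11 ∣ charDegree (φ : G → ℂ) ∨ φ = A ∨ φ = B ∨ φ = Γ ∨ φ = D ∨ φ = θ ∨ φ = θ' :=
  or_iff_not_imp_right.2 fun h2 => (h.other φ (by simpa [h1] using h2)).1

theorem St1.five (hG : Nat.card G = 95040) (h : St1 x A B Γ D θ θ' a b c d) :
    ∃ y ∈ N x, orderOf y = 5 ∧ Nat.card (C y) = 2 * 5 ∧ Nat.card (N y) = 4 * Nat.card (C y) := by
  have := Fintype.ofFinite G
  obtain ⟨y, hyx, hy⟩ := (setup11 hG h.hx).exists_orderOf_eq h.hN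
  have hs := setup5 hG hy
  have h1 := ((setup11 hG h.hx).fix_sup (R := P y) (Subgroup.zpowers_le.2 hyx)
    (Setup.eq_one_of_coprime (by rw [hs.card_P, h.hC]; norm_num)) B.isCharacter).2
  have h2 := CT.fix_prime B.isCharacter ((h.hb x).trans (by rw [h.bx])) (by norm_num) h.hx
  have h3 := CT.fix_prime B.isCharacter (h.hb y) (by norm_num) hy
  have h4 := CT.fix_mono B.isCharacter (le_sup_right : P x ≤ P y ⊔ P x)
  rw [hs.card_P] at h1
  rw [h.dB] at h1 h2 h3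
  have h5 : b y = -1 ∨ b y = 4 := by
    change _ = (11 : ℕ) * (CT.fix B (P x) : ℤ) at h2
    change _ = (5 : ℕ) * (CT.fix B (P y) : ℤ) at h3
    omega
  obtain ⟨e, k, hc, hN, ht⟩ := hs.loc (np hG) hG (test := fun e c => c % 3 == 0 || c % 11 == 0 ||
    (e == 4 && c == 2) ||
    blkAll 95040 5 e c (fun a => a.natAbs % 11 == 0 || a.natAbs ∈ [45, 54, 120, 144, 16])
      (fun a => a.natAbs % 11 == 0 || a.natAbs ∈ [45, 54, 120, 144, 16]) fun _ _ => false)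
    (by decide +kernel)
  simp only [Bool.or_eq_true, Bool.and_eq_true, beq_iff_eq] at ht
  rcases ht with ((h6 | h6) | ⟨rfl, rfl⟩) | h6
  · obtain ⟨w, hw, h7⟩ := CT.exists_commute_of_dvd (g := y) Nat.prime_three
      (by rw [show Nat.card (Subgroup.centralizer {y}) = k * 5 from hc]; omega)
    have h8 : (B : G → ℂ) (w * y) = (0 : ℤ) := by
      refine (CT.zero_of_defect B.2 (a := 3) Nat.prime_three (by rw [hG]; norm_num)
        (by rw [h.dB]; norm_num) ?_).trans (by simp)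
      rw [h7.orderOf_mul_eq_mul_orderOf_of_coprime (by rw [hw, hy]; norm_num), hw]
      exact dvd_mul_right _ _
    have := CT.modEq_mul B.isCharacter Nat.prime_three (CT.pow_prime_eq_one hw) h7 h8 (h.hb y)
    omega
  · exact absurd (show 11 ∣ Nat.card (C y) by omega) ((setup11 hG h.hx).not_dvd_C h.hC
      hs.ne_one (by omega))
  · exact ⟨y, hyx, hy, hc, hN⟩
  · have h7 : ∀ φ : IrrCharacter G, φ ≠ irrOne G →
        11 ∣ charDegree (φ : G → ℂ) ∨ charDegree (φ : G → ℂ) ∈ [45, 54, 120, 144, 16] :=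
      fun φ h1 => (h.deg h1).imp_right fun h2 => by
        rcases h2 with rfl | rfl | rfl | rfl | rfl | rfl <;>
          simp [h.dA, h.dB, h.dΓ, h.dD, h.dθ, h.dθ']
    obtain ⟨X', Y', δ', ε', hB'⟩ := hs.exists_blk hN
    obtain ⟨θ', hθ'⟩ := hB'.Y_nonempty
    obtain ⟨_, -, h8⟩ := hB'.all (np hG) hG hc
      (fun χ hχ h1 => by
        simpa [sd, natAbs_sign_mul (hB'.sign χ hχ), ← Nat.dvd_iff_mod_eq_zero] using h7 χ h1) hθ'
      (by simpa [natAbs_sign_mul hB'.sign_Y, ← Nat.dvd_iff_mod_eq_zero] using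
        h7 θ' (hB'.ne_one_Y hθ')) h6
    simp at h8

/-- The characters of degree prime to 5. -/
structure St2 (x y z : G) (A B Γ D θ θ' E F K S T : IrrCharacter G) (s t : ℤ) : Prop where
  hy : orderOf y = 5
  hyx : y ∈ N x
  hC : Nat.card (C y) = 2 * 5
  hN : Nat.card (N y) = 4 * Nat.card (C y)
  hz : orderOf z = 2
  hzy : z ∈ C y
  hCz : Nat.card (C z) = 240
  Az : (A : G → ℂ) z = 5
  Bz : (B : G → ℂ) z = 6
  Γz : (Γ : G → ℂ) z = 0
  Dz : (D : G → ℂ) z = 4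
  θz : (θ : G → ℂ) z = 4
  θz' : (θ' : G → ℂ) z = 4
  Ez : (E : G → ℂ) z = 6
  Fz : (F : G → ℂ) z = -1
  Kz : (K : G → ℂ) z = -4
  dE : charDegree (E : G → ℂ) = 66
  dF : charDegree (F : G → ℂ) = 99
  dK : charDegree (K : G → ℂ) = 176
  dST : (charDegree (S : G → ℂ) = 11 ∧ charDegree (T : G → ℂ) = 11 ∧ s = 1 ∧ t = 1) ∨
    (charDegree (S : G → ℂ) = 66 ∧ charDegree (T : G → ℂ) = 44)
  ne : S ≠ T
  neE : E ≠ S
  Ey : (E : G → ℂ) y = 1 ∧ (E : G → ℂ) (y * z) = 1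
  By : (B : G → ℂ) y = -1 ∧ (B : G → ℂ) (y * z) = 1
  θy : (θ : G → ℂ) y = 1 ∧ (θ : G → ℂ) (y * z) = -1
  θy' : (θ' : G → ℂ) y = 1 ∧ (θ' : G → ℂ) (y * z) = -1
  Sy : (S : G → ℂ) y = s ∧ (S : G → ℂ) (y * z) = -s
  Ty : (T : G → ℂ) y = t ∧ (T : G → ℂ) (y * z) = -t
  other : ∀ φ : IrrCharacter G, φ ∉ [irrOne G, D, E, F, K, B, θ, θ', S, T] →
    (φ : G → ℂ) y = 0 ∧ (φ : G → ℂ) (y * z) = 0
  rel : ∀ g, ¬ 5 ∣ orderOf g → (θ : G → ℂ) g + (θ' : G → ℂ) g + s * (S : G → ℂ) g +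
    t * (T : G → ℂ) g = (B : G → ℂ) g

theorem arith1 {s t : ℤ} {m n : ℕ} (hs : s ^ 2 = 1) (ht : t ^ 2 = 1) (hm : m ∣ 95040)
    (hn : n ∣ 95040) (hm1 : m ^ 2 ≤ 95040) (hn1 : n ^ 2 ≤ 95040) (hm2 : 11 ∣ m) (hn2 : 11 ∣ n)
    (hm3 : (5 : ℤ) ∣ s - m) (hn3 : (5 : ℤ) ∣ t - n) (h : s * m + t * n = 22) (hle : t * n ≤ s * m) :
    (m = 11 ∧ n = 11 ∧ s = 1 ∧ t = 1) ∨ (m = 66 ∧ n = 44) := by
  have h1 : ∀ m ∈ Sieve.divs 95040, m ^ 2 ≤ 95040 → 11 ∣ m → m % 5 = 1 ∨ m % 5 = 4 →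
      m ∈ [11, 44, 66, 99, 176, 264] := by decide +kernel
  have h2 := sq_eq_one_iff.1 hs
  have h3 := sq_eq_one_iff.1 ht
  have h4 := h1 m (Sieve.mem_divs (by norm_num) hm) hm1 hm2 (by omega)
  have h5 := h1 n (Sieve.mem_divs (by norm_num) hn) hn1 hn2 (by omega)
  simp only [List.mem_cons, List.not_mem_nil, or_false] at h4 h5
  rcases h2 with rfl | rfl <;> rcases h3 with rfl | rfl <;> omega

set_option maxHeartbeats 1600000 in
theorem St1.exists_st2 (hG : Nat.card G = 95040) (h : St1 x A B Γ D θ θ' a b c d) :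
    ∃ (y z : G) (E F K S T : IrrCharacter G) (s t : ℤ), St2 x y z A B Γ D θ θ' E F K S T s t := by
  classical
  have := Fintype.ofFinite G
  obtain ⟨y, hyx, hy, hC, hN⟩ := h.five hG
  have hs := setup5 hG hy
  obtain ⟨z, hzy, hz⟩ := exists_mem_orderOf (H := C y) Nat.prime_two (by rw [hC]; norm_num)
  obtain ⟨Z, σ, hZ⟩ := hs.exists_blk1 hN rfl
  obtain ⟨α, hα, hαZ, hβ, hsq, hrel⟩ := hZ.two_cols (by norm_num) hC hN hz hzy
  obtain ⟨v, hv⟩ := CT.exists_col_invol (u := z) (by rw [← pow_two, ← hz, pow_orderOf_eq_one])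
  have hyz : 5 ∣ orderOf (y * z) := by
    rw [hs.orderOf_mul hzy (by rw [hz]; norm_num)]; exact dvd_mul_right _ _
  have hmod : ∀ χ : IrrCharacter G, (5 : ℤ) ∣ α χ - charDegree (χ : G → ℂ) := fun χ =>
    χ.isCharacter.prime_dvd_sub_charDegree Nat.prime_five (CT.pow_prime_eq_one hy) (hα χ)
  have hin : ∀ χ ∈ Z, (5 : ℤ) ∣ α χ - v χ := fun χ hχ =>
    CT.modEq_mul χ.isCharacter Nat.prime_five (CT.pow_prime_eq_one hy) (mem_C.1 hzy).symm
      (hαZ χ hχ ▸ hZ.sing χ hχ _ hyz) (hv χ)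
  have hout : ∀ χ, χ ∉ Z → (5 : ℤ) ∣ -α χ - v χ := fun χ hχ =>
    CT.modEq_mul χ.isCharacter Nat.prime_five (CT.pow_prime_eq_one hy) (mem_C.1 hzy).symm
      (hβ χ hχ) (hv χ)
  have hy11 : ¬ 11 ∣ orderOf y := by rw [hy]; norm_num
  have hz11 : ¬ 11 ∣ orderOf z := by rw [hz]; norm_num
  have e : ∀ {χ : IrrCharacter G} {g : G} {m n : ℤ}, (χ : G → ℂ) g = m → (χ : G → ℂ) g = n →
      m = n := fun h1 h2 => Int.cast_injective.eq_iff.1 (h1.symm.trans h2)
  have h0 : ∀ χ : IrrCharacter G, 5 ∣ charDegree (χ : G → ℂ) → α χ = 0 ∧ χ ∉ Z := fun χ h1 => by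
    have h2 : α χ = 0 := e (hα χ) ((CT.zero_of_defect χ.2 (a := 1) Nat.prime_five hs.sq
      (by rwa [pow_one]) (by rw [hy])).trans (by simp))
    refine ⟨h2, fun h3 => ?_⟩
    have := hZ.sign χ h3
    have := hαZ χ h3
    omega
  obtain ⟨αA, AZ⟩ := h0 A (by rw [h.dA]; norm_num)
  obtain ⟨αΓ, ΓZ⟩ := h0 Γ (by rw [h.dΓ]; norm_num)
  have dA := h.dA
  have dB := h.dB
  have dΓ := h.dΓ
  have dD := h.dD
  have dθ := h.dθ
  have dθ' := h.dθ'
  have hne := h.ne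
  have h1 := CT.col_le_list [(B, α B), (D, α D)] y (nodup_of_deg (by simp [dB, dD]))
    (by simp [hα])
  rw [show Nat.card (Subgroup.centralizer {y}) = 2 * 5 from hC] at h1
  simp only [List.map_cons, List.map_nil, List.sum_cons, List.sum_nil] at h1
  have αB : α B = -1 := by
    have h2 := hmod B
    have h3 : -4 < α B ∧ α B < 4 :=
      abs_lt_of_sq_lt_sq' (by push_cast at h1; linarith [sq_nonneg (α D)]) (by norm_num)
    omega
  have αD : α D = -1 := by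
    have h2 := hmod D
    have h3 : -4 < α D ∧ α D < 4 :=
      abs_lt_of_sq_lt_sq' (by push_cast at h1; linarith [sq_nonneg (α B)]) (by norm_num)
    omega
  have h2 := e (hα θ) (h.hθ y hy11)
  have h3 := e (hα θ') (h.hθ' y hy11)
  rw [← e (hα A) (h.ha y), ← e (hα B) (h.hb y), ← e (hα Γ) (h.hc y), ← e (hα D) (h.hd y)] at h2 h3
  have αθ : α θ = 1 := by omega
  have αθ' : α θ' = 1 := by omega
  have vA := e (hv A) (h.ha z)
  have vB := e (hv B) (h.hb z)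
  have vΓ := e (hv Γ) (h.hc z)
  have vD := e (hv D) (h.hd z)
  have vθ := e (hv θ) (h.hθ z hz11)
  have vθ' := e (hv θ') (h.hθ' z hz11)
  have h5 : 5 ∣ Nat.card (C z) := hy ▸ CT.orderOf_dvd_card_centralizer (mem_C.1 hzy).symm
  have hcase : ∀ χ, (5 : ℤ) ∣ α χ - v χ ∨ (5 : ℤ) ∣ -α χ - v χ := fun χ =>
    (em (χ ∈ Z)).imp (hin χ) (hout χ)
  obtain ⟨hcz, az, bz, cz, dz⟩ : (Nat.card (C z) = 120 ∨ Nat.card (C z) = 240) ∧ a z = 5 ∧
      b z = 6 ∧ c z = 0 ∧ (d z = 4 ∨ d z = -4) := by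
    have := hcase θ
    have := h.inv z hz
    omega
  have BZ : B ∉ Z := fun h6 => by have := hin B h6; omega
  have hex : ∀ χ ∈ Z, ((v χ - (sd σ χ).sign) % 5 == 0) = true := fun χ hχ => by
    have := hin χ hχ
    rw [sd, sign_sign_mul (hZ.sign χ hχ) χ.2.charDegree_pos, ← hαZ χ hχ, beq_iff_eq]
    omega
  have habs : ∀ χ ∈ Z, (sd σ χ).natAbs = charDegree (χ : G → ℂ) := fun χ hχ =>
    natAbs_sign_mul (hZ.sign χ hχ) _
  rcases dz with dz | dz
  swap
  · exfalso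
    have DZ : D ∉ Z := fun h6 => by have := hin D h6; omega
    have h6 : ∀ χ ∈ Z, χ ≠ irrOne G → 11 ∣ charDegree (χ : G → ℂ) ∨
        (charDegree (χ : G → ℂ) = 16 ∧ v χ = -4) := fun χ hχ h7 => by
      rcases h.deg h7 with h8 | rfl | rfl | rfl | rfl | rfl | rfl <;>
        first | contradiction | omega
    obtain ⟨L, hL, h7⟩ := hZ.all (np hG) hG hC (ok := fun a => a.natAbs % 11 == 0 || a.natAbs == 16)
      (fun χ hχ h7 => by
        have := h6 χ hχ h7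
        simp only [habs χ hχ, Bool.or_eq_true, beq_iff_eq]
        omega)
      (fin := fun l => [120, 240].all fun cz => inv1All 95040 cz 78
        (fun d v => (v - d.sign) % 5 == 0 && (d.natAbs != 16 || v == -4))
        (fun q _ => !okq 5 4 2 cz q) l) (by decide +kernel)
    obtain ⟨q, h8, h9⟩ := hZ.inv (np hG) (by norm_num) hG hz rfl hv hL {A, B, D}
      (by simp [AZ, BZ, DZ]) (sq := 78)
      (by
        rw [sum_insert (by simp [ne_of_deg dA dB, ne_of_deg dA dD]),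
          sum_pair (ne_of_deg dB dD (by norm_num)), vA, vB, vD, az, bz, dz]
        norm_num)
      (fun χ hχ => by
        have := h6 χ (hL.mem_of hχ).1 (hL.mem_of hχ).2
        simp only [hex χ (hL.mem_of hχ).1, habs χ (hL.mem_of hχ).1, Bool.true_and,
          Bool.or_eq_true, beq_iff_eq, bne_iff_ne]
        omega)
      (List.all_eq_true.1 h7 _ (by simpa using hcz))
    rw [hs.okq (by norm_num) hC hN h8] at h9
    exact absurd h9 (by decide)
  have θZ : θ ∉ Z := fun h6 => by have := hin θ h6; omega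
  have θZ' : θ' ∉ Z := fun h6 => by have := hin θ' h6; omega
  have h6 : ∀ χ ∈ Z, χ ≠ irrOne G → 11 ∣ charDegree (χ : G → ℂ) ∨ χ = D := fun χ hχ h7 => by
    rcases h.deg h7 with h8 | rfl | rfl | rfl | rfl | rfl | rfl <;>
      first | contradiction | simp [*]
  have h6' : ∀ χ ∈ Z, χ ≠ irrOne G → 11 ∣ charDegree (χ : G → ℂ) ∨
      (charDegree (χ : G → ℂ) = 144 ∧ v χ = 4) := fun χ hχ h7 =>
    (h6 χ hχ h7).imp_right (by rintro rfl; omega)
  obtain ⟨L, hL, h7⟩ := hZ.all (np hG) hG hC (ok := fun a => a.natAbs % 11 == 0 || a.natAbs == 144)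
    (fun χ hχ h7 => by
      have := h6' χ hχ h7
      simp only [habs χ hχ, Bool.or_eq_true, beq_iff_eq]
      omega)
    (fin := fun l => [120, 240].all fun cz => inv1All 95040 cz 94
      (fun d v => (v - d.sign) % 5 == 0 && (d.natAbs != 144 || v == 4))
      (fun q w => !okq 5 4 2 cz q ||
        (l == [66, -99, -144, 176] && cz == 240 && w == [-4, 4, -1, 6])) l) (by decide +kernel)
  obtain ⟨q, h8, h9⟩ := hZ.inv (np hG) (by norm_num) hG hz rfl hv hL {A, B, θ, θ'}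
    (by simp [AZ, BZ, θZ, θZ']) (sq := 94)
    (by
      rw [sum_insert (by simp [ne_of_deg dA dB, ne_of_deg dA dθ, ne_of_deg dA dθ']),
        sum_insert (by simp [ne_of_deg dB dθ, ne_of_deg dB dθ']),
        sum_pair hne, vA, vB, vθ, vθ', az, bz, cz, dz]
      norm_num)
    (fun χ hχ => by
      have := h6' χ (hL.mem_of hχ).1 (hL.mem_of hχ).2
      simp only [hex χ (hL.mem_of hχ).1, habs χ (hL.mem_of hχ).1, Bool.true_and,
        Bool.or_eq_true, beq_iff_eq, bne_iff_ne]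
      omega)
    (List.all_eq_true.1 h7 _ (by simpa using hcz))
  simp only [hs.okq (by norm_num) hC hN h8, Bool.not_true, Bool.false_or, Bool.and_eq_true,
    beq_iff_eq, List.map_eq_cons_iff, List.map_eq_nil_iff] at h9
  obtain ⟨⟨⟨E, _, rfl, hE, F, _, rfl, hF, D', _, rfl, hD, K, _, rfl, hK, rfl⟩, hcz⟩, h10⟩ := h9
  have EZ := (hL.mem_of (χ := E) (by simp)).1
  have FZ := (hL.mem_of (χ := F) (by simp)).1
  have DZ := hL.mem_of (χ := D') (by simp)
  have KZ := (hL.mem_of (χ := K) (by simp)).1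
  obtain ⟨σE, dE⟩ := of_sdeg_pos (n := 66) (hZ.sign E EZ) (by norm_num) hE
  obtain ⟨-, dF⟩ := of_sdeg_neg (n := 99) (hZ.sign F FZ) (by norm_num) hF
  obtain ⟨-, dD'⟩ := of_sdeg_neg (n := 144) (hZ.sign D' DZ.1) (by norm_num) hD
  obtain ⟨-, dK⟩ := of_sdeg_pos (n := 176) (hZ.sign K KZ) (by norm_num) hK
  obtain rfl : D' = D := (h6 D' DZ.1 DZ.2).resolve_left (by omega)
  simp only [List.map_cons, List.map_nil, List.reverse_cons, List.reverse_nil, List.nil_append,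
    List.cons_append, List.cons.injEq, and_true] at h10
  have hsplit : ∀ {R : Type} [AddCommMonoid R] (f : IrrCharacter G → R), ∑ χ ∈ Zᶜ, f χ =
      ∑ χ ∈ univ \ (Z ∪ {B, θ, θ'}), f χ + (f B + (f θ + f θ')) := fun f => by
    rw [← sum_sdiff (s₁ := {B, θ, θ'}) (by simp [subset_iff, BZ, θZ, θZ']),
      sum_insert (by simp [ne_of_deg dB dθ, ne_of_deg dB dθ']), sum_pair hne, compl_eq_univ_sdiff,
      sdiff_sdiff_left, sup_eq_union]
  rw [hsplit, αB, αθ, αθ'] at hsq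
  obtain ⟨S, T, hST, hS, hT, αS, αT, hoth⟩ := BSW.exists_two_of_sum_sq α (Z ∪ {B, θ, θ'})
    (by push_cast at hsq; linarith)
  wlog hle : α T * charDegree (T : G → ℂ) ≤ α S * charDegree (S : G → ℂ) generalizing S T
  · exact this T S hST.symm hT hS αT αS (fun χ h1 h2 h3 => hoth χ h1 h3 h2) (le_of_not_ge hle)
  have hrel' : ∀ g, ¬ 5 ∣ orderOf g → (θ : G → ℂ) g + (θ' : G → ℂ) g + α S * (S : G → ℂ) g +
      α T * (T : G → ℂ) g = (B : G → ℂ) g := fun g hg => by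
    have h11 := hrel g hg
    rw [hsplit, ← sum_subset (s₁ := {S, T}) (by simp [subset_iff] at hS hT ⊢; tauto)
      (fun χ h1 h2 => by
        rw [hoth χ (mem_sdiff.1 h1).2 (by rintro rfl; simp at h2) (by rintro rfl; simp at h2)]
        simp), sum_pair hST, αB, αθ, αθ'] at h11
    push_cast at h11
    linear_combination h11
  simp only [mem_union, mem_insert, mem_singleton, not_or] at hS hT
  have h11 : ∀ χ : IrrCharacter G, χ ∉ Z → χ ≠ B → χ ≠ θ → χ ≠ θ' → α χ ^ 2 = 1 →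
      11 ∣ charDegree (χ : G → ℂ) := fun χ h1 h2 h3 h4 h5 => by
    rcases h.deg (φ := χ) (fun h6 => h1 (h6 ▸ hZ.one_mem)) with
      h8 | rfl | rfl | rfl | rfl | rfl | rfl <;> first | contradiction | simp_all
  have h12 := hrel' 1 (by simp)
  rw [apply_one_of_deg dθ, apply_one_of_deg dθ', apply_one_of_deg dB, ← S.2.coe_charDegree,
    ← T.2.coe_charDegree] at h12
  have h13 := arith1 αS αT (hG ▸ S.2.charDegree_dvd_card) (hG ▸ T.2.charDegree_dvd_card)
    (hG ▸ S.2.charDegree_sq_le) (hG ▸ T.2.charDegree_sq_le) (h11 S hS.1 hS.2.1 hS.2.2.1 hS.2.2.2 αS)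
    (h11 T hT.1 hT.2.1 hT.2.2.1 hT.2.2.2 αT) (hmod S) (hmod T)
    (by have : (16 + 16 + α S * charDegree (S : G → ℂ) + α T * charDegree (T : G → ℂ) : ℤ) = 54 := by
          exact_mod_cast h12
        omega) hle
  refine ⟨y, z, E, F, K, S, T, α S, α T, hy, hyx, hC, hN, hz, hzy, hcz, by simp [hv, vA, az],
    by simp [hv, vB, bz], by simp [hv, vΓ, cz], by simp [hv, h10], by simp [hv, vθ, az, bz, cz, dz],
    by simp [hv, vθ', az, bz, cz, dz], by simp [hv, h10], by simp [hv, h10], by simp [hv, h10],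
    dE, dF, dK, h13, hST, fun h14 => hS.1 (h14 ▸ EZ),
    ⟨by simp [hα, hαZ E EZ, σE], by simp [hZ.sing E EZ _ hyz, σE]⟩,
    by simp [hα, hβ B BZ, αB], by simp [hα, hβ θ θZ, αθ], by simp [hα, hβ θ' θZ', αθ'],
    by simp [hα, hβ S hS.1], by simp [hα, hβ T hT.1], fun φ hφ => ?_, hrel'⟩
  simp only [List.mem_cons, List.not_mem_nil, or_false, not_or] at hφ
  have h14 : φ ∉ Z := by simp [hL.mem, hφ]
  simp [hα, hβ φ h14, hoth φ (by simp [h14, hφ]) (by simp [hφ]) (by simp [hφ])]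

end Cfsg.Agent.Inv.M12
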