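import Mathlib
import Cfsg.Agent.Inv.M12B
import Cfsg.Agent.Inv.ChTools5

/-!
Simple groups of order 95040: all degrees, the involutions, and the characters of degree 11.
-/

set_option autoImplicit false

namespace Cfsg.Agent.Inv.M12

open Finset Cfsg.Agent.Ch Cfsg.Agent.Inv.PB Cfsg.Agent.Inv.M11 Cfsg.Agent.Inv.PS

variable {G : Type*} [Group G] [Finite G] [IsSimpleGroup G] {x y z : G}
  {A B Γ D θ θ' E F K S T : IrrCharacter G} {a b c d : G → ℤ} {s t : ℤ}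

/-- The complete list of degrees and the classes of involutions. -/
structure St3 (z : G) (L : List (IrrCharacter G)) (S T : IrrCharacter G) (s t : ℤ) : Prop where
  nodup : L.Nodup
  dS : charDegree (S : G → ℂ) = 11
  dT : charDegree (T : G → ℂ) = 11
  hs : s = 1
  ht : t = 1
  rest : ∀ φ : IrrCharacter G, φ ∉ L → charDegree (φ : G → ℂ) = 55
  νS : ∀ [Fintype G], fsInd (S : G → ℂ) = 1
  νT : ∀ [Fintype G], fsInd (T : G → ℂ) = 1
  invol : ∀ u, orderOf u = 2 → IsConj z u ∨ Nat.card (C u) = 192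
  nosq : ∀ f, ¬ IsConj z (f ^ 2)

set_option maxHeartbeats 800000 in
theorem St1.st3 (hG : Nat.card G = 95040) (h : St1 x A B Γ D θ θ' a b c d)
    (k : St2 x y z A B Γ D θ θ' E F K S T s t) :
    St3 z [irrOne G, A, B, Γ, D, θ, θ', E, F, K, S, T] S T s t := by
  classical
  have := Fintype.ofFinite G
  have hnd : [irrOne G, A, B, Γ, D, θ, θ', E, F, K, S, T].Nodup := nodup_of_deg (by
    rcases k.dST with ⟨h1, h2, -⟩ | ⟨h1, h2⟩ <;> simp [h.dA, h.dB, h.dΓ, h.dD, h.dθ,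
      h.dθ', k.dE, k.dF, k.dK, h1, h2, h.ne, k.ne, k.neE])
  obtain ⟨R, hR, hsum'⟩ := exists_rest hnd
  have hsum : ∀ f : IrrCharacter G → ℤ, ∑ χ, f χ = f (irrOne G) + f A + f B + f Γ + f D + f θ +
      f θ' + f E + f F + f K + f S + f T + ∑ χ ∈ R, f χ := fun f => by
    rw [hsum']
    simp only [List.map_cons, List.map_nil, List.sum_cons, List.sum_nil]
    ring
  have h1 : ∑ χ : IrrCharacter G, (charDegree (χ : G → ℂ) : ℤ) ^ 2 = 95040 := by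
    exact_mod_cast hG ▸ sum_sq_charDegree (G := G)
  rw [hsum, deg_irrOne, h.dA, h.dB, h.dΓ, h.dD, h.dθ, h.dθ', k.dE, k.dF, k.dK] at h1
  have h2 : ∀ φ ∈ R, charDegree (φ : G → ℂ) = 55 := fun φ hφ => by
    have h3 := single_le_sum (f := fun χ : IrrCharacter G => (charDegree (χ : G → ℂ) : ℤ) ^ 2)
      (fun _ _ => sq_nonneg _) hφ
    simp only [hR, List.mem_cons, List.not_mem_nil, or_false, not_or] at hφ
    have h4 := (h.other φ (by simp [hφ])).1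
    have h5 := φ.isCharacter.prime_dvd_sub_charDegree Nat.prime_five (CT.pow_prime_eq_one k.hy)
      (m := 0) (by simpa using (k.other φ (by simp [hφ])).1)
    have h6 := φ.2.charDegree_pos
    have h7 : (charDegree (φ : G → ℂ) : ℤ) < 110 := by
      refine lt_of_pow_lt_pow_left₀ 2 (by norm_num) ?_
      rcases k.dST with ⟨h1', h2', -⟩ | ⟨h1', h2'⟩ <;> rw [h1', h2'] at h1 <;> omega
    omega
  rw [sum_congr rfl (fun φ hφ => by rw [h2 φ hφ]), sum_const, nsmul_eq_mul] at h1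
  obtain ⟨ν, hν, hν1, hν0, hsq⟩ := CT.exists_nu (G := G)
  obtain ⟨w, hw, hw'⟩ := exists_two_central (G := G) (by rw [hG]; norm_num)
  have hwC : Nat.card (C w) = 192 := by
    have h3 := (C w).index_mul_card
    rw [hG] at h3
    rcases h.inv w hw with ⟨h4, -⟩ | ⟨h4, -⟩ | ⟨h4 | h4, -⟩ <;> rw [h4] at h3 ⊢ <;> omega
  obtain ⟨n, h3, h4⟩ := CT.card_sqrt_one [z, w] (by simp [k.hz, hw]) (by
    have := mt (CT.card_C_of_isConj (u := z) (v := w)) (by rw [k.hCz, hwC]; norm_num)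
    simp only [List.pairwise_cons, List.mem_cons, List.not_mem_nil, or_false, forall_eq,
      IsEmpty.forall_iff, implies_true, List.Pairwise.nil, and_true, this, not_false_eq_true])
  simp only [List.map_cons, List.map_nil, List.sum_cons, List.sum_nil, index_C_eq hG hwC,
    index_C_eq hG k.hCz] at h3
  have h5 := hsq 1 (fun χ => charDegree (χ : G → ℂ)) fun χ => by simp [χ.2.coe_charDegree]
  rw [h3, hsum, deg_irrOne, h.dA, h.dB, h.dΓ, h.dD, hν0 θ h.νθ, hν0 θ' h.νθ', k.dE, k.dF, k.dK,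
    sum_congr rfl (fun φ hφ => by rw [h2 φ hφ]), ← sum_mul] at h5
  have h6 : ∑ φ ∈ R, ν φ ≤ ∑ φ ∈ R, 1 := sum_le_sum fun φ _ => hν1 φ
  have h6' := h6
  rw [sum_const, nsmul_eq_mul, mul_one] at h6'
  have := hν1 (irrOne G)
  have := hν1 A
  have := hν1 B
  have := hν1 Γ
  have := hν1 D
  have := hν1 E
  have := hν1 F
  have := hν1 K
  have := hν1 S
  have := hν1 T
  obtain ⟨dS, dT, rfl, rfl⟩ := k.dST.resolve_right fun ⟨h7, h8⟩ => by
    rw [h7, h8] at h1 h5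
    omega
  rw [dS, dT] at h1 h5
  obtain ⟨e1, e2, e3, e4, e5, e6, e7, e8, e9, e10, e11, e12⟩ : ν (irrOne G) = 1 ∧ ν A = 1 ∧
      ν B = 1 ∧ ν Γ = 1 ∧ ν D = 1 ∧ ν E = 1 ∧ ν F = 1 ∧ ν K = 1 ∧ ν S = 1 ∧ ν T = 1 ∧ n = 0 ∧
      ∑ φ ∈ R, ν φ = R.card := by omega
  have h7 := (sum_eq_sum_iff_of_le fun φ _ => hν1 φ).1
    (e12.trans (by rw [sum_const, nsmul_eq_mul, mul_one]))
  obtain ⟨v, hv⟩ := CT.exists_col_invol (u := z) (by rw [← pow_two, ← k.hz, pow_orderOf_eq_one])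
  have e : ∀ {χ : IrrCharacter G} {m : ℤ}, (χ : G → ℂ) z = m → v χ = m :=
    fun h1 => Int.cast_injective.eq_iff.1 ((hv _).symm.trans h1)
  have hST : ∀ χ : IrrCharacter G, charDegree (χ : G → ℂ) = 11 →
      (χ : G → ℂ) (y * z) = -(1 : ℤ) → v χ = -1 := fun χ h8 h9 => by
    obtain ⟨m, h10, h11, h12⟩ := CT.invol_val (np hG) (ne_of_deg h8 deg_irrOne (by norm_num)) k.hz
    have := CT.modEq_mul χ.isCharacter Nat.prime_five (CT.pow_prime_eq_one k.hy)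
      (mem_C.1 k.hzy).symm (m := -1) (by simpa using h9) h10
    rw [abs_lt] at h12
    rw [e h10]
    omega
  have h8 := CT.col_deg (CT.ne_one_of_orderOf k.hz (by norm_num)) hv
  have h9 := hsq z v hv
  rw [hsum, deg_irrOne, h.dA, h.dB, h.dΓ, h.dD, h.dθ, h.dθ', k.dE, k.dF, k.dK, dS, dT,
    sum_congr rfl (fun φ hφ => by rw [h2 φ hφ]), ← sum_mul] at h8
  rw [hsum, e1, e2, e3, e4, e5, e6, e7, e8, e9, e10, hν0 θ h.νθ, hν0 θ' h.νθ',
    sum_congr rfl (fun φ hφ => by rw [h7 φ hφ, one_mul])] at h9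
  rw [e (χ := irrOne G) (m := 1) (by simp [irrOne_apply]), e (m := 5) (by simp [k.Az]),
    e (m := 6) (χ := B) (by simp [k.Bz]), e (m := 0) (χ := Γ) (by simp [k.Γz]),
    e (m := 4) (χ := D) (by simp [k.Dz]), e (m := 4) (χ := θ) (by simp [k.θz]),
    e (m := 4) (χ := θ') (by simp [k.θz']), e (m := 6) (χ := E) (by simp [k.Ez]),
    e (m := -1) (χ := F) (by simp [k.Fz]), e (m := -4) (χ := K) (by simp [k.Kz]),
    hST S dS k.Sy.2, hST T dT k.Ty.2] at h8 h9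
  refine ⟨hnd, dS, dT, rfl, rfl, fun φ hφ => h2 φ ((hR φ).2 hφ), ?_, ?_, fun u hu => ?_,
    CT.not_isConj_sq (by push_cast at h8 h9; linarith)⟩
  · intro _; convert hν S; simp [e9]
  · intro _; convert hν T; simp [e10]
  · obtain ⟨u', h10, h11⟩ := h4 e11 u hu
    simp only [List.mem_cons, List.not_mem_nil, or_false] at h10
    rcases h10 with rfl | rfl
    exacts [Or.inl h11, Or.inr (CT.card_C_of_isConj h11 ▸ hwC)]

omit [IsSimpleGroup G] in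
theorem St1.decomp (h : St1 x A B Γ D θ θ' a b c d) (k : St2 x y z A B Γ D θ θ' E F K S T s t)
    (l : St3 z [irrOne G, A, B, Γ, D, θ, θ', E, F, K, S, T] S T s t) (m : IrrCharacter G → ℕ)
    {n : ℕ} (hn : (n : ℂ) = ∑ φ, m φ * (φ : G → ℂ) 1) (hn' : n < 99) : ∃ r : ℕ,
    n = m (irrOne G) + 45 * m A + 54 * m B + 16 * m θ + 16 * m θ' + 66 * m E + 11 * m S +
      11 * m T + 55 * r ∧
    ∑ φ, m φ * (φ : G → ℂ) y = (m (irrOne G) - m B + m θ + m θ' + m E + m S + m T : ℤ) ∧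
    (r = 0 → ∀ g, ∑ φ, m φ * (φ : G → ℂ) g = m (irrOne G) + m A * (A : G → ℂ) g +
      m B * (B : G → ℂ) g + m θ * (θ : G → ℂ) g + m θ' * (θ' : G → ℂ) g + m E * (E : G → ℂ) g +
      m S * (S : G → ℂ) g + m T * (T : G → ℂ) g) := by
  obtain ⟨R, hR, hsum⟩ := exists_rest l.nodup
  have h1 : n = ∑ φ, m φ * charDegree (φ : G → ℂ) := by
    simp only [← IsIrrCharacter.coe_charDegree (Subtype.prop _)] at hn
    exact_mod_cast hn
  rw [hsum, sum_congr rfl fun φ hφ => by rw [l.rest φ ((hR φ).1 hφ)], ← sum_mul] at h1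
  simp only [List.map_cons, List.map_nil, List.sum_cons, List.sum_nil, deg_irrOne, h.dA, h.dB, h.dΓ,
    h.dD, h.dθ, h.dθ', k.dE, k.dF, k.dK, l.dS, l.dT] at h1
  obtain ⟨e1, e2, e3, e4⟩ : m Γ = 0 ∧ m D = 0 ∧ m F = 0 ∧ m K = 0 := by omega
  have hnd := l.nodup
  refine ⟨∑ φ ∈ R, m φ, by omega, ?_, fun h2 g => ?_⟩
  · have hA : (A : G → ℂ) y = 0 := (k.other A (by simp at hnd ⊢; tauto)).1
    rw [hsum, sum_eq_zero fun φ hφ => by
      rw [(k.other φ (by have := (hR φ).1 hφ; simp at this ⊢; tauto)).1, mul_zero]]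
    simp [e1, e2, e3, e4, hA, k.By.1, k.θy.1, k.θy'.1, k.Ey.1, k.Sy.1, k.Ty.1, l.hs, l.ht,
      irrOne_apply]
    ring
  · rw [hsum, sum_eq_zero fun φ hφ => by simp [sum_eq_zero_iff.1 h2 φ hφ]]
    simp [e1, e2, e3, e4, irrOne_apply]
    ring

omit [IsSimpleGroup G] in
theorem St1.sym (h : St1 x A B Γ D θ θ' a b c d) (k : St2 x y z A B Γ D θ θ' E F K S T s t)
    (l : St3 z [irrOne G, A, B, Γ, D, θ, θ', E, F, K, S, T] S T s t) {χ : IrrCharacter G}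
    (hχ : χ = S ∨ χ = T) : ∃ ψ : IrrCharacter G, (ψ = S ∨ ψ = T) ∧ ∀ g,
      (χ : G → ℂ) g ^ 2 + (χ : G → ℂ) (g ^ 2) = 2 * (1 + (B : G → ℂ) g + (ψ : G → ℂ) g) := by
  have := Fintype.ofFinite G
  obtain ⟨h1, h2, h3⟩ : fsInd (χ : G → ℂ) = 1 ∧ charDegree (χ : G → ℂ) = 11 ∧
      (χ : G → ℂ) y = (1 : ℤ) := by
    rcases hχ with rfl | rfl
    exacts [⟨l.νS, l.dS, l.hs ▸ k.Sy.1⟩, ⟨l.νT, l.dT, l.ht ▸ k.Ty.1⟩]
  obtain ⟨m, h4, h5⟩ := CT.sym_mult h1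
  obtain ⟨r, h6, h7, h8⟩ := h.decomp k l m (n := 66) (by
    have := h5 1
    rw [one_pow, apply_one_of_deg h2] at this
    push_cast at this ⊢
    linear_combination this / 2) (by norm_num)
  have h9 := h5 y
  rw [h7, h3, CT.apply_pow_of_int χ.isCharacter h3 (by rw [k.hy]; norm_num)] at h9
  have h10 : (1 : ℤ) ^ 2 + 1 = 2 * (m (irrOne G) - m B + m θ + m θ' + m E + m S + m T) := by
    exact_mod_cast h9
  obtain ⟨e0, e1, e2, e3, e4, e5, e6⟩ : r = 0 ∧ m A = 0 ∧ m B = 1 ∧ m θ = 0 ∧ m θ' = 0 ∧ m E = 0 ∧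
      ((m S = 1 ∧ m T = 0) ∨ (m S = 0 ∧ m T = 1)) := by
    have : m B = 0 ∨ m B = 1 := by omega
    have : m A = 0 ∨ m A = 1 := by omega
    omega
  rcases e6 with ⟨e6, e7⟩ | ⟨e6, e7⟩
  · exact ⟨S, by simp, fun g => by simp [h5, h8 e0, h4, e1, e2, e3, e4, e5, e6, e7]⟩
  · exact ⟨T, by simp, fun g => by simp [h5, h8 e0, h4, e1, e2, e3, e4, e5, e6, e7]⟩

theorem St1.invol_le (hG : Nat.card G = 95040) (h : St1 x A B Γ D θ θ' a b c d)
    (k : St2 x y z A B Γ D θ θ' E F K S T s t)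
    (l : St3 z [irrOne G, A, B, Γ, D, θ, θ', E, F, K, S, T] S T s t) {χ : IrrCharacter G}
    (hχ : χ = S ∨ χ = T) {u : G} (hu : orderOf u = 2) : ∃ m : ℤ, m ≤ 3 ∧ (χ : G → ℂ) u = m := by
  have hd : ∀ χ : IrrCharacter G, χ = S ∨ χ = T → charDegree (χ : G → ℂ) = 11 := by
    rintro _ (rfl | rfl)
    exacts [l.dS, l.dT]
  obtain ⟨ψ, hψ, h1⟩ := h.sym k l hχ
  obtain ⟨m, h2, h3, -⟩ := CT.invol_val (np hG) (ne_of_deg (hd χ hχ) deg_irrOne (by norm_num)) hu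
  obtain ⟨n, h4, h5, h6⟩ := CT.invol_val (np hG) (ne_of_deg (hd ψ hψ) deg_irrOne (by norm_num)) hu
  have h7 : (B : G → ℂ) u = 6 := by
    rcases l.invol u hu with h7 | h7
    · rw [← B.isClassFunction.eq_of_isConj h7, k.Bz]
    · have := h.inv u hu
      rw [h.hb, show b u = 6 by omega]
      simp
  have h8 := h1 u
  rw [h2, h4, h7, ← hu, pow_orderOf_eq_one, hu, apply_one_of_deg (hd χ hχ)] at h8
  have h9 : m ^ 2 + 11 = 2 * (1 + 6 + n) := by exact_mod_cast h8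
  rw [hd _ hχ] at h3
  rw [abs_lt] at h6
  rw [hd _ hψ] at h5 h6
  have : m < 5 := lt_of_pow_lt_pow_left₀ 2 (by norm_num) (by omega)
  exact ⟨m, by omega, h2⟩

theorem St1.exists_four (hG : Nat.card G = 95040) (h : St1 x A B Γ D θ θ' a b c d)
    (k : St2 x y z A B Γ D θ θ' E F K S T s t)
    (l : St3 z [irrOne G, A, B, Γ, D, θ, θ', E, F, K, S, T] S T s t) :
    ∃ f ∈ N y, orderOf f = 4 ∧ (∀ r ∈ P f, r ∈ C y → r = 1) ∧ ∃ χ : IrrCharacter G,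
      (χ = S ∨ χ = T) ∧ (χ : G → ℂ) f = (3 : ℤ) ∧ (χ : G → ℂ) (f ^ 2) = (3 : ℤ) := by
  have := Fintype.ofFinite G
  have hs := setup5 hG k.hy
  have hper := CT.commutator_eq_top (np hG)
  obtain ⟨g, hg, h1⟩ := hs.exists_gen k.hN
  have hf : g ^ 5 ∈ N y := pow_mem hg 5
  have h2 : ∀ n, (g ^ 5) ^ n ∈ C y ↔ 4 ∣ n := fun n => by rw [← pow_mul, h1]; omega
  have h3 : (g ^ 5) ^ 8 = 1 := by
    rw [← pow_mul, ← orderOf_dvd_iff_pow_eq_one]
    simpa [k.hN, k.hC] using (N y).orderOf_dvd_natCard hg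
  generalize g ^ 5 = f at hf h2 h3
  have h4 : f ^ 4 = 1 := by
    by_contra h4
    refine l.nosq (f ^ 2) ?_
    rw [← pow_mul, hs.invol_eq (by norm_num) k.hC k.hz
      (orderOf_eq_prime (by rw [← pow_mul, h3]) h4) k.hzy ((h2 4).2 dvd_rfl)]
  have h5 : orderOf f = 4 := Nat.dvd_antisymm (orderOf_dvd_of_pow_eq_one h4)
    ((h2 _).1 (by rw [pow_orderOf_eq_one]; exact one_mem _))
  have h6 : ∀ r ∈ P f, r ∈ C y → r = 1 := fun r hr hr' => by
    obtain ⟨n, rfl⟩ := (mem_powers_iff_mem_zpowers.2 hr :)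
    exact orderOf_dvd_iff_pow_eq_one.1 (h5 ▸ (h2 n).1 hr')
  have hu := orderOf_sq_of_four h5
  obtain ⟨au, bu, cu, du⟩ : a (f ^ 2) = -3 ∧ b (f ^ 2) = 6 ∧ c (f ^ 2) = -8 ∧ d (f ^ 2) = 0 := by
    have := (l.invol _ hu).resolve_left (l.nosq f)
    have := h.inv _ hu
    omega
  have θu := h.hθ (f ^ 2) (by rw [hu]; norm_num)
  have θu' := h.hθ' (f ^ 2) (by rw [hu]; norm_num)
  rw [au, bu, cu, du] at θu θu'
  obtain ⟨m, hm, Su⟩ := h.invol_le hG k l (Or.inl rfl) hu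
  obtain ⟨n, hn, Tu⟩ := h.invol_le hG k l (Or.inr rfl) hu
  have h7 := k.rel (f ^ 2) (by rw [hu]; norm_num)
  rw [θu, θu', Su, Tu, h.hb, bu, l.hs, l.ht] at h7
  norm_cast at h7
  obtain ⟨rfl, rfl⟩ : m = 3 ∧ n = 3 := by omega
  have hfN : P f ≤ N y := Subgroup.zpowers_le.2 hf
  have hle : P (f ^ 2) ≤ P f := Subgroup.zpowers_le.2 (Subgroup.npow_mem_zpowers f 2)
  have key : ∀ {χ : IrrCharacter G} {i j : ℤ} {n : ℕ}, (χ : G → ℂ) f = i →
      (χ : G → ℂ) (f ^ 2) = j → (χ : G → ℂ) y = (1 : ℤ) → charDegree (χ : G → ℂ) = n →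
      10 * i ≤ n + 4 + 5 * j ∧ -10 * i ≤ n + 4 + 5 * j ∧ (8 : ℤ) ∣ n + j - 2 * i :=
    fun {χ i j n} hi hj hy hn => by
      have e1 := (hs.fix_sup hfN h6 χ.isCharacter).2
      have e2 := (hs.fix_sup (hle.trans hfN) (fun r hr => h6 r (hle hr)) χ.isCharacter).2
      have e3 := CT.fix_prime χ.isCharacter hy (by norm_num) k.hy
      have e4 := CT.fix_prime χ.isCharacter hj Nat.prime_two hu
      have e5 := CT.fix_four χ.isCharacter h5 hi hj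
      have e6 := CT.fix_mono χ.isCharacter (sup_le_sup_right hle (P y))
      have e7 := CT.four_modEq hper χ.isCharacter h4 hi hj
      rw [Nat.card_zpowers] at e1 e2
      rw [h5] at e1
      rw [hu] at e2
      rw [hn] at e1 e2 e3 e4 e5 e7
      simp only [P] at e1 e2 e6
      omega
  have θf := h.hθ f (by rw [h5]; norm_num)
  have θf' := h.hθ' f (by rw [h5]; norm_num)
  have h8 := key θf θu (by simp [k.θy.1]) h.dθ
  rw [show 1 + a f - b f - c f + d f = 0 by omega] at θf θf'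
  obtain ⟨m, Sf⟩ := CT.four_int hper S.isCharacter h4 (CT.real_of_fsInd l.νS f)
  obtain ⟨n, Tf⟩ := CT.four_int hper T.isCharacter h4 (CT.real_of_fsInd l.νT f)
  have h9 := key Sf Su (l.hs ▸ k.Sy.1) l.dS
  have h10 := key Tf Tu (l.ht ▸ k.Ty.1) l.dT
  refine ⟨f, hf, h5, h6, ?_⟩
  by_cases h11 : m = 3
  · exact ⟨S, Or.inl rfl, h11 ▸ Sf, Su⟩
  by_cases h12 : n = 3
  · exact ⟨T, Or.inr rfl, h12 ▸ Tf, Tu⟩
  obtain ⟨rfl, rfl⟩ : m = -1 ∧ n = -1 := by omega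
  obtain ⟨ψ, hψ, h13⟩ := h.sym k l (Or.inl rfl)
  have h14 := h13 f
  rw [← k.rel f (by rw [h5]; norm_num), θf, θf', l.hs, l.ht, show (ψ : G → ℂ) f = (-1 : ℤ) by
    rcases hψ with rfl | rfl <;> assumption, Sf, Tf, Su] at h14
  norm_num at h14

theorem St1.exists_index (hG : Nat.card G = 95040) (h : St1 x A B Γ D θ θ' a b c d)
    (k : St2 x y z A B Γ D θ θ' E F K S T s t)
    (l : St3 z [irrOne G, A, B, Γ, D, θ, θ', E, F, K, S, T] S T s t) :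
    ∃ H : Subgroup G, H.index = 12 := by
  obtain ⟨f, hf, h1, h2, χ, hχ, h3, h4⟩ := h.exists_four hG k l
  have hs := setup5 hG k.hy
  have hx := setup11 hG h.hx
  obtain ⟨hd, hy⟩ : charDegree (χ : G → ℂ) = 11 ∧ (χ : G → ℂ) y = (1 : ℤ) := by
    rcases hχ with rfl | rfl
    exacts [⟨l.dS, l.hs ▸ k.Sy.1⟩, ⟨l.dT, l.ht ▸ k.Ty.1⟩]
  obtain ⟨c1, e1⟩ := hs.fix_sup (Subgroup.zpowers_le.2 hf) h2 χ.isCharacter
  obtain ⟨c2, e2⟩ := hx.fix_sup (R := P y) (Subgroup.zpowers_le.2 k.hyx)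
    (Setup.eq_one_of_coprime (by rw [hs.card_P, h.hC]; norm_num)) χ.isCharacter
  have e3 := CT.fix_prime χ.isCharacter hy (by norm_num) k.hy
  have e4 := CT.fix_prime χ.isCharacter (m := 0) (g := x) ((CT.zero_of_defect χ.2 (a := 1) hx.prime
    hx.sq (by rw [hd, pow_one]) (by rw [h.hx])).trans (by simp)) hx.prime h.hx
  have e5 := CT.fix_four χ.isCharacter h1 h3 h4
  have e6 := CT.fix_add_le χ.isCharacter (A := P y ⊔ P x) (B := P f ⊔ P y) le_sup_left le_sup_right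
  rw [Nat.card_zpowers, h1] at c1 e1
  rw [hs.card_P] at c2 e2
  rw [hd] at e1 e2 e3 e4 e5
  set H := P y ⊔ P x ⊔ (P f ⊔ P y)
  have h5 : H ≠ ⊤ := CT.ne_top_of_fix χ.2 (ne_one_iff.1 (ne_of_deg hd deg_irrOne (by norm_num)))
    (by simp only [P] at e1 e2 e6; omega)
  obtain ⟨m, h6, h7⟩ := hx.exists_card_eq (H := H)
    (Subgroup.mem_sup_left (Subgroup.mem_sup_right (Subgroup.mem_zpowers x)))
  obtain ⟨n, h8, h9⟩ := hs.exists_card_eq (H := H)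
    (Subgroup.mem_sup_left (Subgroup.mem_sup_left (Subgroup.mem_zpowers y)))
  have h10 := Subgroup.card_dvd_of_le (inf_le_left : N x ⊓ H ≤ _)
  have h11 := Subgroup.card_dvd_of_le (le_inf (sup_le (Subgroup.zpowers_le.2 k.hyx)
    ((P_le_C x).trans (C_le_N x))) le_sup_left : P y ⊔ P x ≤ N x ⊓ H)
  have h12 := Subgroup.card_dvd_of_le (inf_le_left : N y ⊓ H ≤ _)
  have h13 := Subgroup.card_dvd_of_le (le_inf (sup_le (Subgroup.zpowers_le.2 hf)
    ((P_le_C y).trans (C_le_N y))) le_sup_right : P f ⊔ P y ≤ N y ⊓ H)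
  have h14 := H.index_mul_card
  have h15 : H.index ≠ 1 := mt Subgroup.index_eq_one.1 h5
  rw [h.hN, h.hC] at h10
  rw [k.hN, k.hC] at h12
  replace h13 : 4 * 5 ∣ _ := c1 ▸ h13
  rw [Nat.dvd_antisymm h10 (c2 ▸ h11)] at h7
  have h16 : ∀ i ∈ Sieve.divs 1728, i % 11 = 1 → i = 1 ∨ i = 12 ∨ i = 144 ∨ i = 1728 := by
    decide +kernel
  have h17 : H.index * m = 1728 := by rw [h7, hG, ← mul_assoc] at h14; omega
  have h18 : Nat.card (N y ⊓ H : Subgroup G) = 20 ∨ Nat.card (N y ⊓ H : Subgroup G) = 40 := by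
    have := Nat.le_of_dvd (by norm_num) h12
    have : 0 < Nat.card (N y ⊓ H : Subgroup G) := Nat.card_pos
    omega
  refine ⟨H, ?_⟩
  rcases h16 m (Sieve.mem_divs (by norm_num) (Dvd.intro_left _ h17)) h6 with rfl | rfl | rfl | rfl <;>
    rcases h18 with h18 | h18 <;> rw [h18] at h9 <;> omega

theorem exists_sharp (hG : Nat.card G = 95040) :
    ∃ H : Subgroup G, H.index = 12 ∧ Spor.Sharp G (G ⧸ H) 5 := by
  have := Fintype.ofFinite G
  obtain ⟨x, A, B, Γ, D, θ, θ', a, b, c, d, h⟩ := exists_st1 hG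
  obtain ⟨y, z, E, F, K, S, T, s, t, k⟩ := h.exists_st2 hG
  have l := h.st3 hG k
  obtain ⟨H, hH⟩ := h.exists_index hG k l
  obtain ⟨χ, hχ, hπ⟩ : ∃ χ : IrrCharacter G, (χ = S ∨ χ = T) ∧
      ∀ g, (fx (G ⧸ H) g : ℂ) = 1 + (χ : G → ℂ) g := by
    obtain ⟨m, -, hm⟩ := (isCharacter_permChar (G := G) (G ⧸ H)).exists_mult
    have hv : ∀ g, (fx (G ⧸ H) g : ℂ) = ∑ φ, m φ * (φ : G → ℂ) g := fun g => by
      simpa using congrFun hm g
    obtain ⟨r, h1, -, h2⟩ := h.decomp k l m (n := 12) (by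
      rw [← hv, fx_one, ← Subgroup.index, hH]) (by norm_num)
    have h3 := fx_lt (G ⧸ H) (exists_smul_ne_of_ne_top (by rintro rfl; simp at hH))
      (setup5 hG k.hy).ne_one
    obtain ⟨e0, e1, e2, e3, e4, e5⟩ : r = 0 ∧ m A = 0 ∧ m B = 0 ∧ m θ = 0 ∧ m θ' = 0 ∧ m E = 0 := by
      omega
    simp only [← hv, e1, e2, e3, e4, e5, Nat.cast_zero, zero_mul, add_zero] at h2
    obtain ⟨e6, e7, e8⟩ | ⟨e6, e7, e8⟩ | ⟨e6, e7, e8⟩ : m (irrOne G) = 1 ∧ m S = 1 ∧ m T = 0 ∨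
      m (irrOne G) = 1 ∧ m S = 0 ∧ m T = 1 ∨ m (irrOne G) = 12 ∧ m S = 0 ∧ m T = 0 := by omega
    · exact ⟨S, by simp, fun g => by rw [h2 e0, e6, e7, e8]; simp⟩
    · exact ⟨T, by simp, fun g => by rw [h2 e0, e6, e7, e8]; simp⟩
    · have h4 := h2 e0 y
      simp only [e6, e7, e8, Nat.cast_zero, zero_mul, add_zero, Nat.cast_inj] at h4
      rw [← Subgroup.index] at h3
      omega
  have hd : ∀ χ : IrrCharacter G, χ = S ∨ χ = T → charDegree (χ : G → ℂ) = 11 ∧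
      (χ : G → ℂ) y = (1 : ℤ) ∧ ∀ g, ((χ : G → ℂ) g).im = 0 := by
    rintro _ (rfl | rfl)
    exacts [⟨l.dS, l.hs ▸ k.Sy.1, CT.real_of_fsInd l.νS⟩,
      ⟨l.dT, l.ht ▸ k.Ty.1, CT.real_of_fsInd l.νT⟩]
  refine ⟨H, hH, sharp_of_fx _ (by rw [← Subgroup.index, hH, hG]; rfl) fun g hg => ?_⟩
  have key : ∀ m : ℤ, m ≤ 3 → (χ : G → ℂ) g = m → fx (G ⧸ H) g < 5 := fun m h1 h2 => by
    have : (fx (G ⧸ H) g : ℤ) = 1 + m := by exact_mod_cast h2 ▸ hπ g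
    omega
  have h1 : orderOf g ∈ Nat.primeFactors 95040 :=
    Nat.mem_primeFactors.2 ⟨hg, hG ▸ orderOf_dvd_natCard g, by norm_num⟩
  rw [show Nat.primeFactors 95040 = {2, 3, 5, 11} by simp [Nat.primeFactors]] at h1
  simp only [mem_insert, mem_singleton] at h1
  rcases h1 with h1 | h1 | h1 | h1
  · obtain ⟨m, h2, h3⟩ := h.invol_le hG k l hχ h1
    exact key m h2 h3
  · obtain ⟨ψ, hψ, h2⟩ := h.sym k l hχ
    have h3 : g ^ 3 = 1 := by rw [← h1, pow_orderOf_eq_one]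
    obtain ⟨m, -, h4⟩ := CT.exists_cube χ.isCharacter h3 (Complex.conj_eq_iff_im.2 ((hd χ hχ).2.2 g))
    obtain ⟨n, -, h5⟩ := CT.exists_cube ψ.isCharacter h3 (Complex.conj_eq_iff_im.2 ((hd ψ hψ).2.2 g))
    rw [(hd χ hχ).1] at h4
    rw [(hd ψ hψ).1] at h5
    have h6 : (χ : G → ℂ) g = (11 - 3 * m : ℤ) := by simp [h4]
    have h7 := h2 g
    rw [CT.apply_pow_of_int χ.isCharacter h6 (by rw [h1]; norm_num), h6, h5,
      CT.zero_of_defect B.2 (a := 3) Nat.prime_three (by rw [hG]; norm_num)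
        (by rw [h.dB]; norm_num) (by rw [h1])] at h7
    have h8 : (11 - 3 * m : ℤ) ^ 2 + (11 - 3 * m) = 2 * (1 + 0 + (11 - 3 * n)) := by
      exact_mod_cast h7
    refine key _ ?_ h6
    by_contra h9
    have : m ≤ 2 := by omega
    interval_cases m <;> omega
  · obtain ⟨w, h2, h3, h4⟩ := (setup5 hG k.hy).exists_isConj h1
    refine key 1 (by norm_num) ?_
    rw [← χ.isClassFunction.eq_of_isConj h4]
    exact CT.apply_of_mem_zpowers χ.isCharacter (hd χ hχ).2.1 (by rw [k.hy]; norm_num) h2 h3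
  · exact key 0 (by norm_num) ((CT.zero_of_defect χ.2 (a := 1) (by norm_num) (setup11 hG h1).sq
      (by rw [(hd χ hχ).1, pow_one]) (by rw [h1])).trans (by simp))

end Cfsg.Agent.Inv.M12
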