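import Mathlib
import Cfsg.Agent.Inv.PrimeSylow
import Cfsg.Agent.Inv.Counting

/-!
Counting elements of prime order `p` when `p` divides the group order exactly once.
-/

set_option autoImplicit false

namespace Cfsg.Agent.Inv.Nse

open Cfsg.Agent.Inv.PS

variable {G : Type*} [Group G] [Finite G] {p : ℕ} [hp : Fact p.Prime]

theorem card_orderOf_prime (h1 : p ∣ Nat.card G) (h2 : ¬ p ^ 2 ∣ Nat.card G) :
    Nat.card {g : G // orderOf g = p} = Nat.card (Sylow p G) * (p - 1) := by
  classical
  have := Fintype.ofFinite (Sylow p G)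
  obtain ⟨x, hx⟩ := exists_prime_orderOf_dvd_card' (G := G) p h1
  choose f hf using fun g : {g : G // orderOf g = p} => exists_sylow_eq h2 g.2
  rw [card_eq_sum_card_fiber f, Finset.sum_const_nat (m := p - 1), Finset.card_univ,
    Nat.card_eq_fintype_card]
  intro P _
  obtain ⟨Q, hQ⟩ := exists_sylow_eq h2 hx
  have hP : Nat.card P = p := by
    rw [Nat.card_congr (P.equiv Q).toEquiv, hQ, Nat.card_zpowers, hx]
  have hc := isCyclic_of_prime_card hP
  have := Fintype.ofFinite P
  rw [← Nat.totient_prime hp.out, ← hc.card_orderOf_eq_totient (d := p)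
    (by rw [← Nat.card_eq_fintype_card, hP]), ← Fintype.card_subtype, ← Nat.card_eq_fintype_card]
  refine Nat.card_congr ⟨fun g => ⟨⟨g.1.1, ((hf _).symm.trans
    (congrArg _ g.2)).le (Subgroup.mem_zpowers _)⟩,
    (Subgroup.orderOf_mk _ _).trans g.1.2⟩, fun g => ⟨⟨g.1.1, (Subgroup.orderOf_coe _).trans g.2⟩,
      Sylow.ext ((hf _).trans
        (sylow_eq_of_mem h2 ((Subgroup.orderOf_coe _).trans g.2) P g.1.2).symm)⟩,
    fun _ => rfl, fun _ => rfl⟩

/-- The order of the normaliser of a subgroup of order `p` from the list of possible counts. -/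
theorem card_normalizer_of_nse {n m : ℕ} (hG : Nat.card G = n) (h2 : ¬ p ^ 2 ∣ n) {L : List ℕ}
    (hL : {c : ℕ | 0 < c ∧ ∃ n : ℕ, c = Nat.card {g : G // orderOf g = n}} = {c | c ∈ L})
    (h : ∀ c ∈ L, (p - 1) ∣ c → c / (p - 1) % p = 1 → c / (p - 1) ∣ n → c / (p - 1) * m = n)
    {x : G} (hx : orderOf x = p) :
    Nat.card (Subgroup.normalizer (Subgroup.zpowers x : Set G)) = m := by
  subst hG
  have h1 := card_orderOf_prime (hx ▸ orderOf_dvd_natCard x) h2
  have h0 : 0 < p - 1 := by have := hp.out.one_lt; omega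
  have h3 := (Subgroup.normalizer (Subgroup.zpowers x : Set G)).index_mul_card
  rw [← card_sylow_eq h2 hx] at h3
  have h4 := h _ ((Set.ext_iff.1 hL _).1 ⟨by rw [h1]; exact Nat.mul_pos Nat.card_pos h0, p, rfl⟩)
  rw [h1, Nat.mul_div_cancel _ h0] at h4
  exact Nat.eq_of_mul_eq_mul_left Nat.card_pos (h3.trans (h4 (Dvd.intro_left _ rfl)
    (Eq.trans (card_sylow_modEq_one p G) (Nat.mod_eq_of_lt hp.out.one_lt)) (Dvd.intro _ h3)).symm)

omit hp in
/-- An element whose order is a multiple of `p` lies in the normaliser of a subgroup of order `p`. -/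
theorem orderOf_dvd_of_normalizer {m : ℕ} (h : ∀ x : G, orderOf x = p →
    Nat.card (Subgroup.normalizer (Subgroup.zpowers x : Set G)) = m) {g : G}
    (hg : p ∣ orderOf g) : orderOf g ∣ m := by
  rw [← h _ (orderOf_pow_orderOf_div (orderOf_pos g).ne' hg)]
  refine Subgroup.orderOf_dvd_natCard _ (Subgroup.centralizer_le_normalizer _ ?_)
  rw [centralizer_zpowers, Subgroup.mem_centralizer_singleton_iff]
  exact (Commute.self_pow g _).eq

end Cfsg.Agent.Inv.Nse
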