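import Mathlib
import Cfsg.Agent.Inv.NseTools
import Cfsg.Agent.Inv.SylowNumber

/-!
Simplicity from the order of a Sylow normalizer.
-/

set_option autoImplicit false

namespace Cfsg.Agent.Inv.Nse

theorem simple_of_normalizer {G : Type*} [Group G] [Finite G] {p r n : ℕ} [hp : Fact p.Prime]
    (hr : r.Prime) (hG : Nat.card G = n * (r * p)) (hn : n ≠ 1) (h2 : ¬ p ^ 2 ∣ n * (r * p))
    (hq : SN.NoPow p (n * (r * p))) (h : ∀ x : G, orderOf x = p →
      Nat.card (Subgroup.normalizer (Subgroup.zpowers x : Set G)) = r * p) : IsSimpleGroup G := by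
  by_contra hs
  refine SN.card_sylow_mem h2 hq {k | k ≠ n} hn.symm (fun S _ _ _ h1 h3 h4 h5 h6 => ?_) _ G hG
    dvd_rfl (fun _ => hs) ?_
  · obtain ⟨x, hx⟩ := exists_prime_orderOf_dvd_card' (G := S) p h3
    obtain ⟨k, e, v, h7, -, -, h8, -, h9, -, h10⟩ := PS.prime_data h1 (mt (·.trans h4) h2) hx
    obtain rfl : k = n := h7.symm.trans h6
    rw [← h8, ← mul_assoc e] at h4 h5
    rw [Nat.mul_dvd_mul_iff_left (by omega), Nat.mul_dvd_mul_iff_right hp.out.pos,
      Nat.dvd_prime hr] at h4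
    rcases h4 with h4 | h4
    · rw [mul_eq_one] at h4; omega
    · exact h5 (h4 ▸ rfl)
  · obtain ⟨x, hx⟩ := exists_prime_orderOf_dvd_card' (G := G) p
      (hG ▸ (dvd_mul_left p r).mul_left n)
    have h3 := (Subgroup.normalizer (Subgroup.zpowers x : Set G)).index_mul_card
    rw [← PS.card_sylow_eq (hG ▸ h2) hx, h x hx, hG] at h3
    exact Nat.eq_of_mul_eq_mul_right (Nat.mul_pos hr.pos hp.out.pos) h3

end Cfsg.Agent.Inv.Nse
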