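import Mathlib
import Cfsg.Agent.Inv.M23A
import Cfsg.Agent.Inv.M22B
import Cfsg.Agent.Inv.NseTools2
import Cfsg.Agent.S0409
import Cfsg.Agent.S0413

/-!
Simple groups of order 10200960: the action on 23 points.
-/

set_option autoImplicit false

namespace Cfsg.Agent.Inv

open Finset Cfsg.Agent.Ch Cfsg.Agent.Inv.PB Cfsg.Agent.Inv.M11 Cfsg.Agent.Inv.PS MulAction
  Cfsg.Agent.Inv.Srch SubMulAction

variable {G : Type*} [Group G]

namespace FixSt

/-- The hypotheses on the action that produce a Steiner system. -/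
def Good (G Ω : Type*) [Group G] [MulAction G Ω] (t : ℕ) : Prop :=
  IsMultiplyPretransitive G Ω t ∧ (∀ u : G, orderOf u = 2 → t ≤ fx Ω u → fx Ω u = t + 3) ∧
    ∀ w : G, orderOf w = 4 → fx Ω w < t

theorem fx_stab {Ω : Type*} [Finite Ω] [MulAction G Ω] {a : Ω} (g : stabilizer G a) :
    fx Ω (g : G) = fx (ofStabilizer G a) g + 1 := by
  have h : fixedBy Ω (g : G) = insert a (Subtype.val '' fixedBy (ofStabilizer G a) g) := by
    ext b
    by_cases hb : b = a
    · exact iff_of_true (hb ▸ g.2) (.inl hb)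
    · simp only [mem_fixedBy, Set.mem_insert_iff, hb, Set.mem_image, false_or]
      exact ⟨fun h => ⟨⟨b, hb⟩, Subtype.ext h, rfl⟩, fun ⟨c, h, hc⟩ => hc ▸ congrArg Subtype.val h⟩
  rw [fx, fx, Nat.card_coe_set_eq, Nat.card_coe_set_eq, h,
    Set.ncard_insert_of_notMem (notMem_val_image G _),
    Set.ncard_image_of_injective _ Subtype.val_injective]

theorem Good.step {Ω : Type*} [Finite Ω] [MulAction G Ω] [IsPretransitive G Ω] [Nonempty Ω] {t : ℕ}
    (h : ∀ a : Ω, Good (stabilizer G a) (ofStabilizer G a) t) : Good G Ω (t + 1) := by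
  have h1 : ∀ g : G, 0 < fx Ω g → ∃ (a : Ω) (k : stabilizer G a), g = k := fun g hg => by
    obtain ⟨a, ha⟩ := (Nat.card_pos_iff.1 hg).1
    exact ⟨a, ⟨g, ha⟩, rfl⟩
  refine ⟨ofStabilizer.isMultiplyPretransitive.2 (h (Classical.arbitrary Ω)).1,
    fun u hu h2 => ?_, fun w hw => lt_of_not_ge fun h2 => ?_⟩
  · obtain ⟨a, k, rfl⟩ := h1 u (by omega)
    rw [fx_stab] at h2 ⊢
    rw [(h a).2.1 k ((Subgroup.orderOf_coe k).symm.trans hu) (by omega)]
  · obtain ⟨a, k, rfl⟩ := h1 w (by omega)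
    have := (h a).2.2 k ((Subgroup.orderOf_coe k).symm.trans hw)
    rw [fx_stab] at h2
    omega

theorem simple_sub [Finite G] {p r n : ℕ} [hp : Fact p.Prime] (hr : r.Prime) {H : Subgroup G}
    (hH : Nat.card H = n * (r * p)) (hn : n ≠ 1) (h2 : ¬ p ^ 2 ∣ n * (r * p))
    (hq : SN.NoPow p (n * (r * p))) (h3 : n * r % p ≠ 1 % p)
    (h : ∀ x : G, orderOf x = p → Nat.card (N x) = r * p) : IsSimpleGroup H := by
  refine Nse.simple_of_normalizer hr hH hn h2 hq fun y hy => ?_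
  have h4 := index_normalizer_modEq (hH ▸ h2) hy
  have h5 := (Subgroup.normalizer (Subgroup.zpowers y : Set H)).card_mul_index
  have h6 : Nat.card (Subgroup.normalizer (Subgroup.zpowers y : Set H)) ∣ r * p := by
    rw [← h y ((Subgroup.orderOf_coe y).trans hy),
      ← Subgroup.card_map_of_injective H.subtype_injective]
    exact Subgroup.card_dvd_of_le ((Subgroup.le_normalizer_map _).trans
      (by rw [MonoidHom.map_zpowers]; rfl))
  obtain ⟨k, hk⟩ : p ∣ Nat.card (Subgroup.normalizer (Subgroup.zpowers y : Set H)) :=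
    hy ▸ Subgroup.orderOf_dvd_natCard _ (Subgroup.le_normalizer (Subgroup.mem_zpowers y))
  rw [hk, mul_comm] at h5 h6 ⊢
  rcases (Nat.dvd_prime hr).1 (Nat.dvd_of_mul_dvd_mul_right hp.out.pos h6) with rfl | rfl
  · rw [hH, mul_one, ← mul_assoc] at h5
    exact absurd (Nat.eq_of_mul_eq_mul_right hp.out.pos h5 ▸ h4) h3
  · rfl

theorem stab_move [IsSimpleGroup G] {Ω : Type*} [Finite Ω] [MulAction G Ω]
    (h : ∃ (g : G) (x : Ω), g • x ≠ x) (a : Ω) [Nontrivial (stabilizer G a)] :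
    ∃ (g : stabilizer G a) (x : ofStabilizer G a), g • x ≠ x := by
  obtain ⟨g, hg⟩ := exists_ne (1 : stabilizer G a)
  by_contra! h1
  have h2 := fx_lt Ω h (g := g) (by simpa using hg)
  rw [fx_stab, fx, show fixedBy (ofStabilizer G a) g = Set.univ from
    Set.eq_univ_of_forall (h1 g), Nat.card_univ, nat_card_ofStabilizer_add_one_eq] at h2
  exact h2.ne rfl

/-- Groups with a good action and the order of the automorphism group are isomorphic. -/
theorem iso_of {t : ℕ} (h0 : t ≠ 0) {G' : Type*} [Group G'] [Finite G] [Finite G']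
    [IsSimpleGroup G] [IsSimpleGroup G'] (hG : Nat.card G = 48 * (19 + t).descFactorial t)
    (hG' : Nat.card G' = Nat.card G) {Ω Ω' : Type*} [MulAction G Ω] [MulAction G' Ω'] [Fintype Ω]
    [Fintype Ω'] [DecidableEq Ω] [DecidableEq Ω'] (hΩ : Fintype.card Ω = 19 + t)
    (hΩ' : Fintype.card Ω' = 19 + t) (h : Good G Ω t) (h' : Good G' Ω' t)
    (h1 : ∀ B : Set (Finset Ω), IsSteinerSystem t (t + 3) B →
      Nat.card (setSystemAut B) = Nat.card G ∧ (∀ B' : Set (Finset Ω),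
      IsSteinerSystem t (t + 3) B' → SetSystemIso B' B) ∧ ∀ B' : Set (Finset Ω'),
      IsSteinerSystem t (t + 3) B' → SetSystemIso B' B) : Nonempty (G ≃* G') := by
  obtain ⟨B, hB, -⟩ := steiner hΩ hG h.1 h.2.1 h.2.2
  obtain ⟨h2, h3, h4⟩ := h1 B hB
  obtain ⟨f, hf⟩ := exists_inj hΩ hG h.1 h.2.1 h.2.2 h0 h3
  obtain ⟨f', hf'⟩ := exists_inj hΩ' (hG'.trans hG) h'.1 h'.2.1 h'.2.2 h0 h4
  exact ⟨(MulEquiv.ofBijective f ((Nat.bijective_iff_injective_and_card f).2 ⟨hf, h2.symm⟩)).trans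
    (MulEquiv.ofBijective f' ((Nat.bijective_iff_injective_and_card f').2
      ⟨hf', hG'.trans h2.symm⟩)).symm⟩

end FixSt

namespace M23

theorem arith_alt {o a b g h : ℕ} (h1 : (231 : ℤ) = o + 22 * a + 45 * b + 230 * g + 231 * h)
    (h2 : (1 : ℤ) = o - a - b + h) (h3 : (0 : ℤ) = o + b - g) :
    a = 0 ∧ b = 0 ∧ (o = 1 ∧ g = 1 ∧ h = 0 ∨ o = 0 ∧ g = 0 ∧ h = 1) := by omega

theorem arith_sym {o a b g h : ℕ} (h0 : o ≠ 0)
    (h1 : (253 : ℤ) = o + 22 * a + 45 * b + 230 * g + 231 * h)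
    (h2 : (0 : ℤ) = o - a - b + h) (h3 : (0 : ℤ) = o + b - g) : o = 1 ∧ a = 1 := by omega

variable [IsSimpleGroup G] (hG : Nat.card G = 10200960)
include hG

set_option maxHeartbeats 1600000 in
theorem exists_chars [Fintype G] : ∃ A H : IrrCharacter G, charDegree (A : G → ℂ) = 22 ∧
    charDegree (H : G → ℂ) = 231 ∧ fsInd (A : G → ℂ) = 1 ∧
    classInner (fun g => (A : G → ℂ) g ^ 2) A ≠ 0 ∧
    ∀ g, (A : G → ℂ) g ^ 2 - (A : G → ℂ) (g ^ 2) = 2 * (H : G → ℂ) g := by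
  classical
  obtain ⟨⟨X⟩, ⟨Y⟩, ⟨Z⟩⟩ := exists_BD3 hG
  obtain ⟨A, B, B', H, H', H'', T, T', N, N', hX, hA, hB, hB', hH, hH', hH'', hT, hT', hN, hN'⟩ :
      ∃ A B B' H H' H'' T T' N N', X.L = [A, B, B', H, H', H'', T, T', N, N'] ∧ sd X.δ A = -22 ∧
      sd X.δ B = -45 ∧ sd X.δ B' = -45 ∧ sd X.δ H = 231 ∧ sd X.δ H' = 231 ∧ sd X.δ H'' = 231 ∧
      sd X.δ T = -896 ∧ sd X.δ T' = -896 ∧ sd X.δ N = 990 ∧ sd X.δ N' = 990 := by
    have h := X.hl
    simp only [List.map_eq_cons_iff, List.map_eq_nil_iff] at h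
    obtain ⟨_, _, h, h0, _, _, rfl, h1, _, _, rfl, h2, _, _, rfl, h3, _, _, rfl, h4, _, _, rfl, h5,
      _, _, rfl, h6, _, _, rfl, h7, _, _, rfl, h8, _, _, rfl, h9, rfl⟩ := h
    exact ⟨_, _, _, _, _, _, _, _, _, _, h, h0, h1, h2, h3, h4, h5, h6, h7, h8, h9⟩
  obtain ⟨E, E', Γ, K, hY, hE, hE', hΓ, hK⟩ : ∃ E E' Γ K, Y.L = [E, E', Γ, K] ∧ sd Y.δ E = 45 ∧
      sd Y.δ E' = 45 ∧ sd Y.δ Γ = -230 ∧ sd Y.δ K = 1035 := by
    have h := Y.hl
    simp only [List.map_eq_cons_iff, List.map_eq_nil_iff] at h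
    obtain ⟨_, _, h, h0, _, _, rfl, h1, _, _, rfl, h2, _, _, rfl, h3, rfl⟩ := h
    exact ⟨_, _, _, _, h, h0, h1, h2, h3⟩
  obtain ⟨δA, dA, sA⟩ := X.of_neg (by simp [hX]) 22 hA
  obtain ⟨δB, dB, -⟩ := X.of_neg (by simp [hX]) 45 hB
  obtain ⟨δB', dB', -⟩ := X.of_neg (by simp [hX]) 45 hB'
  obtain ⟨δH, dH, -⟩ := X.of_pos (by simp [hX]) 231 hH
  obtain ⟨δH', dH', -⟩ := X.of_pos (by simp [hX]) 231 hH'
  obtain ⟨δH'', dH'', -⟩ := X.of_pos (by simp [hX]) 231 hH''
  obtain ⟨-, dT, -⟩ := X.of_neg (by simp [hX]) 896 hT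
  obtain ⟨-, dT', -⟩ := X.of_neg (by simp [hX]) 896 hT'
  obtain ⟨-, dN, -⟩ := X.of_pos (by simp [hX]) 990 hN
  obtain ⟨-, dN', -⟩ := X.of_pos (by simp [hX]) 990 hN'
  obtain ⟨δE, dE, -⟩ := Y.of_pos (by simp [hY]) 45 hE
  obtain ⟨δE', dE', -⟩ := Y.of_pos (by simp [hY]) 45 hE'
  obtain ⟨δΓ, dΓ, -⟩ := Y.of_neg (by simp [hY]) 230 hΓ
  obtain ⟨-, dK, -⟩ := Y.of_pos (by simp [hY]) 1035 hK
  have d1 := @deg_irrOne G _
  have hn := X.lst.nodup
  have hn' := Y.lst.nodup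
  simp only [hX, hY, List.nodup_cons, List.mem_cons, not_or] at hn hn'
  have mX : ∀ χ : IrrCharacter G, charDegree (χ : G → ℂ) < 253 → 23 ∣ charDegree (χ : G → ℂ) ∨
      χ = irrOne G ∨ χ = A ∨ χ = B ∨ χ = B' ∨ χ = H ∨ χ = H' ∨ χ = H'' := fun χ h => by
    rcases X.cases χ with h1 | h1 | h1 | h1
    · exact .inl h1
    · exact .inr (.inl h1)
    · have : _ = 770 := X.deg_Y h1
      omega
    · simp only [hX, List.mem_cons, List.not_mem_nil, or_false] at h1
      rcases h1 with rfl | rfl | rfl | rfl | rfl | rfl | rfl | rfl | rfl | rfl <;>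
        first | omega | simp
  have mY : ∀ χ : IrrCharacter G, charDegree (χ : G → ℂ) < 253 → 23 ∣ charDegree (χ : G → ℂ) →
      χ = Γ := fun χ h h0 => by
    have := χ.2.charDegree_pos
    rcases Y.cases χ with h1 | rfl | h1 | h1
    · omega
    · omega
    · have : _ = 896 := Y.deg_Y h1
      omega
    · simp only [hY, List.mem_cons, List.not_mem_nil, or_false] at h1
      rcases h1 with rfl | rfl | rfl | rfl <;> first | rfl | omega
  have hall : ∀ χ : IrrCharacter G, charDegree (χ : G → ℂ) < 253 →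
      χ ∈ [irrOne G, A, B, B', Γ, H, H', H''] := fun χ h => by
    have := mX χ h
    have := mY χ h
    simp only [List.mem_cons, List.not_mem_nil, or_false]
    tauto
  have h45 : ∀ χ : IrrCharacter G, charDegree (χ : G → ℂ) = 45 → χ = B ∨ χ = B' := fun χ h => by
    rcases mX χ (by omega) with h1 | rfl | rfl | rfl | rfl | rfl | rfl | rfl <;>
      first | omega | simp
  have hEE : ∀ m : IrrCharacter G → ℕ, m E + m E' = m B + m B' := fun m => by
    rcases h45 E dE with rfl | rfl <;> rcases h45 E' dE' with rfl | rfl <;>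
      first | omega | exact absurd rfl hn'.2.1.1
  obtain ⟨a, ha⟩ := int_of_deg (χ := A) fun ψ h => by
    rcases mX ψ (by omega) with h1 | rfl | rfl | rfl | rfl | rfl | rfl | rfl <;> first | rfl | omega
  obtain ⟨R, hR, hsum⟩ := exists_rest (L := [irrOne G, A, B, B', Γ, H, H', H''])
    (nodup_of_deg (by simp [dA, dB, dB', dΓ, dH, dH', dH'', hn]))
  have a1 : a 1 = 22 := by exact_mod_cast (ha 1).symm.trans (apply_one_of_deg dA)
  have a23 : ∀ y, orderOf y = 23 → a y = -1 := fun y hy => by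
    exact_mod_cast (ha y).symm.trans (sA y hy.symm.dvd)
  have a11 : ∀ y, orderOf y = 11 → a y = 0 := fun y hy => by
    exact_mod_cast (ha y).symm.trans (CT.zero_of_defect A.2 (a := 1) (p := 11) (by norm_num)
      (by rw [hG]; norm_num) (by rw [dA]; norm_num) hy.symm.dvd)
  have hp : ∀ {p : ℕ} {y : G}, orderOf y = p → p.Coprime 2 → orderOf (y ^ 2) = p := fun h h' =>
    (Nat.Coprime.orderOf_pow (h ▸ h')).trans h
  have key : ∀ (m : IrrCharacter G → ℕ) (n s : ℤ), ∑ φ, m φ * (φ : G → ℂ) 1 = n →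
      n < 253 + m (irrOne G) → (∀ y : G, orderOf y = 23 → ∑ φ, m φ * (φ : G → ℂ) y = s) →
      (∀ y : G, orderOf y = 11 → ∑ φ, m φ * (φ : G → ℂ) y = (0 : ℤ)) →
      (∀ g, ∑ φ, m φ * (φ : G → ℂ) g = ([irrOne G, A, B, B', Γ, H, H', H''].map
        fun φ : IrrCharacter G => m φ * (φ : G → ℂ) g).sum) ∧
      n = m (irrOne G) + 22 * m A + 45 * (m B + m B' : ℕ) + 230 * m Γ +
        231 * (m H + m H' + m H'' : ℕ) ∧
      s = m (irrOne G) - m A - (m B + m B' : ℕ) + (m H + m H' + m H'' : ℕ) ∧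
      (0 : ℤ) = m (irrOne G) + (m B + m B' : ℕ) - m Γ := fun m n s h1 h2 h3 h4 => by
    simp only [dg_spec] at h1
    norm_cast at h1
    have h5 : ∀ φ : IrrCharacter G, 253 ≤ charDegree (φ : G → ℂ) → m φ = 0 := fun φ hφ => by
      have h6 := sum_le_univ_sum_of_nonneg (s := {irrOne G, φ}) (f := fun φ => m φ * dg φ)
        fun φ => by rw [dg]; positivity
      rw [sum_pair (by rintro rfl; omega), h1, dg, dg, d1] at h6
      by_contra h7
      have := Nat.mul_le_mul (Nat.pos_of_ne_zero h7) hφ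
      omega
    have h6 : ∀ φ ∈ R, m φ = 0 := fun φ hφ =>
      h5 φ (not_lt.1 fun h => (hR φ).1 hφ (hall φ h))
    have h7 := X.tau_eq m h3
    have h8 := Y.tau_eq m h4
    have h9 := hEE m
    rw [sum_eq_zero fun θ hθ => by rw [h5 θ (by rw [X.deg_Y hθ]; norm_num), Nat.cast_zero]] at h7
    rw [sum_eq_zero fun θ hθ => by rw [h5 θ (by rw [Y.deg_Y hθ]; norm_num), Nat.cast_zero]] at h8
    rw [hsum, sum_eq_zero fun φ hφ => by rw [h6 φ hφ, Nat.cast_zero, zero_mul]] at h1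
    simp only [hX, hY, List.map_cons, List.map_nil, List.sum_cons, List.sum_nil, δA, δB, δB', δH,
      δH', δH'', δE, δE', δΓ, h5 T (by omega), h5 T' (by omega), h5 N (by omega), h5 N' (by omega),
      h5 K (by omega), dg, d1, dA, dB, dB', dΓ, dH, dH', dH'', Nat.cast_zero, mul_zero] at h1 h7 h8
    exact ⟨fun g => by rw [hsum, sum_eq_zero fun φ hφ => by rw [h6 φ hφ, Nat.cast_zero, zero_mul],
      add_zero], by omega, by omega, by omega⟩
  obtain ⟨m, n, h1, h2, h3, h4, -, h6⟩ := CT.exists_sq ha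
  obtain ⟨n0, n1, n2, n3⟩ := key n 231 1 (h4 1 231 (by simp [a1])) (by omega)
    (fun y hy => h4 y 1 (by simp [a23 y hy, a23 _ (hp hy (by norm_num))]))
    fun y hy => h4 y 0 (by simp [a11 y hy, a11 _ (hp hy (by norm_num))])
  obtain ⟨e1, e2, e0⟩ := arith_alt n1 n2 n3
  simp only [n0, List.map_cons, List.map_nil, List.sum_cons, List.sum_nil, e1,
    show n B = 0 by omega, show n B' = 0 by omega] at h6
  obtain ⟨e3, e4, e5⟩ := e0.resolve_left fun ⟨e3, e4, e5⟩ => by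
    obtain ⟨u, hu, h7⟩ := exists_cen hG (by norm_num)
    have hu2 : u ^ 2 = 1 := by rw [← hu, pow_orderOf_eq_one]
    obtain ⟨v, hv⟩ := CT.exists_col_invol (u := u) (by rw [← pow_two, hu2])
    have h8 := List.all_eq_true.1 s2 _ (Sieve.mem_divs (hG ▸ Nat.card_pos) (hG ▸ card_C_dvd u))
    rw [h7, n11 hG hu dvd_rfl, n23 hG hu dvd_rfl, Z.anyC hG (by norm_num) (by norm_num)
      (by norm_num) hu hv (fun _ _ => rfl) rfl] at h8
    refine Bool.false_ne_true (Y.colR hG (by norm_num) (by norm_num) hu rfl hv (fun χ _ => ?_) h8)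
    simp only [Bool.or_eq_true, Bool.not_eq_true', ← Bool.not_eq_true, Nat.beq_eq,
      List.any_eq_true, List.mem_range, beq_iff_eq]
    refine or_iff_not_imp_left.2 fun h9 => ?_
    obtain rfl := mY χ (by omega) (by omega)
    have h10 := h6 u
    have h11 := CT.abs_lt_deg (by rw [hG]; norm_num) (ne_of_deg dA d1 (by norm_num))
      (CT.ne_one_of_orderOf hu (by norm_num)) (ha u)
    simp only [e3, e4, show n H = 0 by omega, show n H' = 0 by omega, show n H'' = 0 by omega, hu2,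
      a1, irrOne_apply, hv χ] at h10
    have h12 : 2 * (1 + v χ) = a u ^ 2 - 22 := by
      apply Int.cast_injective (α := ℂ)
      simpa using h10
    rw [abs_lt] at h11
    exact ⟨(a u).natAbs, by omega, by rw [Int.natAbs_mul_self', ← pow_two]; omega⟩
  have h7 : m (irrOne G) ≠ 0 := fun h => (fsInd_ne_zero_iff A.2).2 (fun g => by simp [ha])
    (by simp [h1, h, e3])
  obtain ⟨-, m1, m2, m3⟩ := key m 253 0 (h3 1 253 (by simp [a1])) (by omega)
    (fun y hy => h3 y 0 (by simp [a23 y hy, a23 _ (hp hy (by norm_num))]))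
    fun y hy => h3 y 0 (by simp [a11 y hy, a11 _ (hp hy (by norm_num))])
  obtain ⟨f1, f2⟩ := arith_sym h7 m1 m2 m3
  have h8 : ∃ ψ : IrrCharacter G, charDegree (ψ : G → ℂ) = 231 ∧
      ∀ g, (a g ^ 2 - a (g ^ 2) : ℤ) = 2 * (ψ : G → ℂ) g := by
    rcases (show n H = 1 ∧ n H' = 0 ∧ n H'' = 0 ∨ n H = 0 ∧ n H' = 1 ∧ n H'' = 0 ∨
      n H = 0 ∧ n H' = 0 ∧ n H'' = 1 by omega) with h | h | h
    exacts [⟨H, dH, fun g => by simp [← h6, h, e3, e4]⟩, ⟨H', dH', fun g => by simp [← h6, h, e3, e4]⟩,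
      ⟨H'', dH'', fun g => by simp [← h6, h, e3, e4]⟩]
  obtain ⟨ψ, h8, h9⟩ := h8
  exact ⟨A, ψ, dA, h8, by simp [h1, f1, e3], by simp [h2, f2, e1],
    fun g => by rw [← h9, ha, ha]; push_cast; rfl⟩

variable [Finite G]

theorem card_eq (Ω : Type*) [Finite Ω] [MulAction G Ω] (h1 : Nat.card Ω ≤ 23)
    (h2 : ∃ (g : G) (x : Ω), g • x ≠ x) : Nat.card Ω = 23 := by
  obtain ⟨x, hx⟩ := exists_prime_orderOf_dvd_card' (G := G) 23 (hp := ⟨by norm_num⟩)
    (by rw [hG]; norm_num)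
  have h3 := fx_lt Ω h2 (CT.ne_one_of_orderOf hx (by norm_num))
  have h4 := fx_modEq Ω (by norm_num) (CT.pow_prime_eq_one hx)
  unfold Nat.ModEq at h4
  omega

theorem action (Ω : Type*) [Finite Ω] [MulAction G Ω] (h1 : Nat.card Ω ≤ 23)
    (h2 : ∃ (g : G) (x : Ω), g • x ≠ x) : FixSt.Good G Ω 4 := by
  have := Fintype.ofFinite G
  have h3 := card_eq hG Ω h1 h2
  obtain ⟨g, b, hb⟩ := id h2
  have h4 := card_eq hG (orbit G b) ((Nat.card_le_card_of_injective _ Subtype.val_injective).trans h1)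
    ⟨g, ⟨b, mem_orbit_self b⟩, fun h => hb (congrArg Subtype.val h)⟩
  have := (isPretransitive_iff_orbit_eq_univ b).2 (Set.eq_of_subset_of_ncard_le (Set.subset_univ _)
    (by rw [Set.ncard_univ, h3, ← h4]; rfl) (Set.toFinite _))
  have : Nonempty Ω := ⟨b⟩
  have h11 : Fact (Nat.Prime 11) := ⟨by norm_num⟩
  refine FixSt.Good.step fun a => ?_
  have h5 := (stabilizer G a).card_mul_index
  rw [index_stabilizer_of_transitive, h3, hG] at h5
  have h6 : Nat.card (stabilizer G a) = 443520 := by omega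
  have := FixSt.simple_sub (p := 11) (r := 5) (n := 8064) (by norm_num) h6 (by norm_num)
    (by norm_num)
    (SN.noPow_of_list (by norm_num) [2, 3, 5, 7] (by simp; norm_num) (by decide +kernel))
    (by norm_num) fun x hx => by rw [card_N hG x hx, c11 hG x hx]
  obtain ⟨-, h7, h8, h9⟩ := M22.action h6 (ofStabilizer G a)
    (by rw [nat_card_ofStabilizer_eq, h3]) (FixSt.stab_move h2 a)
  exact ⟨h7, fun u hu _ => h8 u hu, fun w hw => by rw [h9 w hw]; norm_num⟩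

theorem exists_action : ∃ U : Subgroup G, Nat.card (G ⧸ U) = 23 ∧ FixSt.Good G (G ⧸ U) 4 := by
  have := Fintype.ofFinite G
  obtain ⟨A, H, dA, dH, h1, h2, h3⟩ := exists_chars hG
  obtain ⟨U, h4, h5⟩ := Cubic.exists_index h1 (ne_of_deg dA deg_irrOne (by norm_num)) h3
    (ne_of_deg dH dA (by norm_num)) h2
  rw [dA] at h5
  exact ⟨U, card_eq hG _ h5 (exists_smul_ne_of_ne_top h4),
    action hG _ h5 (exists_smul_ne_of_ne_top h4)⟩

/-- Simple groups of order 10200960 are isomorphic. -/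
theorem iso {G' : Type*} [Group G'] [Finite G'] [IsSimpleGroup G']
    (hG' : Nat.card G' = 10200960) : Nonempty (G ≃* G') := by
  classical
  obtain ⟨U, h1, h2⟩ := exists_action hG
  obtain ⟨U', h3, h4⟩ := exists_action hG'
  have := Fintype.ofFinite (G ⧸ U)
  have := Fintype.ofFinite (G' ⧸ U')
  rw [Nat.card_eq_fintype_card] at h1 h3
  exact FixSt.iso_of (t := 4) (by norm_num) hG (hG'.trans hG.symm) h1 h3 h2 h4 fun B hB =>
    ⟨(S0413.result h1 hB).1.2.trans hG.symm, fun _ h => S0409.result h1 h1 h hB,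
      fun _ h => S0409.result h3 h1 h hB⟩

end M23

end Cfsg.Agent.Inv
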