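import Mathlib
import Cfsg.Agent.Inv.M23A
import Cfsg.Agent.Blk.BlockOrth2
import Cfsg.Agent.Blk.SecondMain
import Cfsg.Agent.Blk.PBKlein
import Cfsg.Agent.Blk.Cover
import Cfsg.Agent.Blk.OneNear
import Cfsg.Agent.Blk.CycStruct

/-!
Intersections of blocks for two primes, blocks of defect one, and searches with known members.
-/

set_option autoImplicit false

namespace Cfsg.Agent.Inv.Srch

open Cfsg.Agent.Inv.Sieve

/-- The search for the members of a principal block besides the known ones `k`. -/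
def restAll (n p e c : ℕ) (ok okY : ℤ → Bool) (k : List ℤ) (sq : ℕ)
    (fin : ℤ → List ℤ → Bool) : Bool :=
  (sdegs n (n / (c * p)) p e okY).all fun D =>
    Nat.blt n (sq + (p - 1) / e * (D.natAbs * D.natAbs)) ||
    srch (fin D) (sdegs n (n / (c * p)) p 1 ok) (e - 1 - k.length) (D - 1 - k.sum)
      (n - (sq + (p - 1) / e * (D.natAbs * D.natAbs))) k

/-- The signed sum of the degrees divisible by `q ^ (b - 1)` is divisible by `q ^ b`. -/
def btq (q b : ℕ) (D : ℤ) (l : List ℤ) : Bool :=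
  Nat.beq (((-D :: l).map fun a => bif Nat.beq (a.natAbs % q ^ (b - 1)) 0 then a else 0).sum.natAbs
    % q ^ b) 0

/-- Some sum of even entries, containing those of absolute value `f`, is divisible by `m`. -/
def ssum (m f : ℕ) : List ℤ → ℤ → Bool
  | [], s => Nat.beq (s.natAbs % m) 0
  | a :: l, s => bif Nat.beq a.natAbs f then ssum m f l (s + a)
      else ssum m f l s || (Nat.beq (a.natAbs % 2) 0 && ssum m f l (s + a))

theorem ssum_of {ι : Type*} {m f : ℕ} (d : ι → ℤ) (U : ι → Prop) [DecidablePred U] :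
    ∀ (L : List ι) (s : ℤ), (∀ i ∈ L, (d i).natAbs = f → U i) →
      (∀ i ∈ L, U i → (d i).natAbs % 2 = 0) →
      (m : ℤ) ∣ s + (L.map fun i => if U i then d i else 0).sum → ssum m f (L.map d) s = true
  | [], s, _, _, h => by
    simpa [ssum] using Nat.mod_eq_zero_of_dvd (Int.natCast_dvd.1 (by simpa using h))
  | i :: L, s, h1, h2, h => by
    have ih := fun s => ssum_of d U L s (fun j hj => h1 j (by simp [hj]))
      (fun j hj => h2 j (by simp [hj])) (m := m) (f := f)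
    rw [List.map_cons, List.sum_cons, ← add_assoc] at h
    simp only [List.map_cons, ssum]
    by_cases h3 : U i
    · rw [if_pos h3] at h
      simp [ih _ h, h2 i (by simp) h3]
    · rw [if_neg h3, add_zero] at h
      have h4 : Nat.beq (d i).natAbs f = false := by
        rw [← Bool.not_eq_true, Nat.beq_eq]
        exact fun h5 => h3 (h1 i (by simp) h5)
      simp [ih _ h, h4]

end Cfsg.Agent.Inv.Srch

namespace Cfsg.Agent.Inv.PB

open Finset Cfsg.Agent.Ch Cfsg.Agent.Inv.Srch Cfsg.Agent.Inv.Sieve Cfsg.Agent.Inv.M11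

variable {G : Type*} [Group G]

theorem Setup.exists_BD2 [Fintype G] [IsSimpleGroup G] {n p e c : ℕ} {x : G} (hs : Setup p x)
    (hn : Nat.card G = n) (hG : ¬ n.Prime) (hc : Nat.card (C x) = c * p)
    (hN : Nat.card (N x) = e * Nat.card (C x)) {ok okY : ℤ → Bool}
    (hok : ∀ X Y δ ε, Blk p e x X Y δ ε → (∀ χ ∈ X, χ ≠ irrOne G → ok (sd δ χ) = true) ∧
      ∀ θ ∈ Y, okY (ε * charDegree (θ : G → ℂ)) = true)
    {fin : ℤ → List ℤ → Bool} (ht : blkAll2 n p e c ok okY fin = true) :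
    ∃ D l, ∃ B : BD G p e c D l, B.x = x ∧ fin D l = true := by
  subst hn
  obtain ⟨X, Y, δ, ε, h, θ, hθ, hmax⟩ := hs.exists_blk_max hN
  obtain ⟨hok, hokY⟩ := hok X Y δ ε h
  have hperf := CT.commutator_eq_top hG
  have hi := index_C_eq rfl hc
  have hm : 0 < Nat.card G / (c * p) := hi ▸ Nat.pos_of_ne_zero Subgroup.index_ne_zero_of_finite
  have hC : c ≠ 1 → Nat.card (C x) ≠ p := fun h1 h2 =>
    h1 (Nat.eq_of_mul_eq_mul_right h.setup.prime.pos (by rw [← hc, h2, one_mul]))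
  have h1 := h.sum_sq_le hθ
  have h2 := h.e_pos
  have h3 : 1 ≤ ∑ χ ∈ X, charDegree (χ : G → ℂ) ^ 2 := by
    have := single_le_sum (f := fun χ : IrrCharacter G =>
      charDegree (χ : G → ℂ) ^ 2) (fun _ _ => Nat.zero_le _) h.one_mem
    rwa [M11.deg_irrOne] at this
  rw [h.card_Y', pow_two (charDegree (θ : G → ℂ))] at h1
  simp only [blkAll2, List.all_eq_true, Bool.or_eq_true, Nat.blt_eq] at ht
  have h4 := ht _ (mem_sdegs_of hperf rfl hm (h.ne_one_Y hθ) h.sign_Y (h.deg_Y θ hθ)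
    (hi ▸ h.dvd_index_Y hθ) (by
      rw [Bool.and_eq_true]
      exact ⟨stan_of h.sign_Y h2 h.e_lt fun h5 => h.stanton_Y hG (hC h5) hθ, hokY θ hθ⟩))
  rw [natAbs_sign_mul h.sign_Y] at h4
  obtain ⟨L, hL, h5⟩ := srch_lst h.one_mem h.δ_one h.sign (fun χ hχ h5 => by
      refine mem_sdegs_of hperf rfl hm h5 (h.sign χ hχ) (by simpa using h.deg χ hχ)
        (hi ▸ h.dvd_index_X hχ) ?_
      simp only [Bool.and_eq_true, Bool.or_eq_true, Bool.not_eq_true', ← Bool.not_eq_true,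
        Nat.beq_eq, Nat.ble_eq, natAbs_sign_mul (h.sign χ hχ)]
      exact ⟨stan_of (h.sign χ hχ) one_pos h.setup.prime.one_lt fun h6 => by
        simpa using h.stanton_X hG (hC h6) hχ h5,
        or_iff_not_imp_left.2 fun h6 => hmax (not_not.1 h6) χ hχ h5, hok χ hχ h5⟩)
    (by rw [h.card_X]; omega)
    (by rw [sub_add_cancel]; exact h.deg_rel hθ) (by omega) (h4.resolve_left (by omega))
  exact ⟨_, _, ⟨x, X, Y, δ, ε, θ, L, h, hc, hθ, hL, rfl, rfl⟩, rfl, h5⟩

theorem Setup.exists_BD0 [Fintype G] {p e c : ℕ} {x : G} (hs : Setup p x)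
    (hc : Nat.card (C x) = c * p) (hN : Nat.card (N x) = e * Nat.card (C x)) :
    ∃ D l, Nonempty (BD G p e c D l) := by
  obtain ⟨X, Y, δ, ε, h⟩ := hs.exists_blk hN
  obtain ⟨θ, hθ⟩ := h.Y_nonempty
  obtain ⟨L, hL, -⟩ := exists_lst h.one_mem
  exact ⟨_, _, ⟨⟨x, X, Y, δ, ε, θ, L, h, hc, hθ, hL, rfl, rfl⟩⟩⟩

/-- With full automizer any member can be taken as the exceptional character. -/
theorem Setup.exists_BD1 [Fintype G] {p e : ℕ} {x : G} (hs : Setup p x)
    (hc : Nat.card (C x) = 1 * p) (hN : Nat.card (N x) = e * Nat.card (C x)) (he : e + 1 = p)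
    {θ : IrrCharacter G} (h1 : θ ≠ irrOne G) (h2 : ¬ p ∣ charDegree (θ : G → ℂ)) :
    ∃ D l, ∃ B : BD G p e 1 D l, B.θ = θ ∧ B.Y = {θ} := by
  classical
  obtain ⟨Z, σ, h⟩ := hs.exists_blk1 hN he
  have h3 := h.toBlk hN he (h.mem_of_not_dvd (by rw [hc, one_mul]) h2) h1
  obtain ⟨L, hL, -⟩ := exists_lst h3.one_mem
  exact ⟨_, _, ⟨x, _, _, _, _, θ, L, h3, hc, by simp, hL, rfl, rfl⟩, rfl, rfl⟩

theorem sqs_dg (L : List (IrrCharacter G)) : sqs (L.map (rc dg)) =
    (L.map fun χ : IrrCharacter G => charDegree (χ : G → ℂ) * charDegree (χ : G → ℂ)).sum := by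
  simp [sqs, rc, dg, Function.comp_def]

theorem card_C_one [Finite G] : Nat.card (C (1 : G)) = Nat.card G := by
  rw [show C (1 : G) = ⊤ from eq_top_iff.2 fun g _ => by simp [mem_C], Subgroup.card_top]

namespace BD

variable [Fintype G] {p e c : ℕ} {D : ℤ} {l : List ℤ} (B : BD G p e c D l)

theorem length_L : B.L.length + 1 = e := by
  have h := B.lst.sum fun _ => (1 : ℕ)
  simp only [sum_const, smul_eq_mul, mul_one, List.map_const', List.sum_replicate] at h
  rw [add_comm, ← h, B.blk.card_X]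

theorem sum_L : 1 + (B.L.map (sd B.δ)).sum = D := by
  have h := B.blk.deg_rel B.hθ
  rw [B.lst.sum, B.blk.δ_one, deg_irrOne, B.hD, Nat.cast_one, mul_one] at h
  exact h

theorem natAbs_sd {χ : IrrCharacter G} (h : χ ∈ B.L) :
    (sd B.δ χ).natAbs = charDegree (χ : G → ℂ) :=
  natAbs_sign_mul (B.blk.sign χ (B.lst.mem_of h).1) _

theorem rest [IsSimpleGroup G] {n : ℕ} (hn : Nat.card G = n) (hG : ¬ n.Prime)
    {K E : List (IrrCharacter G)} (hK : K.Nodup) (hKL : ∀ χ ∈ K, χ ∈ B.L)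
    (hE : (B.F ++ E).Nodup) (h1 : irrOne G ∉ E) {ok okY : ℤ → Bool}
    (hok : ∀ χ ∈ B.L, χ ∉ K → ok (sd B.δ χ) = true) (hokY : okY D = true) {k : List ℤ}
    (hk : K.map (sd B.δ) = k) {sq : ℕ} (hsq : sq ≤ 1 + sqs (K.map (rc dg)) + sqs (E.map (rc dg)))
    {fin : ℤ → List ℤ → Bool} (ht : restAll n p e c ok okY k sq fin = true) :
    ∃ l', Nonempty (BD G p e c D l') ∧ fin D l' = true := by
  classical
  subst hn hk
  have h := B.blk
  have hperf := CT.commutator_eq_top hG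
  have hi := index_C_eq rfl B.hc
  have hm : 0 < Nat.card G / (c * p) := hi ▸ Nat.pos_of_ne_zero Subgroup.index_ne_zero_of_finite
  have hnd := (List.nodup_cons.1 B.lst.nodup).2
  have hp : (B.L.filter (· ∉ K) ++ K).Perm B.L := by
    refine (List.perm_ext_iff_of_nodup (List.nodup_append.2 ⟨hnd.filter _, hK, ?_⟩) hnd).2 fun χ => ?_
    · rintro χ h2 _ h3 rfl
      simp [h3] at h2
    · by_cases h2 : χ ∈ K <;> simp [h2, hKL]
  have h2 := sqs_le hE (by simp [B.one_notMem, h1]) dg_spec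
  rw [card_C_one, List.map_append, sqs_append, B.map_F h.not_dvd_one dg_spec, sqs_append,
    sqs_dg B.L, ← (hp.map _).sum_eq, List.map_append, List.sum_append, ← sqs_dg K] at h2
  have h3 : sqs (List.replicate ((p - 1) / e) (D.natAbs, dg B.θ)) =
      (p - 1) / e * (D.natAbs * D.natAbs) := by simp [sqs, dg, B.natAbs_D]
  simp only [restAll, List.all_eq_true, Bool.or_eq_true, Nat.blt_eq] at ht
  have h4 := ht D (B.hD ▸ mem_sdegs_of hperf rfl hm (h.ne_one_Y B.hθ) h.sign_Y (h.deg_Y _ B.hθ)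
    (hi ▸ h.dvd_index_Y B.hθ) (B.hD.symm ▸ hokY))
  have h5 := B.length_L
  have h6 := B.sum_L
  rw [← hp.length_eq, List.length_append] at h5
  rw [← (hp.map _).sum_eq, List.map_append, List.sum_append] at h6
  obtain ⟨L', h7, h8⟩ := srch_sound (sd B.δ) (fin := fin D)
    (sdegs (Nat.card G) (Nat.card G / (c * p)) p 1 ok) (pairwise_srt _) (e - 1 - (K.map (sd B.δ)).length) (B.L.filter (· ∉ K)) K
    (Nat.card G - (sq + (p - 1) / e * (D.natAbs * D.natAbs))) (by rw [List.length_map]; omega)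
    (fun χ hχ => by
      obtain ⟨h7, h8⟩ := List.mem_filter.1 hχ
      obtain ⟨h9, h10⟩ := B.lst.mem_of h7
      exact mem_sdegs_of hperf rfl hm h10 (h.sign χ h9) (by simpa using h.deg χ h9)
        (hi ▸ h.dvd_index_X h9) (hok χ h7 (by simpa using h8)))
    (by
      rw [List.map_congr_left fun χ hχ => by rw [B.natAbs_sd (List.mem_filter.1 hχ).1]]
      omega)
    (by
      rw [show ((B.L.filter (· ∉ K)).map (sd B.δ)).sum = D - 1 - (K.map (sd B.δ)).sum by omega]
      exact h4.resolve_left (by omega))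
  exact ⟨_, ⟨⟨B.x, B.X, B.Y, B.δ, B.ε, B.θ, L', h, B.hc, B.hθ, B.lst.perm (h7.trans hp), B.hD, rfl⟩⟩,
    h8⟩

end BD

open Classical in
/-- The Brauer--Tuan congruence for unions of blocks. -/
theorem bt_union [Fintype G] {p q : ℕ} (hp : p.Prime) (hq : q.Prime) (hpq : p ≠ q)
    {Mp Mq : Ideal AlgInt} (hMp : IsPModular p Mp) (hMq : IsPModular q Mq)
    (hno : ∀ g : G, orderOf g ≠ p * q) {Bp Bq : Set (IrrCharacter G)}
    (hBp : ∀ g, MemLocalRing Mp (blockCoeff Bp g)) (hBq : ∀ g, MemLocalRing Mq (blockCoeff Bq g))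
    {y : G} (hy : p ∣ orderOf y) : ∃ ω : ℂ, IsIntegral ℤ ω ∧
      ∑ χ : IrrCharacter G, (if χ ∈ Bp ∩ Bq then (χ : G → ℂ) y else 0) * (χ : G → ℂ) 1 =
        (q : ℂ) ^ (Nat.card G).factorization q * ω := by
  have := Fact.mk hq
  set θ : G → ℂ := ∑ χ : IrrCharacter G, (if χ ∈ Bp then (χ : G → ℂ) y else 0) • (χ : G → ℂ)
    with hθ
  have h1 : pRegularPart q θ = θ := by
    funext g
    rw [Agent.Blk.pRegularPart_apply]
    split_ifs with hg
    · have hg' : ¬ p ∣ orderOf g := fun h => hno _ (orderOf_pow_orderOf_div (orderOf_pos g).ne'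
        (((Nat.coprime_primes hp hq).2 hpq).mul_dvd_of_dvd_of_dvd h hg))
      have := Agent.Blk.weak_block_orthogonality hMp hBp hg' (y := y⁻¹) (by rwa [orderOf_inv])
      rw [Agent.Blk.finsum_mem_irr, inv_inv] at this
      rw [← this, hθ, Finset.sum_apply]
      refine Finset.sum_congr rfl fun χ _ => ?_
      split_ifs <;> simp [mul_comm]
    · rfl
  have h2 := Agent.Blk.blockPart_pRegularPart hMq hBq θ
  rw [h1] at h2
  have h3 : ∀ g, blockPart Bq θ g = ∑ χ : IrrCharacter G,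
      (if χ ∈ Bp ∩ Bq then (χ : G → ℂ) y else 0) * (χ : G → ℂ) g := fun g => by
    rw [hθ, Agent.Blk.blockPart_sum, Finset.sum_apply]
    refine Finset.sum_congr rfl fun χ _ => ?_
    rw [Agent.Blk.blockPart_smul, Agent.Blk.blockPart_irr]
    by_cases a1 : χ ∈ Bp <;> by_cases a2 : χ ∈ Bq <;> simp [a1, a2]
  obtain ⟨Q⟩ : Nonempty (Sylow q G) := inferInstance
  choose n hn using fun χ : IrrCharacter G =>
    CT.exists_sum_subgroup χ.2.isCharacter (Q : Subgroup G)
  have h4 : ∑ u : (Q : Subgroup G), blockPart Bq θ u = blockPart Bq θ 1 := by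
    rw [Finset.sum_eq_single (1 : (Q : Subgroup G))]
    · rfl
    · intro u _ hu
      rw [h2, Agent.Blk.pRegularPart_of_dvd]
      obtain ⟨k, hk⟩ := (IsPGroup.iff_orderOf.1 Q.isPGroup') u
      rw [Subgroup.orderOf_coe, hk]
      refine dvd_pow_self _ fun h => hu ?_
      rw [h, pow_zero, orderOf_eq_one_iff] at hk
      exact hk
    · simp
  refine ⟨∑ χ : IrrCharacter G, (if χ ∈ Bp ∩ Bq then (χ : G → ℂ) y else 0) * n χ,
    IsIntegral.sum _ fun χ _ => IsIntegral.mul ?_ (isIntegral_natCast _), ?_⟩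
  · split_ifs
    · exact χ.2.isCharacter.isIntegral _
    · exact isIntegral_zero
  · simp only [h3] at h4
    rw [Finset.sum_comm] at h4
    simp only [← Finset.mul_sum, hn, Q.card_eq_multiplicity] at h4
    rw [← h4, Finset.mul_sum]
    refine Finset.sum_congr rfl fun χ _ => ?_
    push_cast
    ring

namespace BD

variable [Fintype G] {p e c : ℕ} {D : ℤ} {l : List ℤ} (B : BD G p e c D l)

include B in
theorem no_order {q : ℕ} (hq : q.Prime) (hpq : p ≠ q) (hc : ¬ q ∣ c) (g : G) :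
    orderOf g ≠ p * q := fun h => by
  have hp := B.blk.setup.prime
  have h1 : orderOf (g ^ q) = p := by
    rw [orderOf_pow' _ hq.ne_zero, h, Nat.gcd_mul_left_left, Nat.mul_div_cancel _ hq.pos]
  have h2 := (orderOf_dvd_card_C g).trans (Subgroup.card_dvd_of_le (C_le_C_pow g q))
  rw [B.blk.setup.card_C_eq h1, B.hc, h, mul_comm] at h2
  exact hc (Nat.dvd_of_mul_dvd_mul_right hp.pos h2)

open Classical in
theorem btu {q : ℕ} (hq : q.Prime) (hpq : p ≠ q) (hc : ¬ q ∣ c) {M : Ideal AlgInt}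
    (hM : IsPModular q M) {U : Set (IrrCharacter G)} (hU : Blk.IsBlockUnion M U)
    (h1 : irrOne G ∉ U) (hY : ∀ ψ ∈ B.Y, ψ ∈ U ↔ B.θ ∈ U) :
    ((q ^ (Nat.card G).factorization q : ℕ) : ℤ) ∣ 0 + ((B.θ :: B.L).map fun χ =>
      if χ ∈ U then (if χ = B.θ then -D else sd B.δ χ) else 0).sum := by
  have h := B.blk
  obtain ⟨Mp, hMp, hB⟩ := h.blk
  have := hM.isMaximal
  have hx : p ∣ orderOf B.x := by rw [h.setup.ord]
  obtain ⟨ω, h2, h3⟩ := bt_union h.setup.prime hq hpq hMp hM (B.no_order hq hpq hc)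
    (IsPBlock.memLocalRing_blockCoeff hMp ⟨irrOne G, rfl⟩) (Blk.Om.isBlockUnion_iff_blockCoeff.1 hU) hx
  refine integral_int_dvd_of_eq_mul h2 ?_
  rw [Nat.cast_pow, Int.cast_pow, Int.cast_natCast, ← h3, h.sum_split _ fun χ h4 h5 => by
    rw [if_neg fun h6 => ((hB χ).1 h6.1).elim h4 h5, zero_mul], B.lst.sum, if_neg fun h4 => h1 h4.2,
    sum_congr (s₁ := B.Y) rfl fun ψ hψ =>
      show _ = (ψ : G → ℂ) B.x * if B.θ ∈ U then (B.θ : G → ℂ) 1 else 0 by
      rw [h.agree 1 h.not_dvd_one ψ hψ _ B.hθ]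
      by_cases h4 : B.θ ∈ U
      · rw [if_pos h4, if_pos ⟨(hB ψ).2 (.inr hψ), (hY ψ hψ).2 h4⟩]
      · rw [if_neg h4, if_neg fun h5 => h4 ((hY ψ hψ).1 h5.2), mul_zero, zero_mul],
    ← sum_mul, h.sum_Y hx, List.map_cons, List.sum_cons, if_pos rfl, Int.cast_add, Int.cast_add,
    Int.cast_list_sum, List.map_map, zero_mul, zero_add, Int.cast_zero, zero_add, add_comm]
  congr 1
  · refine congrArg _ (List.map_congr_left fun χ hχ => ?_)
    have h4 := (B.lst.mem_of hχ).1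
    have h5 : χ ≠ B.θ := fun h5 => h.disj χ h4 (h5 ▸ B.hθ)
    by_cases h6 : χ ∈ U
    · have h7 : χ ∈ blockOf Mp (irrOne G : G → ℂ) ∩ U := ⟨(hB χ).2 (.inl h4), h6⟩
      rw [if_pos h7]
      simp [h6, h5, h.sing χ h4 _ hx, sd, χ.2.coe_charDegree]
    · simp [h6]
  · split_ifs
    · rw [← B.θ.2.coe_charDegree]
      exact_mod_cast (congrArg Neg.neg B.hD).symm.trans (neg_mul _ _).symm
    · simp

theorem map_ite : (B.θ :: B.L).map (fun χ => open Classical in if χ = B.θ then -D else sd B.δ χ) =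
    -D :: l := by
  rw [List.map_cons, if_pos rfl]
  exact congrArg _ ((List.map_congr_left (g := sd B.δ) fun χ hχ =>
    if_neg fun h5 : χ = B.θ => B.blk.disj χ (B.lst.mem_of hχ).1 (h5 ▸ B.hθ)).trans B.hl)

theorem natAbs_ite {χ : IrrCharacter G} (hχ : χ ∈ B.θ :: B.L) :
    (open Classical in if χ = B.θ then -D else sd B.δ χ).natAbs = charDegree (χ : G → ℂ) := by
  split_ifs with h
  · rw [Int.natAbs_neg, B.natAbs_D, h]
  · exact B.natAbs_sd (by simpa [h] using hχ)

include B in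
theorem btq {q b : ℕ} (hq : q.Prime) (hpq : p ≠ q) (hc : ¬ q ∣ c)
    (hb : (Nat.card G).factorization q = b) (h2 : 2 ≤ b) : btq q b D l = true := by
  classical
  obtain ⟨M, hM⟩ := Blk.exists_isPModular hq
  have := hM.isMaximal
  have h := B.btu hq hpq hc hM (U := {χ | q ^ (b - 1) ∣ charDegree (χ : G → ℂ)}) (fun χ hχ ψ h => by
      have h1 := (hq.pow_dvd_iff_le_factorization χ.2.charDegree_pos.ne').1 hχ
      have h3 := Blk.One.factorization_le_of_le hM ⟨χ, rfl⟩ (Blk.mem_blockOf_self χ) h (by omega)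
      exact (hq.pow_dvd_iff_le_factorization ψ.2.charDegree_pos.ne').2 (by omega))
    (by
      rw [Set.mem_setOf_eq, deg_irrOne, Nat.dvd_one]
      exact (Nat.one_lt_pow (by omega) hq.one_lt).ne')
    fun ψ hψ => by rw [Set.mem_setOf_eq, Set.mem_setOf_eq, B.blk.deg_eq hψ B.hθ]
  rw [Srch.btq, Nat.beq_eq, ← B.map_ite, List.map_map]
  rw [hb, zero_add] at h
  refine Nat.mod_eq_zero_of_dvd (Int.natCast_dvd.1 (h.trans (dvd_of_eq (congrArg _
    (List.map_congr_left fun χ hχ => ?_)))))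
  simp only [Function.comp, B.natAbs_ite hχ, Set.mem_setOf_eq, Nat.dvd_iff_mod_eq_zero]
  cases h3 : Nat.beq (charDegree (χ : G → ℂ) % q ^ (b - 1)) 0
  · rw [if_neg (Nat.ne_of_beq_eq_false h3), cond_false]
  · rw [if_pos (Nat.eq_of_beq_eq_true h3), cond_true]

include B in
theorem bt2 (hp : p ≠ 2) (hc : ¬ 2 ∣ c) {b f : ℕ} (hb : (Nat.card G).factorization 2 = b) {z : G}
    (hz : orderOf z = 2) (hi : (C z).index % 2 = 1)
    (hf : ∀ χ : IrrCharacter G, charDegree (χ : G → ℂ) = f → (χ : G → ℂ) z = 0) :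
    ssum (2 ^ b) f (-D :: l) 0 = true := by
  classical
  obtain ⟨M, hM⟩ := Blk.exists_isPModular Nat.prime_two
  have := hM.isMaximal
  obtain ⟨v, hv⟩ := CT.exists_col_invol (u := z) (by rw [← pow_two, ← hz, pow_orderOf_eq_one])
  have h0 : ∀ χ : IrrCharacter G, MemLocalIdeal M (centralChar (χ : G → ℂ) z) →
      charDegree (χ : G → ℂ) % 2 = 0 := fun χ h => by
    obtain ⟨k, hk⟩ := CT.deg_dvd χ (hv χ)
    have h1 : centralChar (χ : G → ℂ) z = k := by
      rw [centralChar, hv, ← χ.2.coe_charDegree, div_eq_iff (by exact_mod_cast χ.2.charDegree_pos.ne'),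
        mul_comm (k : ℂ)]
      exact_mod_cast hk
    have h2 := CT.modEq_of_pow χ.isCharacter Nat.prime_two z (hv χ) (b := dg χ)
      (by rw [← hz, pow_orderOf_eq_one, dg_spec])
    rw [h1] at h
    obtain ⟨j, rfl⟩ := (hM.intCast_mem_iff k).1 h
    by_contra h3
    have h4 : Odd (((C z).index : ℤ) * v χ) := Odd.mul (Int.odd_iff.2 (by omega))
      (Int.odd_iff.2 (by unfold Int.ModEq dg at h2; omega))
    exact Int.not_even_iff_odd.2 (hk ▸ h4) ⟨charDegree (χ : G → ℂ) * j, by push_cast; ring⟩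
  have h := B.btu Nat.prime_two hp hc hM (U := {χ | MemLocalIdeal M (centralChar (χ : G → ℂ) z)})
    (fun χ hχ ψ h => by simpa using hχ.sub (h z)) (fun h => by simpa [deg_irrOne] using h0 _ h)
    fun ψ hψ => by
      simp only [Set.mem_setOf_eq, centralChar, B.blk.agree 1 B.blk.not_dvd_one ψ hψ _ B.hθ,
        B.blk.agree z (fun h => hp ((Nat.prime_dvd_prime_iff_eq B.blk.setup.prime Nat.prime_two).1
          (hz ▸ h))) ψ hψ _ B.hθ]
  rw [← B.map_ite]
  refine ssum_of _ _ _ _ (fun χ hχ h1 => ?_) (fun χ hχ h1 => ?_) (hb ▸ h)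
  · rw [B.natAbs_ite hχ] at h1
    simpa [centralChar, hf χ h1] using MemLocalIdeal.zero (M := M)
  · rw [B.natAbs_ite hχ]
    exact h0 χ h1

end BD

end Cfsg.Agent.Inv.PB
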