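import Mathlib
import Cfsg.Agent.Inv.M24G1

/-!
Blocks of defect one, and relations at the singular elements.
-/

set_option autoImplicit false

namespace Cfsg.Agent.Inv.Srch

/-- The normalized singular sum of a character of degree `d`. -/
def tf (p e d : ℕ) : ℤ :=
  if d % p = 0 then 0 else if d % p = 1 then p - 1 else if d % p + 1 = p then -(p - 1)
  else if d % p = e then -e else e

end Cfsg.Agent.Inv.Srch

namespace Cfsg.Agent.Inv.PB

open Finset Cfsg.Agent.Ch Cfsg.Agent.Inv.Srch Cfsg.Agent.Inv.Sieve Cfsg.Agent.Inv.M11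

variable {G : Type*} [Group G]

theorem mod_of_modEq {p a r : ℕ} (h2 : 0 < r) (h3 : r < p) {s : ℤ} (hs : s = 1 ∨ s = -1)
    (h4 : (a : ℤ) ≡ s * r [ZMOD p]) : s = 1 ∧ a % p = r ∨ s = -1 ∧ a % p + r = p := by
  rcases hs with rfl | rfl
  · rw [one_mul, Int.natCast_modEq_iff] at h4
    exact .inl ⟨rfl, Eq.trans h4 (Nat.mod_eq_of_lt h3)⟩
  · have h5 : (a : ℤ) ≡ (p - r : ℕ) [ZMOD p] :=
      h4.trans (Int.modEq_iff_dvd.2 ⟨1, by rw [Nat.cast_sub h3.le]; ring⟩)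
    have h6 : a % p = p - r :=
      Eq.trans (Int.natCast_modEq_iff.1 h5) (Nat.mod_eq_of_lt (by omega))
    exact .inr ⟨rfl, by omega⟩

theorem Setup.tau_list [Fintype G] {p : ℕ} {x : G} (h : Setup p x) {ι : Type*}
    (f : ι → IrrCharacter G) (m : ι → ℤ) (L : List ι) {s : ℤ}
    (hs : ∀ g, p ∣ orderOf g → (L.map fun i => (m i : ℂ) * (f i : G → ℂ) g).sum = s) :
    (L.map fun i => m i * tau p x (f i)).sum = (p - 1) * s := by
  have h1 : ∀ L : List ι, ∑ g ∈ singC p x, (L.map fun i => (m i : ℂ) * (f i : G → ℂ) g).sum =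
      cc x * ((L.map fun i => m i * tau p x (f i)).sum : ℤ) := fun L => by
    induction L with
    | nil => simp
    | cons i L ih =>
      simp only [List.map_cons, List.sum_cons, sum_add_distrib, ih, ← mul_sum, h.sum_singC]
      push_cast
      ring
  have h2 := h1 L
  rw [sum_congr rfl fun g hg => hs g (mem_singC.1 hg).2, sum_const, nsmul_eq_mul, h.card_singC,
    mul_assoc] at h2
  exact_mod_cast (mul_left_cancel₀ (Nat.cast_ne_zero.2 (cc_ne_zero x)) h2).symm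

theorem Setup.tau_sum [Fintype G] {p : ℕ} {x : G} (h : Setup p x) (m : IrrCharacter G → ℕ) {s : ℤ}
    (hs : ∀ g, p ∣ orderOf g → ∑ φ, m φ * (φ : G → ℂ) g = s) :
    ∑ φ, m φ * tau p x φ = (p - 1) * s := by
  have h1 := h.tau_list id (fun φ => m φ) univ.toList (s := s) fun g hg => by
    rw [← hs g hg, sum_map_toList]; simp
  rwa [sum_map_toList] at h1

theorem Setup.tau_deg [Fintype G] {p e : ℕ} {x : G} (h : Setup p x) (hC : Nat.card (C x) = p)
    (hN : Nat.card (N x) = e * Nat.card (C x)) (he : 1 < e) (hp : p % 2 = 1)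
    (χ : IrrCharacter G) : tau p x χ = tf p e (charDegree (χ : G → ℂ)) := by
  obtain ⟨X, Y, δ, ε, B⟩ := h.exists_blk hN
  have h1 := B.e_lt
  unfold tf
  by_cases hX : χ ∈ X
  · rw [B.tau_X hX]
    rcases mod_of_modEq one_pos h.prime.one_lt (B.sign χ hX) (by simpa using B.deg χ hX) with
      ⟨h2, h3⟩ | ⟨h2, h3⟩ <;> rw [h2] <;> split_ifs <;> omega
  by_cases hY : χ ∈ Y
  · rw [B.tau_Y hY]
    rcases mod_of_modEq B.e_pos h1 B.sign_Y (B.deg_Y χ hY) with ⟨h2, h3⟩ | ⟨h2, h3⟩ <;> rw [h2] <;>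
      split_ifs <;> omega
  rw [B.tau_other hX hY, if_pos (Nat.mod_eq_zero_of_dvd (B.other hC χ hX hY))]

/-- A block of defect one. -/
structure D1 [Fintype G] (p : ℕ) (M : Ideal AlgInt) (χ : IrrCharacter G)
    (X Y : Finset (IrrCharacter G)) (δ : IrrCharacter G → ℤ) (ε : ℤ) : Prop where
  mem : ∀ ψ : IrrCharacter G, SameBlock M (χ : G → ℂ) ψ ↔ ψ ∈ X ∨ ψ ∈ Y
  disj : ∀ ψ ∈ X, ψ ∉ Y
  card : Y.card * X.card + 1 = p
  sign : ∀ ψ ∈ X, δ ψ = 1 ∨ δ ψ = -1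
  sign_Y : ε = 1 ∨ ε = -1
  rel : ∀ θ ∈ Y, ∀ g, ¬ p ∣ orderOf g →
    ε * (θ : G → ℂ) g + ∑ ψ ∈ X, δ ψ * (ψ : G → ℂ) g = 0
  modEq : ∀ ψ ∈ X, ∀ φ ∈ X, sd δ ψ ≡ sd δ φ [ZMOD p]
  fact : ∀ ψ : IrrCharacter G, SameBlock M (χ : G → ℂ) ψ →
    (charDegree (ψ : G → ℂ)).factorization p = (charDegree (χ : G → ℂ)).factorization p

open Cfsg.Agent.Blk Cfsg.Agent.Blk.Ab Cfsg.Agent.Blk.CD Cfsg.Agent.Blk.PD Cfsg.Agent.Blk.Mod in
theorem exists_D1 [Fintype G] {p : ℕ} {M : Ideal AlgInt} (hM : IsPModular p M)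
    {χ : IrrCharacter G}
    (h : (charDegree (χ : G → ℂ)).factorization p + 1 = (Nat.card G).factorization p) :
    ∃ X Y δ ε, D1 p M χ X Y δ ε := by
  classical
  have := hM.isMaximal
  have := Fact.mk hM.prime
  have hB : IsPBlock M (blockOf M (χ : G → ℂ)) := ⟨χ, rfl⟩
  obtain ⟨D, hD⟩ := hB.exists_isDefectGroup p
  have h1 := One.blockHeight_eq_zero_of_le hM hB (mem_blockOf_self χ) (by omega)
  have h2 : ∀ ψ ∈ blockOf M (χ : G → ℂ), sInf ((fun ψ : IrrCharacter G =>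
      (charDegree (ψ : G → ℂ)).factorization p) '' blockOf M (χ : G → ℂ)) ≤
      (charDegree (ψ : G → ℂ)).factorization p := fun ψ hψ => Nat.sInf_le ⟨ψ, hψ, rfl⟩
  have h3 := h2 χ (mem_blockOf_self χ)
  have h4 := hD.card_eq_pow_blockDefect hM hB
  unfold blockHeight at h1
  rw [show blockDefect p (blockOf M (χ : G → ℂ)) = 1 by unfold blockDefect; omega, pow_one] at h4
  have := isCyclic_of_prime_card h4
  have := Fintype.ofFinite D
  obtain ⟨e, ha⟩ := exists_absOf hM hB hD fun x hx y hy => congrArg Subtype.val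
    (mul_comm' (⟨x, hx⟩ : D) ⟨y, hy⟩)
  have hP : D ≠ ⊥ := fun h0 => hM.prime.one_lt.ne (by rw [← h4, h0, Subgroup.card_bot])
  obtain ⟨A, hA⟩ := ha.exists_glue_of_isCyclic
  obtain ⟨r, rep, hr⟩ := (ha.freeAut ha.free_of_isCyclic).exists_reps ha.comm
  obtain ⟨X, μ, δ, ε, hc⟩ := exists_cs ha hP hA hr
  refine ⟨X, univ.image μ, δ, ε, fun ψ => (hc.mem ψ).trans (by simp), fun ψ h5 h6 => ?_, ?_, hc.sgn,
    hc.sgn', fun θ hθ => ?_, fun ψ hψ φ hφ => h4 ▸ hc.modEq ha hA hψ hφ, fun ψ hψ => ?_⟩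
  · obtain ⟨i, -, rfl⟩ := mem_image.1 h6
    exact hc.notMem i h5
  · rw [card_image_of_injective _ hc.inj, card_univ, hc.card, ← h4, hr.card_eq ha.comm, add_comm]
  · obtain ⟨i, -, rfl⟩ := mem_image.1 hθ
    exact hc.rel i
  · have h5 := hc.height ha hA hP hψ
    have h6 := h2 ψ hψ
    unfold blockHeight at h5
    omega

theorem D1.agree [Fintype G] {p : ℕ} {M : Ideal AlgInt} {χ : IrrCharacter G}
    {X Y : Finset (IrrCharacter G)} {δ : IrrCharacter G → ℤ} {ε : ℤ} (h : D1 p M χ X Y δ ε)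
    {θ θ' : IrrCharacter G} (h1 : θ ∈ Y) (h2 : θ' ∈ Y) {g : G} (hg : ¬ p ∣ orderOf g) :
    (θ : G → ℂ) g = (θ' : G → ℂ) g := by
  refine mul_left_cancel₀ (a := (ε : ℂ)) (by rcases h.sign_Y with h | h <;> simp [h]) ?_
  linear_combination h.rel θ h1 g hg - h.rel θ' h2 g hg

theorem three_rel [Finite G] {a b c : IrrCharacter G} {P : G → Prop} (h1 : P 1) {r s t : ℤ}
    (hr : r = 1 ∨ r = -1) (hs : s = 1 ∨ s = -1) (ht : t = 1 ∨ t = -1)
    (h : ∀ g, P g → r * (a : G → ℂ) g + (s * (b : G → ℂ) g + t * (c : G → ℂ) g) = 0) :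
    (∀ g, P g → (a : G → ℂ) g = (b : G → ℂ) g + (c : G → ℂ) g) ∨
    (∀ g, P g → (b : G → ℂ) g = (a : G → ℂ) g + (c : G → ℂ) g) ∨
    (∀ g, P g → (c : G → ℂ) g = (a : G → ℂ) g + (b : G → ℂ) g) := by
  have h2 := h 1 h1
  simp only [dg_spec] at h2
  norm_cast at h2
  have h3 := a.2.charDegree_pos
  have h4 := b.2.charDegree_pos
  have h5 := c.2.charDegree_pos
  unfold dg at h2
  rcases hr with rfl | rfl <;> rcases hs with rfl | rfl <;> rcases ht with rfl | rfl <;>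
    simp only [Int.cast_one, Int.cast_neg] at h <;>
    first
    | omega
    | exact .inl fun g hg => by linear_combination h g hg
    | exact .inl fun g hg => by linear_combination -h g hg
    | exact .inr (.inl fun g hg => by linear_combination h g hg)
    | exact .inr (.inl fun g hg => by linear_combination -h g hg)
    | exact .inr (.inr fun g hg => by linear_combination h g hg)
    | exact .inr (.inr fun g hg => by linear_combination -h g hg)

/-- Blocks of defect one for the prime three. -/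
theorem exists_T3 [Fintype G] {M : Ideal AlgInt} (hM : IsPModular 3 M) {χ : IrrCharacter G}
    (h : (charDegree (χ : G → ℂ)).factorization 3 + 1 = (Nat.card G).factorization 3) :
    ∃ a b : IrrCharacter G, [χ, a, b].Nodup ∧
      (∀ ψ : IrrCharacter G, SameBlock M (χ : G → ℂ) ψ ↔ ψ ∈ [χ, a, b]) ∧
      (∀ ψ ∈ [χ, a, b], (charDegree (ψ : G → ℂ)).factorization 3 =
        (charDegree (χ : G → ℂ)).factorization 3) ∧
      ((∀ g, ¬ 3 ∣ orderOf g → (a : G → ℂ) g = (χ : G → ℂ) g ∧ (b : G → ℂ) g = (χ : G → ℂ) g) ∨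
        (∀ g, ¬ 3 ∣ orderOf g → (χ : G → ℂ) g = (a : G → ℂ) g + (b : G → ℂ) g) ∨
        ∀ g, ¬ 3 ∣ orderOf g → (a : G → ℂ) g = (χ : G → ℂ) g + (b : G → ℂ) g) := by
  classical
  have := hM.isMaximal
  obtain ⟨X, Y, δ, ε, hd⟩ := exists_D1 hM h
  have h1 : ¬ 3 ∣ orderOf (1 : G) := by simp
  suffices H : ∃ a b c : IrrCharacter G, [a, b, c].Nodup ∧
      (∀ ψ : IrrCharacter G, SameBlock M (χ : G → ℂ) ψ ↔ ψ ∈ [a, b, c]) ∧
      ((∀ g, ¬ 3 ∣ orderOf g → (b : G → ℂ) g = (a : G → ℂ) g ∧ (c : G → ℂ) g = (a : G → ℂ) g) ∨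
        ∀ g, ¬ 3 ∣ orderOf g → (a : G → ℂ) g = (b : G → ℂ) g + (c : G → ℂ) g) by
    obtain ⟨a, b, c, h2, h3, h4⟩ := H
    have h5 := (h3 χ).1 (SameBlock.refl _)
    simp only [List.mem_cons, List.not_mem_nil, or_false] at h5
    rcases h5 with rfl | rfl | rfl
    · exact ⟨b, c, h2, h3, fun ψ hψ => hd.fact ψ ((h3 ψ).2 hψ), h4.imp_right .inl⟩
    · have hp := List.Perm.swap χ a [c]
      exact ⟨a, c, hp.nodup_iff.1 h2, fun ψ => by rw [h3, hp.mem_iff],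
        fun ψ hψ => hd.fact ψ ((h3 ψ).2 (hp.mem_iff.2 hψ)), h4.imp
        (fun h g hg => ⟨(h g hg).1.symm, (h g hg).2.trans (h g hg).1.symm⟩) .inr⟩
    · have hp : [a, b, χ].Perm [χ, a, b] := List.perm_append_comm (l₁ := [a, b]) (l₂ := [χ])
      exact ⟨a, b, hp.nodup_iff.1 h2, fun ψ => by rw [h3, hp.mem_iff],
        fun ψ hψ => hd.fact ψ ((h3 ψ).2 (hp.mem_iff.2 hψ)), h4.imp
        (fun h g hg => ⟨(h g hg).2.symm, (h g hg).1.trans (h g hg).2.symm⟩)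
        fun h => .inr fun g hg => (h g hg).trans (add_comm _ _)⟩
  have h2 : Y.card * X.card = 2 := by have := hd.card; omega
  rcases (Nat.dvd_prime Nat.prime_two).1 (Dvd.intro _ h2) with h3 | h3
  · rw [h3, one_mul] at h2
    obtain ⟨a, rfl⟩ := card_eq_one.1 h3
    obtain ⟨b, c, h4, rfl⟩ := card_eq_two.1 h2
    have h5 : a ≠ b := fun h => hd.disj b (by simp) (by simp [h])
    have h6 : a ≠ c := fun h => hd.disj c (by simp) (by simp [h])
    rcases three_rel h1 hd.sign_Y (hd.sign b (by simp)) (hd.sign c (by simp)) (fun g hg => by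
      rw [← hd.rel a (by simp) g hg, sum_pair h4]) with h7 | h7 | h7
    · exact ⟨a, b, c, by simp [h4, h5, h6], fun ψ => by simp [hd.mem]; tauto, .inr h7⟩
    · exact ⟨b, a, c, by simp [h4, h5.symm, h6], fun ψ => by simp [hd.mem]; tauto, .inr h7⟩
    · exact ⟨c, a, b, by simp [h4.symm, h5, h6.symm], fun ψ => by simp [hd.mem]; tauto, .inr h7⟩
  · obtain ⟨a, rfl⟩ := card_eq_one.1 (show X.card = 1 by rw [h3] at h2; omega)
    obtain ⟨b, c, h4, rfl⟩ := card_eq_two.1 h3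
    have h5 : a ≠ b := fun h => hd.disj a (by simp) (by simp [h])
    have h6 : a ≠ c := fun h => hd.disj a (by simp) (by simp [h])
    have h7 : ∀ g, ¬ 3 ∣ orderOf g → (b : G → ℂ) g = (a : G → ℂ) g := by
      have h8 := hd.rel b (by simp)
      have h9 := h8 1 h1
      simp only [sum_singleton, dg_spec] at h8 h9
      norm_cast at h9
      have := a.2.charDegree_pos
      have := b.2.charDegree_pos
      unfold dg at h9
      rcases hd.sign_Y with h | h <;> rcases hd.sign a (by simp) with h' | h' <;>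
        simp only [h, h', Int.cast_one, Int.cast_neg] at h8 h9 <;>
        first
        | omega
        | exact fun g hg => by linear_combination h8 g hg
        | exact fun g hg => by linear_combination -h8 g hg
    exact ⟨a, b, c, by simp [h4, h5, h6], fun ψ => by simp [hd.mem], .inl fun g hg =>
      ⟨h7 g hg, (hd.agree (by simp) (by simp) hg).trans (h7 g hg)⟩⟩

namespace BD

variable [Fintype G] {p e : ℕ} {D : ℤ} {l : List ℤ} (B : BD G p e 1 D l)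

include B in
theorem orderOf_eq {g : G} (hg : p ∣ orderOf g) : orderOf g = p :=
  B.blk.setup.orderOf_eq (by rw [B.hc, one_mul]) hg

theorem sameBlock {r : ℕ} {M : Ideal AlgInt} (hM : IsPModular r M) (hpr : p ≠ r)
    (h1 : r ∣ Nat.card G) (hD : ¬ r ∣ D.natAbs) {θ θ' : IrrCharacter G} (hθ : θ ∈ B.Y)
    (hθ' : θ' ∈ B.Y) : SameBlock M (θ : G → ℂ) θ' := fun g => by
  have := hM.isMaximal
  by_cases hg : p ∣ orderOf g
  · have h2 : ∀ ψ ∈ B.Y, MemLocalIdeal M (centralChar (ψ : G → ℂ) g) := fun ψ hψ => by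
      have h3 : r ∣ (C g).index := by
        have h4 := (C g).card_mul_index
        rw [B.blk.setup.card_C_eq (B.orderOf_eq hg), B.hc, one_mul] at h4
        exact ((Nat.coprime_primes hM.prime B.blk.setup.prime).2 hpr.symm).dvd_of_dvd_mul_left
          (h4 ▸ h1)
      rw [centralChar, div_eq_mul_inv, ← ψ.2.coe_charDegree, B.deg_Y hψ]
      exact (((hM.natCast_mem_iff _).2 h3).mul_right
        (.of_isIntegral (ψ.2.isCharacter.isIntegral g))).mul_right (hM.inv_natCast_mem hD)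
    exact (h2 θ hθ).sub (h2 θ' hθ')
  · simp only [centralChar, B.blk.agree g hg θ hθ θ' hθ', B.blk.agree 1 B.blk.not_dvd_one θ hθ θ' hθ',
      sub_self]
    exact .zero

/-- The block of defect one that contains the two exceptional characters. -/
theorem exists_nd (ht : (p - 1) / e = 2)
    (hu : ∀ χ : IrrCharacter G, charDegree (χ : G → ℂ) = D.natAbs → χ ∈ B.Y)
    {r : ℕ} {M : Ideal AlgInt} (hM : IsPModular r M) (hpr : p ≠ r) (hr : r ≠ 2)
    (h1 : (Nat.card G).factorization r = 1) (hD : ¬ r ∣ D.natAbs) :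
    ∃ (S : List (IrrCharacter G)) (σ : IrrCharacter G → ℤ), S.Nodup ∧
      (∀ χ ∈ S, (σ χ = 1 ∨ σ χ = -1) ∧ χ ∉ B.Y ∧ SameBlock M (B.θ : G → ℂ) χ ∧
        ¬ r ∣ charDegree (χ : G → ℂ)) ∧ (∃ t, t * (S.length + 1) + 1 = r) ∧
      (∀ g, ¬ r ∣ orderOf g →
        ∑ θ ∈ B.Y, (θ : G → ℂ) g + (S.map fun χ => (σ χ : ℂ) * (χ : G → ℂ) g).sum = 0) ∧
      ∃ ψ, ∀ χ ∈ S, χ ≠ ψ ∨ S.length + 2 = r → sd σ χ ≡ D.natAbs [ZMOD r] := by
  classical
  have := hM.isMaximal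
  have hf : ∀ {d : ℕ}, 0 < d → (d.factorization r = 0 ↔ ¬ r ∣ d) := fun hd => by
    rw [hM.prime.dvd_iff_one_le_factorization hd.ne']; omega
  have hθ0 := (hf B.θ.2.charDegree_pos).2 (B.natAbs_D ▸ hD)
  obtain ⟨X, Y, δ, ε, hd⟩ := exists_D1 hM (χ := B.θ) (by omega)
  have hm : ∀ θ ∈ B.Y, θ ∈ X ∨ θ ∈ Y := fun θ hθ => (hd.mem θ).1 (B.sameBlock hM hpr
    (hM.prime.dvd_iff_one_le_factorization Nat.card_pos.ne' |>.2 h1.ge) hD B.hθ hθ)
  have h0 : ¬ r ∣ orderOf (1 : G) := by simpa using hM.prime.ne_one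
  have h2 : ∀ θ ∈ B.Y, θ ∈ Y → Y = {θ} := fun θ hθ hY => eq_singleton_iff_unique_mem.2 ⟨hY, fun ψ hψ =>
    Subtype.ext (funext fun g => by
      by_cases hg : p ∣ orderOf g
      · refine hd.agree hψ hY ?_
        rw [B.orderOf_eq hg]
        exact fun h => hpr ((Nat.prime_dvd_prime_iff_eq hM.prime B.blk.setup.prime).1 h).symm
      · exact B.blk.agree g hg ψ (hu ψ ((charDegree_congr (hd.agree hψ hY h0)).trans
          (B.deg_Y hθ))) θ hθ)⟩
  obtain ⟨ψ, hψ, h3⟩ : ∃ ψ ∈ Y, ∀ θ ∈ B.Y, θ ∈ insert ψ X := by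
    by_cases h3 : ∃ θ ∈ B.Y, θ ∈ Y
    · obtain ⟨θ, hθ, hY⟩ := h3
      exact ⟨θ, hY, fun θ' hθ' => by simpa [h2 θ hθ hY, or_comm] using hm θ' hθ'⟩
    · obtain ⟨ψ, hψ⟩ : Y.Nonempty := card_pos.1 (Nat.pos_of_ne_zero fun h =>
        hM.prime.ne_one (by simpa [h] using hd.card.symm))
      exact ⟨ψ, hψ, fun θ hθ => mem_insert_of_mem ((hm θ hθ).resolve_right fun h => h3 ⟨θ, hθ, h⟩)⟩
  have hψX : ψ ∉ X := fun h => hd.disj ψ h hψ
  obtain ⟨s, hs1, hs2⟩ : ∃ s : IrrCharacter G → ℤ, s ψ = ε ∧ ∀ χ ∈ X, s χ = δ χ :=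
    ⟨fun χ => if χ = ψ then ε else δ χ, if_pos rfl, fun χ hχ => if_neg fun h : χ = ψ => hψX (h ▸ hχ)⟩
  have h4 : ∀ g, ¬ r ∣ orderOf g → ∑ χ ∈ insert ψ X, s χ * (χ : G → ℂ) g = 0 := fun g hg => by
    rw [sum_insert hψX, hs1, sum_congr rfl fun χ hχ => by rw [hs2 χ hχ], hd.rel ψ hψ g hg]
  have h5 : ∀ χ ∈ insert ψ X, s χ = 1 ∨ s χ = -1 := fun χ hχ => by
    rcases mem_insert.1 hχ with rfl | h
    exacts [hs1 ▸ hd.sign_Y, hs2 χ h ▸ hd.sign χ h]
  have h6 : ∀ χ ∈ insert ψ X, χ ≠ ψ ∨ X.card + 1 = r → ∀ φ ∈ X, sd s χ ≡ sd s φ [ZMOD r] := by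
    have h6 : ∀ χ ∈ X, ∀ φ ∈ X, sd s χ ≡ sd s φ [ZMOD r] := fun χ hχ φ hφ => by
      simpa only [sd, hs2 χ hχ, hs2 φ hφ] using hd.modEq χ hχ φ hφ
    intro χ hχ h φ hφ
    rcases mem_insert.1 hχ with rfl | h7
    · have h7 := h4 1 h0
      simp only [dg_spec] at h7
      norm_cast at h7
      rw [sum_insert hψX] at h7
      have h8 : ∑ φ' ∈ X, sd s φ' ≡ ∑ _φ' ∈ X, sd s φ [ZMOD r] :=
        Int.ModEq.sum fun φ' hφ' => h6 φ' hφ' φ hφ
      rw [sum_const, nsmul_eq_mul] at h8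
      rw [show sd s χ = -∑ φ' ∈ X, sd s φ' from eq_neg_of_add_eq_zero_left h7]
      exact h8.neg.trans (Int.modEq_iff_dvd.2 ⟨sd s φ, by
        rw [← h.resolve_left fun h => h rfl]; push_cast; ring⟩)
    · exact h6 χ h7 φ hφ
  have h7 : ∀ θ ∈ B.Y, θ ≠ ψ ∨ X.card + 1 = r := fun θ hθ => or_iff_not_imp_left.2 fun h => by
    rw [not_not] at h
    simpa [h2 θ hθ (h ▸ hψ)] using hd.card
  obtain ⟨φ, hφ⟩ : X.Nonempty := card_pos.1 (Nat.pos_of_ne_zero fun h =>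
    hM.prime.ne_one (by simpa [h] using hd.card.symm))
  have h8 : ∀ χ ∈ insert ψ X, χ ≠ ψ ∨ X.card + 1 = r → s B.θ * sd s χ ≡ D.natAbs [ZMOD r] :=
    fun χ hχ h => by
      have h8 := ((h6 χ hχ h φ hφ).trans (h6 _ (h3 _ B.hθ) (h7 _ B.hθ) φ hφ).symm).mul_left (s B.θ)
      rw [sd, sd, ← mul_assoc _ (s B.θ), ← B.natAbs_D] at h8
      rcases h5 _ (h3 _ B.hθ) with h9 | h9 <;> simpa [h9, sd] using h8
  have h9 : ∀ θ ∈ B.Y, s B.θ * s θ = 1 := fun θ hθ => by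
    have h9 := h8 θ (h3 θ hθ) (h7 θ hθ)
    rw [sd, B.deg_Y hθ, ← mul_assoc] at h9
    have h10 : s B.θ * s θ = 1 ∨ s B.θ * s θ = -1 := by
      rcases h5 _ (h3 _ B.hθ) with h | h <;> rcases h5 _ (h3 _ hθ) with h' | h' <;> simp [h, h']
    refine h10.resolve_right fun h => hD ?_
    have h11 : (r : ℤ) ∣ 2 * (D.natAbs : ℕ) := by simpa [h, two_mul] using h9.dvd
    exact ((Nat.coprime_primes hM.prime Nat.prime_two).2 hr).dvd_of_dvd_mul_left
      (by exact_mod_cast h11)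
  have h10 : (insert ψ X \ B.Y).toList.length + 1 = X.card := by
    have := card_sdiff_add_card_eq_card (show B.Y ⊆ insert ψ X from h3)
    rw [card_insert_of_notMem hψX, B.blk.card_Y', ht] at this
    rw [length_toList]
    omega
  refine ⟨(insert ψ X \ B.Y).toList, fun χ => s B.θ * s χ, nodup_toList _, fun χ hχ => ?_,
    ⟨_, h10 ▸ hd.card⟩, fun g hg => ?_, ψ, fun χ hχ h => ?_⟩
  · obtain ⟨h11, h12⟩ := mem_sdiff.1 (mem_toList.1 hχ)
    have h13 := (hd.mem χ).2 ((mem_insert.1 h11).symm.imp_right fun h : χ = ψ => h ▸ hψ)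
    refine ⟨?_, h12, h13, (hf χ.2.charDegree_pos).1 ((hd.fact χ h13).trans hθ0)⟩
    rcases h5 _ (h3 _ B.hθ) with h | h <;> rcases h5 _ h11 with h' | h' <;> simp [h, h']
  · have h11 := congrArg ((s B.θ : ℂ) * ·) (h4 g hg)
    simp only [← sum_sdiff (show B.Y ⊆ insert ψ X from h3), mul_add, mul_sum, ← mul_assoc,
      ← Int.cast_mul, mul_zero] at h11
    rw [sum_map_toList, add_comm, ← h11]
    exact congrArg _ (sum_congr rfl fun θ hθ => by rw [h9 θ hθ, Int.cast_one, one_mul])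
  · rw [sd, mul_assoc]
    exact h8 χ (mem_sdiff.1 (mem_toList.1 hχ)).1 (h.imp_right (by omega))

end BD

end Cfsg.Agent.Inv.PB
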