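import Mathlib
import Cfsg.Agent.Inv.M24G2
import Cfsg.Agent.Inv.SylowNumber

/-!
Involutions that centralize a Sylow subgroup of prime order.
-/

set_option autoImplicit false

namespace Cfsg.Agent.Inv.Srch

open Cfsg.Agent.Inv.Sieve

/-- The possible centralizer orders of an involution that centralizes the Sylow subgroup. -/
def czOK2 (p e c g : ℕ) (f : ℕ → ℕ → Bool) (cz : ℕ) : Bool :=
  Nat.beq (cz % 4) 0 && Nat.beq (cz % g) 0 && (divs (e * c * p)).any fun m => Nat.beq (m % g) 0 &&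
    Nat.beq (cz % m) 0 && Nat.beq (cz / m % p) 1 && Nat.ble (e * c * p) (m * (c - 1)) && f cz (cz / m)

/-- Some column exists for a centralizer order in the list. -/
def anyL (n p e c : ℕ) (L : List ℕ) (D : ℤ) (l : List ℤ) : Bool :=
  L.any fun cz => anyC n p e c cz (fun _ _ => true) (fun _ => true) D l

/-- Some column exists for a centralizer order in the list; all of them are divisible by `p`. -/
def anyD (n p e c q : ℕ) (L : List ℕ) (D : ℤ) (l : List ℤ) : Bool :=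
  L.any fun cz => !(iv2 n cz q (fun a v => Nat.beq ((v - a).natAbs % p) 0) D).isEmpty &&
    !colR n p e c cz (fun _ _ => true) (fun _ => false) D l

theorem sum_emod {m t : ℕ} : ∀ l : List ℤ, (∀ a ∈ l, ∃ k : ℕ, k ≤ t ∧ a ≡ k [ZMOD m]) →
    ∃ k : ℕ, k ≤ t * l.length ∧ l.sum ≡ k [ZMOD m]
  | [], _ => ⟨0, by simp⟩
  | a :: l, h => by
    obtain ⟨k, h1, h2⟩ := sum_emod l fun b hb => h b (by simp [hb])
    obtain ⟨j, h3, h4⟩ := h a (by simp)
    exact ⟨j + k, by rw [List.length_cons, mul_add]; omega, by simpa using h4.add h2⟩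

end Cfsg.Agent.Inv.Srch

namespace Cfsg.Agent.Inv.PB

open Finset Cfsg.Agent.Ch Cfsg.Agent.Inv.Srch Cfsg.Agent.Inv.Sieve Cfsg.Agent.Inv.M11
open scoped ArithmeticFunction.Omega

variable {G : Type*} [Group G]

theorem fix_le_closure [Finite G] {φ : G → ℂ} (h : IsCharacter G φ) {R : Set G} {m : ℕ}
    (hR : ∀ r ∈ R, charDegree φ ≤ CT.fix φ (Subgroup.zpowers r) + m) : ∀ (k : ℕ) (K : Subgroup G),
      K ≤ Subgroup.closure R → Ω K.index ≤ k → CT.fix φ K ≤ CT.fix φ (Subgroup.closure R) + m * k := by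
  intro k
  induction k using Nat.strong_induction_on with | _ k ih =>
  intro K hK hk
  by_cases h1 : R ⊆ K
  · rw [le_antisymm hK ((Subgroup.closure_le K).2 h1)]
    omega
  obtain ⟨r, hr, h2⟩ := Set.not_subset.1 h1
  have h3 := CT.fix_add_le h (bot_le (a := K)) (bot_le (a := Subgroup.zpowers r))
  have h4 := Subgroup.relIndex_mul_index (le_sup_left (a := K) (b := Subgroup.zpowers r))
  have h5 : K.relIndex (K ⊔ Subgroup.zpowers r) ≠ 1 := fun h5 =>
    h2 (Subgroup.relIndex_eq_one.1 h5 (Subgroup.mem_sup_right (Subgroup.mem_zpowers r)))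
  have h6 : K.relIndex (K ⊔ Subgroup.zpowers r) ≠ 0 := Subgroup.index_ne_zero_of_finite
  rw [← h4, ArithmeticFunction.cardFactors_mul h6 Subgroup.index_ne_zero_of_finite] at hk
  have h7 := ArithmeticFunction.cardFactors_pos_iff_one_lt.2
    (show 1 < K.relIndex (K ⊔ Subgroup.zpowers r) by omega)
  obtain ⟨k, rfl⟩ : ∃ j, k = j + 1 := ⟨k - 1, by omega⟩
  have h8 := ih k k.lt_succ_self _ (sup_le hK (Subgroup.zpowers_le.2 (Subgroup.subset_closure hr)))
    (by omega)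
  have h9 := hR r hr
  rw [CT.fix_bot h] at h3
  rw [mul_add]
  omega

/-- An involution cannot have a large eigenspace for `-1`. -/
theorem two_mul_deg_le [Finite G] [IsSimpleGroup G] (hG : ¬ (Nat.card G).Prime)
    {χ : IrrCharacter G} (h1 : χ ≠ irrOne G) {u : G} (hu : orderOf u = 2) {v : ℤ}
    (hv : (χ : G → ℂ) u = v) :
    2 * (charDegree (χ : G → ℂ) : ℤ) ≤ (charDegree (χ : G → ℂ) + v) * (Ω (Nat.card G) + 1) := by
  classical
  have := Fintype.ofFinite G
  let φ : G × ℤˣ → ℂ := fun a => (χ : G → ℂ) a.1 * (a.2 : ℤ)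
  have hφ : IsCharacter (G × ℤˣ) φ := (χ.isCharacter.comp (MonoidHom.fst G ℤˣ)).mul
    (isCharacter_monoidHom_units ((Units.map (Int.castRingHom ℂ).toMonoidHom).comp (.snd G ℤˣ)))
  have hd : charDegree φ = charDegree (χ : G → ℂ) := charDegree_congr (by simp [φ])
  have h2 := CT.fix_prime χ.isCharacter hv Nat.prime_two hu
  let R : Set (G × ℤˣ) := {a | IsConj u a.1 ∧ a.2 = -1}
  have h3 := fix_le_closure hφ (R := R) (m := CT.fix χ (Subgroup.zpowers u)) (fun r hr => by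
    have h3 := CT.fix_prime hφ (g := r) (m := -v) (by
      obtain ⟨g, hg⟩ := isConj_iff.1 hr.1
      simp [φ, hr.2, ← hg, χ.isCharacter.isClassFunction u g, hv]) Nat.prime_two
      (orderOf_eq_prime (Prod.ext (by
        rw [Prod.pow_fst, ← hu, CT.orderOf_eq_of_isConj hr.1, pow_orderOf_eq_one, Prod.fst_one])
        (by simp [hr.2])) fun h => by simpa [h] using hr.2)
    omega) _ ⊥ bot_le le_rfl
  have h4 : ((Subgroup.closure R).comap (MonoidHom.inl G ℤˣ)).Normal := by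
    have : (Subgroup.closure R).Normal := by
      refine ⟨fun a ha g => Subgroup.closure_induction (fun b hb => Subgroup.subset_closure
        ⟨hb.1.trans (isConj_iff.2 ⟨g.1, rfl⟩), by simp [hb.2]⟩) (by simp) (fun b c _ _ h5 h6 => ?_)
        (fun b _ h5 => ?_) ha⟩
      · simpa [mul_assoc] using mul_mem h5 h6
      · simpa [mul_assoc] using inv_mem h5
    infer_instance
  have h5 := h4.eq_bot_or_eq_top.resolve_left fun h5 => (card_C_lt hG
    (CT.ne_one_of_orderOf hu (by norm_num))).ne (by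
      rw [← Subgroup.card_top (G := G)]
      refine congrArg (fun H : Subgroup G => Nat.card H) (eq_top_iff.2 fun g _ => mem_C.2 ?_)
      have h6 : u⁻¹ * (g * u * g⁻¹) ∈ (Subgroup.closure R).comap (MonoidHom.inl G ℤˣ) := by
        simpa using mul_mem (inv_mem (Subgroup.subset_closure (k := R) (a := (u, -1))
          ⟨IsConj.refl u, rfl⟩)) (Subgroup.subset_closure (k := R) (a := (g * u * g⁻¹, -1))
          ⟨isConj_iff.2 ⟨g, rfl⟩, rfl⟩)
      rw [h5, Subgroup.mem_bot, inv_mul_eq_one] at h6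
      exact mul_inv_eq_iff_eq_mul.1 h6.symm)
  have h6 := CT.fix_mono hφ (H := (MonoidHom.inl G ℤˣ).range) (K := Subgroup.closure R) (by
    rintro _ ⟨g, rfl⟩
    exact h5.ge (Subgroup.mem_top g))
  have h7 := CT.sum_eq_fix hφ (MonoidHom.inl G ℤˣ).range
  have h9 : Function.Injective (MonoidHom.inl G ℤˣ) := fun a b h => congrArg Prod.fst h
  rw [← (MonoidHom.ofInjective h9).sum_comp, sum_congr rfl (g := (χ : G → ℂ)) fun g _ => by
    simp [φ, MonoidHom.ofInjective_apply], χ.2.sum_eq_zero (ne_one_iff.1 h1)] at h7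
  have h8 : CT.fix φ (MonoidHom.inl G ℤˣ).range = 0 := by
    exact_mod_cast (mul_eq_zero.1 h7.symm).resolve_left (natCard_ne_zero _)
  rw [CT.fix_bot hφ, Subgroup.index_bot, Nat.card_prod, ArithmeticFunction.cardFactors_mul
    Nat.card_pos.ne' Nat.card_pos.ne', Nat.card_eq_fintype_card (α := ℤˣ), Fintype.card_units_int,
    ArithmeticFunction.cardFactors_apply_prime Nat.prime_two, hd] at h3
  rw [show (charDegree (χ : G → ℂ) : ℤ) + v = 2 * CT.fix χ (Subgroup.zpowers u) by omega, mul_assoc]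
  zify at h3
  omega

theorem exists_invol_comm [Finite G] {r : ℕ} (hr : r.Prime) {y : G} (hy : orderOf y = r)
    {K : Subgroup G} (hK : y ∈ Subgroup.normalizer (K : Set G)) (hrK : ¬ r ∣ Nat.card K)
    (h : 2 ^ (Nat.card K).factorization 2 % r ≠ 1 % r) : ∃ u ∈ K, orderOf u = 2 ∧ Commute u y := by
  have := Fact.mk hr
  let a : MulAut K := K.normalizerMonoidHom ⟨y, hK⟩
  have ha : a ^ r ^ 1 = 1 := by
    rw [← map_pow, show (⟨y, hK⟩ : Subgroup.normalizer (K : Set G)) ^ r ^ 1 = 1 from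
      Subtype.ext (CT.pow_prime_eq_one hy), map_one]
  have h1 : IsPGroup r (Subgroup.zpowers a) := ST.isPGroup_zpowers_of_pow ha
  obtain ⟨S⟩ : Nonempty (Sylow 2 K) := inferInstance
  obtain ⟨Q, hQ⟩ := h1.nonempty_fixed_point_of_prime_not_dvd_card (Sylow 2 K) fun h2 =>
    hrK ((h2.trans S.card_dvd_index).trans (Subgroup.index_dvd_card _))
  have h2 : a • Q = Q := hQ ⟨a, Subgroup.mem_zpowers a⟩
  have h3 : Nat.card ((Q : Subgroup K).map K.subtype) = 2 ^ (Nat.card K).factorization 2 := by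
    rw [Subgroup.card_map_of_injective K.subtype_injective, Q.card_eq_multiplicity]
  obtain ⟨w, hw, h4, h5⟩ := exists_comm_of_normalizes hr hy (Q := (Q : Subgroup K).map K.subtype) (by
    refine Subgroup.mem_normalizer_fintype ?_
    rintro _ ⟨y, hy, rfl⟩
    have h6 : a • y ∈ ((a • Q : Sylow 2 K) : Subgroup K) := ⟨y, hy, rfl⟩
    rw [h2] at h6
    exact ⟨_, h6, rfl⟩) (h3 ▸ h)
  obtain ⟨k, -, hk⟩ := (Nat.dvd_prime_pow Nat.prime_two).1 (h3 ▸ Subgroup.orderOf_dvd_natCard _ hw)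
  have h6 : 2 ∣ orderOf w := hk ▸ dvd_pow_self 2 fun h7 => h4 (by simpa [h7] using hk)
  exact ⟨w ^ (orderOf w / 2), pow_mem (Subgroup.map_subtype_le _ hw) _,
    orderOf_pow_orderOf_div (orderOf_pos w).ne' h6, h5.pow_left _⟩

theorem Setup.exists_invol [Finite G] {p e c r : ℕ} {x : G} (h : Setup p x) (hp : p ≠ 2)
    (hc : Nat.card (C x) = c * p) (he : Nat.card (N x) = e * Nat.card (C x)) (hr : r.Prime)
    (h1 : r ∣ e) (h2 : ¬ r ∣ c * p) (h3 : 2 ^ c.factorization 2 % r ≠ 1 % r) :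
    ∃ u ∈ C x, orderOf u = 2 ∧ r ∣ Nat.card (N x ⊓ C u : Subgroup G) := by
  obtain ⟨y, hy, h4⟩ := exists_mem_orderOf (H := N x) hr (he ▸ h1.mul_right _)
  obtain ⟨u, hu, h5, h6⟩ := exists_invol_comm hr h4 (K := C x)
    (Subgroup.mem_normalizer_fintype fun g hg => conj_mem_C ⟨y, hy⟩ hg) (hc ▸ h2) (by
      rwa [hc, Nat.factorization_mul (by rintro rfl; simp at h2) h.prime.ne_zero, Finsupp.add_apply,
        h.prime.factorization, Finsupp.single_eq_of_ne hp.symm, add_zero])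
  exact ⟨u, hu, h5, h4 ▸ Subgroup.orderOf_dvd_natCard _ ⟨hy, mem_C.2 h6.symm⟩⟩

theorem Setup.card_N_le [Finite G] {p c : ℕ} {x : G} (h : Setup p x) (hp : p ≠ 2)
    (hc : Nat.card (C x) = c * p) {u : G} (hu : orderOf u = 2) (hux : u ∈ C x) :
    Nat.card (N x) ≤ Nat.card (N x ⊓ C u : Subgroup G) * (c - 1) := by
  classical
  have := Fintype.ofFinite G
  have hpu : ¬ p ∣ orderOf u := fun h1 =>
    hp ((Nat.prime_dvd_prime_iff_eq h.prime Nat.prime_two).1 (hu ▸ h1))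
  let s : Finset G := univ.filter (· ∈ N x)
  have h5 : s.card ≤ Nat.card (N x ⊓ C u : Subgroup G) * (s.image fun n => n * u * n⁻¹).card := by
    refine card_le_mul_card_image s _ fun a ha => ?_
    obtain ⟨n, hn, rfl⟩ := mem_image.1 ha
    rw [Nat.subtype_card (univ.filter (· ∈ N x ⊓ C u)) (by simp)]
    refine card_le_card_of_injOn (fun m => n⁻¹ * m) (fun m hm => ?_) fun a _ b _ hab => by
      simpa using hab
    simp only [s, coe_filter, mem_filter, Set.mem_setOf_eq, mem_univ, true_and,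
      Subgroup.mem_inf, mem_C] at hm hn ⊢
    refine ⟨mul_mem (inv_mem hn) hm.1, ?_⟩
    calc n⁻¹ * m * u = n⁻¹ * (m * u * m⁻¹) * m := by group
      _ = u * (n⁻¹ * m) := by rw [hm.2]; group
  have h6 : (s.image fun n => n * u * n⁻¹).card ≤ c - 1 := by
    have h7 : cc x = c := Nat.eq_of_mul_eq_mul_right h.prime.pos (h.card_C.symm.trans hc)
    have := Fintype.ofFinite (V x).ker
    rw [← h7, ← h.card_ker, Nat.card_eq_fintype_card, ← card_univ,
      ← card_erase_of_mem (mem_univ (1 : (V x).ker))]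
    refine le_trans (card_le_card fun a ha => ?_)
      (card_image_le (f := fun k : (V x).ker => ((k : C x) : G)))
    obtain ⟨n, hn, rfl⟩ := mem_image.1 ha
    have h8 : orderOf (n * u * n⁻¹) = 2 := (orderOf_conj'' n u).trans hu
    refine mem_image.2 ⟨⟨⟨_, conj_mem_C ⟨n, (mem_filter.1 hn).2⟩ hux⟩,
      (h.V_eq_one_iff _).2 (by rwa [h8, ← hu])⟩, mem_erase.2 ⟨fun h9 => ?_, mem_univ _⟩, rfl⟩
    have h10 : n * u * n⁻¹ = 1 := congrArg (fun k : (V x).ker => ((k : C x) : G)) h9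
    simp [h10] at h8
  rw [Nat.subtype_card s (by simp [s])]
  exact h5.trans (Nat.mul_le_mul_left _ h6)

theorem Setup.card_sylow [Finite G] {p : ℕ} {x : G} (h : Setup p x) [Fact p.Prime]
    {H : Subgroup G} (hx : x ∈ H) :
    Nat.card H = Nat.card (Sylow p H) * Nat.card (N x ⊓ H : Subgroup G) := by
  obtain ⟨Q, hQ⟩ := PS.exists_sylow_eq h.sq h.ord
  have hle : (Q : Subgroup G) ≤ H := hQ ▸ Subgroup.zpowers_le.2 hx
  rw [(Q.subtype hle).card_eq_index_normalizer]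
  change _ = (Subgroup.normalizer (((Q : Subgroup G).subgroupOf H : Subgroup H) : Set H)).index * _
  rw [← Subgroup.subgroupOf_normalizer_eq hle, hQ, ← Subgroup.relIndex,
    ← Subgroup.inf_relIndex_right]
  exact (M11.relIndex_mul_card inf_le_right).symm

theorem Setup.czOK2 [Finite G] {p e c g : ℕ} {x : G} (h : Setup p x) [Fact p.Prime] (hp : p ≠ 2)
    (h4 : 4 ∣ Nat.card G) (hc : Nat.card (C x) = c * p) (he : Nat.card (N x) = e * Nat.card (C x))
    {u : G} (hu : orderOf u = 2) (hux : u ∈ C x) (hg : g ∣ Nat.card (N x ⊓ C u : Subgroup G))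
    {f : ℕ → ℕ → Bool} (hf : f (Nat.card (C u)) (Nat.card (Sylow p (C u))) = true) :
    czOK2 p e c g f (Nat.card (C u)) = true := by
  have h1 := h.card_sylow (H := C u) (mem_C.2 (mem_C.1 hux).symm)
  have h2 := h.card_N_le hp hc hu hux
  have h3 : 0 < Nat.card (N x ⊓ C u : Subgroup G) := Nat.card_pos
  have h5 := (Nat.div_eq_of_eq_mul_left h3 h1)
  have hN : Nat.card (N x) = e * c * p := by rw [he, hc, mul_assoc]
  simp only [Srch.czOK2, Bool.and_eq_true, Nat.beq_eq, List.any_eq_true, Nat.ble_eq]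
  exact ⟨⟨Nat.mod_eq_zero_of_dvd (four_dvd_C h4 hu),
    Nat.mod_eq_zero_of_dvd (hg.trans (Subgroup.card_dvd_of_le inf_le_right))⟩, _,
    mem_divs (hN ▸ Nat.card_pos) (hN ▸ Subgroup.card_dvd_of_le inf_le_left),
    ⟨⟨⟨Nat.mod_eq_zero_of_dvd hg, Nat.mod_eq_zero_of_dvd (Subgroup.card_dvd_of_le inf_le_right)⟩,
      h5 ▸ Eq.trans (card_sylow_modEq_one p (C u)) (Nat.mod_eq_of_lt h.prime.one_lt)⟩, hN ▸ h2⟩,
    h5.symm ▸ hf⟩

theorem four_dvd_inf [Finite G] {x u : G} (h4 : 4 ∣ Nat.card (C x)) (hu : orderOf u = 2)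
    (hux : u ∈ C x) : 4 ∣ Nat.card (N x ⊓ C u : Subgroup G) := by
  refine (four_dvd_C h4 (u := ⟨u, hux⟩) ((Subgroup.orderOf_mk _ _).trans hu)).trans ?_
  rw [← Subgroup.card_map_of_injective (C x).subtype_injective]
  refine Subgroup.card_dvd_of_le ?_
  rintro _ ⟨y, hy, rfl⟩
  exact ⟨C_le_N x y.2, mem_C.2 (congrArg Subtype.val (mem_C.1 hy))⟩

namespace Blk

variable [Fintype G] {p e : ℕ} {x : G} {X Y : Finset (IrrCharacter G)}
  {δ : IrrCharacter G → ℤ} {ε : ℤ}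

theorem dvd_sub_deg (h : Blk p e x X Y δ ε) {w : G} (hw : p ∣ Nat.card (C w))
    (hp : ¬ p ∣ orderOf w) {v : IrrCharacter G → ℤ}
    (hv : ∀ χ : IrrCharacter G, (χ : G → ℂ) w = v χ) {χ : IrrCharacter G} (hχ : χ ∈ X ∨ χ ∈ Y) :
    (p : ℤ) ∣ v χ - charDegree (χ : G → ℂ) := by
  have h1 : ∀ χ ∈ X, v χ ≡ charDegree (χ : G → ℂ) [ZMOD p] := fun χ hχ => by
    obtain ⟨y, hyu, hy⟩ := exists_mem_orderOf h.setup.prime hw
    refine Int.ModEq.trans (Int.modEq_iff_dvd.2 ?_) (h.deg χ hχ).symm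
    refine CT.modEq_mul χ.isCharacter h.setup.prime (CT.pow_prime_eq_one hy) (mem_C.1 hyu)
      (h.sing χ hχ _ ?_) (hv χ)
    rw [(h.setup.of_orderOf hy).orderOf_mul (mem_C.2 (mem_C.1 hyu).symm) hp]
    exact dvd_mul_right _ _
  rcases hχ with hχ | hχ
  · exact (h1 χ hχ).symm.dvd
  · have h2 := h.rel w hp χ hχ
    simp only [hv] at h2
    norm_cast at h2
    have h3 : ∑ ψ ∈ X, δ ψ * charDegree (ψ : G → ℂ) ≡ ∑ ψ ∈ X, δ ψ * v ψ [ZMOD p] :=
      Int.ModEq.sum fun ψ hψ => (h1 ψ hψ).symm.mul_left _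
    rw [h2, h.deg_rel hχ] at h3
    have h4 := h3.dvd
    rw [← mul_sub] at h4
    rcases h.sign_Y with h5 | h5 <;> simpa [h5, dvd_sub_comm] using h4

end Blk

namespace BD

variable [Fintype G] [IsSimpleGroup G] {p e c : ℕ} {D : ℤ} {l : List ℤ} (B : BD G p e c D l)
  {n : ℕ} (hn : Nat.card G = n) (hG : ¬ n.Prime)
include B hn hG

theorem mem_sdegs : D ∈ sdegs n (n / (c * p)) p e (stan p c e) ∧
    ∀ χ ∈ B.L, sd B.δ χ ∈ sdegs n (n / (c * p)) p 1 (stan p c 1) := by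
  subst hn
  have h := B.blk
  have hperf := CT.commutator_eq_top hG
  have hi := index_C_eq rfl B.hc
  have hm : 0 < Nat.card G / (c * p) := hi ▸ Nat.pos_of_ne_zero Subgroup.index_ne_zero_of_finite
  have hC : c ≠ 1 → Nat.card (C B.x) ≠ p := fun h1 h2 =>
    h1 (Nat.eq_of_mul_eq_mul_right h.setup.prime.pos (by rw [← B.hc, h2, one_mul]))
  refine ⟨B.hD ▸ mem_sdegs_of hperf rfl hm (h.ne_one_Y B.hθ) h.sign_Y (h.deg_Y _ B.hθ)
    (hi ▸ h.dvd_index_Y B.hθ)
    (stan_of h.sign_Y h.e_pos h.e_lt fun h5 => h.stanton_Y hG (hC h5) B.hθ), fun χ hχ => ?_⟩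
  obtain ⟨h1, h2⟩ := B.lst.mem_of hχ
  exact mem_sdegs_of hperf rfl hm h2 (h.sign χ h1) (by simpa using h.deg χ h1)
    (hi ▸ h.dvd_index_X h1) (stan_of (h.sign χ h1) one_pos h.setup.prime.one_lt fun h6 => by
      simpa using h.stanton_X hG (hC h6) h1 h2)

theorem anyL (h4 : 4 ∣ n) (hp : p ≠ 2) {L : List ℕ} {u : G} (hu : orderOf u = 2)
    (hL : Nat.card (C u) ∈ L) : anyL n p e c L D l = true := by
  obtain ⟨v, hv⟩ := CT.exists_col_invol (u := u) (by rw [← pow_two, ← hu, pow_orderOf_eq_one])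
  exact List.any_eq_true.2 ⟨_, hL, B.anyC hn hG h4 hp hu hv (fun _ _ => rfl) rfl⟩

theorem anyD (hp : p ≠ 2) {q : ℕ} {L : List ℕ} {u : G} (hu : orderOf u = 2)
    (hL : Nat.card (C u) ∈ L) (h1 : p ∣ Nat.card (C u)) (h2 : ¬ q ∣ Nat.card (C u)) :
    anyD n p e c q L D l = true := by
  obtain ⟨v, hv⟩ := CT.exists_col_invol (u := u) (by rw [← pow_two, ← hu, pow_orderOf_eq_one])
  refine List.any_eq_true.2 ⟨_, hL, ?_⟩
  simp only [Bool.and_eq_true, Bool.not_eq_true', ← Bool.not_eq_true, List.isEmpty_iff]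
  refine ⟨List.ne_nil_of_mem (a := v B.θ) ?_,
    fun h => Bool.false_ne_true (B.colR hn hG hp hu rfl hv (fun _ _ => rfl) h)⟩
  have h3 := okv_of (hn ▸ hG) hu rfl hv (B.blk.ne_one_Y B.hθ)
  have h4 := CT.col_le {B.θ} u v fun ψ _ => hv ψ
  have h5 := B.blk.dvd_sub_deg h1 (fun h => hp
    ((Nat.prime_dvd_prime_iff_eq B.blk.setup.prime Nat.prime_two).1 (hu ▸ h))) hv (.inr B.hθ)
  rw [sum_singleton, pow_two] at h4
  rw [← B.natAbs_D, hn] at h3
  refine List.mem_filter.2 ⟨mem_cand ?_ h4 h3 fun h => absurd h h2, ?_⟩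
  · rw [← B.sign_D]
    rcases B.blk.sign_Y with h | h <;> simp [h]
  · rw [h3]
    simp only [Bool.and_eq_true, Bool.or_eq_true, Bool.not_eq_true', ← Bool.not_eq_true,
      Nat.beq_eq, true_and, B.natAbs_D]
    exact ⟨.inl fun h => h2 (Nat.dvd_of_mod_eq_zero h),
      Nat.mod_eq_zero_of_dvd (Int.natCast_dvd.1 h5)⟩

end BD

end Cfsg.Agent.Inv.PB
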