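import Mathlib
import Cfsg.Agent.Inv.M24G3

/-!
Simple groups of order 244823040: the searches for the centralizers of the elements of orders
23 and 11.
-/

set_option autoImplicit false

namespace Cfsg.Agent.Inv.M24

open Cfsg.Agent.Inv.Srch Cfsg.Agent.Inv.Sieve

theorem s23 : (locAll 244823040 23 fun e c => Nat.beq c 1 ||
    (Nat.beq e 2 && blkAll2 244823040 23 e c (fun _ => true) (fun _ => true) fun _ _ => false) ||
    (Nat.beq (e % 11) 0 && (sdegs 244823040 (244823040 / (c * 23)) 23 e (stan 23 c e) ++
      sdegs 244823040 (244823040 / (c * 23)) 23 1 (stan 23 c 1)).all fun a =>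
        Nat.beq (a.natAbs % 2) 0 || ([576, 288, 24, 12].elem c && [231, 495].elem a.natAbs))) =
    true := by
  decide +kernel

/-- The possible degrees when the elements of order 23 are self-centralizing. -/
def ok1 (a : ℤ) : Bool := okd 23 11 a.natAbs && Nat.ble 21 a.natAbs

theorem s77 : (locAll 244823040 7 fun e c => (!Nat.beq (c % 11) 0 || Nat.beq (c % 23) 0) ||
    blkAll2 244823040 7 e c ok1 ok1 fun D l => D == 24 && l == [-69, 92]) = true := by
  decide +kernel

/-- Centralizer orders divisible by 44 and prime to 23. -/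
def L11 : List ℕ := (divs 10644480).filter fun cz => Nat.beq (cz % 44) 0

theorem s11 : (locAll 244823040 11 fun e c => Nat.beq c 1 || Nat.beq (c % 7) 0 ||
    Nat.beq (c % 23) 0 || [(5, 288), (5, 24), (5, 2), (10, 12)].elem (e, c) ||
    blkAll2 244823040 11 e c (fun a => ok1 a && (Nat.beq (c % 2) 1 || !Nat.beq a.natAbs 23))
      (fun a => ok1 a && (Nat.beq (c % 2) 1 || !Nat.beq a.natAbs 23)) fun D l =>
      (Nat.beq c 5 && D == 24 && l == [23]) ||
        (Nat.beq (c % 2) 0 && !anyL 244823040 11 e c L11 D l)) = true := by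
  decide +kernel

/-- The excluded numbers of Sylow subgroups. -/
def fk (cz k : ℕ) : Bool := !Nat.beq (887040 % cz) 0 || !(Nat.beq k 56 || Nat.beq k 672)

theorem sS : ((divs 1440).all fun j => Nat.beq j 1440 || locAll (616 * j) 11 fun e c =>
    fk 1 (616 * j / (e * (c * 11))) ||
    blkAll2 (616 * j) 11 e c (fun _ => true) (fun _ => true) fun _ _ =>
      Nat.beq c 1 && [(60, 5), (120, 10)].elem (j, e)) = true := by
  decide +kernel

theorem sS7 : ([(60, 5), (120, 10)].all fun a : ℕ × ℕ => locAll (616 * a.1) 7 fun e c =>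
    Nat.beq (c % 11) 0 || blkAll2 (616 * a.1) 7 e c (fun d => okd 11 a.2 d.natAbs)
      (fun d => okd 11 a.2 d.natAbs) fun D l => !anyZ (616 * a.1) 7 e c
        (fun cz => Nat.beq (616 * a.1 / cz % 2) 1 && !Nat.beq (cz % 11) 0) D l) = true := by
  decide +kernel

/-- The centralizer orders for the four remaining cases. -/
def CV : ℕ → List ℕ
  | 288 => [220, 440, 660, 880, 1320, 1760, 1980, 2640, 3960, 5280, 7920, 10560, 11880, 15840,
      21120, 23760, 31680, 47520, 63360, 95040, 126720, 190080, 253440, 380160, 591360,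
      665280, 760320, 887040, 1182720, 1330560, 1520640, 1774080, 2661120, 3548160, 5322240,
      10644480]
  | 24 => [220, 440, 660, 1320, 2640, 3960, 5280, 7920, 15840, 31680, 47520, 63360, 95040, 190080,
      380160, 760320, 887040, 1774080, 2661120, 3548160, 5322240, 10644480]
  | _ => [1320, 15840, 190080, 887040, 10644480]

theorem sCV : ((divs 10644480).all fun cz =>
    (!czOK2 11 5 288 110 fk cz || (CV 288).elem cz) && (!czOK2 11 5 24 110 fk cz || (CV 24).elem cz) &&
    (!czOK2 11 5 2 110 fk cz || (CV 2).elem cz) &&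
    (!czOK2 11 10 12 220 fk cz || (iv2 244823040 cz 23 (fun a v => Nat.beq ((v - a).natAbs % 11) 0)
      3840).all fun v => Nat.beq cz 15840 && v == -120)) = true := by
  decide +kernel

/-- The possible degrees in the four remaining cases. -/
def ok2 (a : ℤ) : Bool := ok1 a && !Nat.beq a.natAbs 23 && !Nat.beq a.natAbs 45

theorem s12 : ((sdegs 244823040 (244823040 / (12 * 11)) 11 1 (stan 11 12 1) ++
    (sdegs 244823040 (244823040 / (12 * 11)) 11 10 (stan 11 12 10)).map fun a => -a).all fun a =>
      !ok2 a || a == 3840 || a % 23 == 0 || a % 23 == 1) = true := by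
  decide +kernel

theorem s288 : (blkAll2 244823040 11 5 288 ok2 ok2 fun D l =>
    !anyD 244823040 11 5 288 23 (CV 288) D l) = true := by
  decide +kernel

end Cfsg.Agent.Inv.M24
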