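import Mathlib
import Cfsg.Agent.Inv.M24S1

/-!
Simple groups of order 244823040: two more searches for the prime 11, and the prime 5.
-/

set_option autoImplicit false

namespace Cfsg.Agent.Inv.Srch

/-- The normalized singular sum of a member of the principal block of degree `d`. -/
def tg (p e d : ℕ) : ℤ := bif okd p e d then tf p e d else 0

/-- Some choice of the singular sums vanishes. -/
def tsum (p e : ℕ) : List ℤ → ℤ → Bool
  | [], s => s == 0
  | a :: l, s => tsum p e l s || tsum p e l (s + a.sign * tg p e a.natAbs)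

theorem tsum_of {ι : Type*} {p e : ℕ} (d t : ι → ℤ) : ∀ (L : List ι) (s : ℤ),
    (∀ i ∈ L, t i = 0 ∨ t i = tg p e (d i).natAbs) →
    s + (L.map fun i => (d i).sign * t i).sum = 0 → Srch.tsum p e (L.map d) s = true
  | [], s, _, h => by simpa [Srch.tsum] using h
  | i :: L, s, h1, h => by
    have ih := fun s => tsum_of d t L s (fun j hj => h1 j (by simp [hj])) (p := p) (e := e)
    rw [List.map_cons, List.sum_cons, ← add_assoc] at h
    simp only [List.map_cons, Srch.tsum, Bool.or_eq_true]
    rcases h1 i (by simp) with h2 | h2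
    · exact .inl (ih _ (by simpa [h2] using h))
    · exact .inr (ih _ (h2 ▸ h))

end Cfsg.Agent.Inv.Srch

namespace Cfsg.Agent.Inv.M24

open Cfsg.Agent.Inv.Srch Cfsg.Agent.Inv.Sieve

theorem s24 : (blkAll2 244823040 11 5 24 ok2 ok2 fun D l =>
    !anyD 244823040 11 5 24 23 (CV 24) D l) = true := by
  decide +kernel

theorem s2 : (blkAll2 244823040 11 5 2 ok2 ok2 fun D l =>
    !anyD 244823040 11 5 2 23 (CV 2) D l || !btq 3 3 D l) = true := by
  decide +kernel

/-- The possible degrees. -/
def ok (a : ℤ) : Bool := ok1 a && okd 11 10 a.natAbs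

theorem s5 : (locAll 244823040 5 fun e c => (Nat.beq (c % 11) 0 || Nat.beq (c % 23) 0 ||
    Nat.beq (c % 2) 1) || blkAll2 244823040 5 e c ok ok fun D l =>
      (!Nat.beq (c % 3) 0 && !btq 3 3 D l) ||
      (!Nat.beq (c % 7) 0 && !([2, 3, 6].any fun e' => tsum 7 e' (-D :: l) 6)) ||
      (Nat.beq e 4 && [192, 12].elem c && D == -5796 && l == [1771, -2024, -5544])) = true := by
  decide +kernel

end Cfsg.Agent.Inv.M24
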