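import Mathlib
import Cfsg.Agent.Inv.M24S2

/-!
Simple groups of order 244823040: the centralizers of the elements of orders 23 and 11 and the
principal block for the prime 5.
-/

set_option autoImplicit false

namespace Cfsg.Agent.Inv

open Finset Cfsg.Agent.Ch Cfsg.Agent.Inv.PB Cfsg.Agent.Inv.M11 Cfsg.Agent.Inv.Srch
  Cfsg.Agent.Inv.Sieve

universe u

variable {G : Type u} [Group G]

namespace PB

theorem fact_eq {n p : ℕ} (k m : ℕ) (hp : p.Prime := by norm_num) (h : n = p ^ k * m := by norm_num)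
    (hm : ¬ p ∣ m := by norm_num) : n.factorization p = k := by
  rw [h, Nat.factorization_mul (pow_ne_zero _ hp.ne_zero) (by rintro rfl; simp at hm),
    hp.factorization_pow, Finsupp.add_apply, Finsupp.single_eq_same,
    Nat.factorization_eq_zero_of_not_dvd hm, add_zero]

theorem Setup.tau_tg [Fintype G] {p e : ℕ} {x : G} (h : Setup p x)
    (hN : Nat.card (N x) = e * Nat.card (C x)) (he : 1 < e) (hp : p % 2 = 1)
    (χ : IrrCharacter G) : tau p x χ = 0 ∨ tau p x χ = tg p e (charDegree (χ : G → ℂ)) := by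
  obtain ⟨X, Y, δ, ε, B⟩ := h.exists_blk hN
  have h1 := B.e_lt
  unfold tg tf Srch.okd
  by_cases hX : χ ∈ X
  · rw [B.tau_X hX]
    rcases mod_of_modEq one_pos h.prime.one_lt (B.sign χ hX) (by simpa using B.deg χ hX) with
      ⟨h2, h3⟩ | ⟨h2, h3⟩ <;> rw [h2, Bool.cond_pos (by simp [h3])] <;> split_ifs <;> omega
  by_cases hY : χ ∈ Y
  · rw [B.tau_Y hY]
    rcases mod_of_modEq B.e_pos h1 B.sign_Y (B.deg_Y χ hY) with ⟨h2, h3⟩ | ⟨h2, h3⟩ <;>
      rw [h2, Bool.cond_pos (by simp [h3])] <;> split_ifs <;> omega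
  exact .inl (B.tau_other hX hY)

theorem dvd_val [Finite G] {r : ℕ} (hr : r.Prime) (h2 : ¬ r ^ 2 ∣ Nat.card G) {w : G}
    (hw : r ∣ Nat.card (C w)) (h1 : ¬ r ∣ orderOf w) {χ : IrrCharacter G}
    (hd : r ∣ charDegree (χ : G → ℂ)) {v : ℤ} (hv : (χ : G → ℂ) w = v) : (r : ℤ) ∣ v := by
  obtain ⟨y, h3, hy⟩ := exists_mem_orderOf hr hw
  exact Setup.dvd_of_dvd_deg ⟨hr, hy, h2⟩ hd (mem_C.1 h3) h1 hv

theorem mem_iv2 [Finite G] [IsSimpleGroup G] {n q : ℕ} (hn : Nat.card G = n) (hG : ¬ n.Prime)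
    {u : G} (hu : orderOf u = 2) (hq : ¬ q ∣ Nat.card (C u)) {v : IrrCharacter G → ℤ}
    (hv : ∀ χ : IrrCharacter G, (χ : G → ℂ) u = v χ) {χ : IrrCharacter G} (h1 : χ ≠ irrOne G)
    {ex : ℕ → ℤ → Bool} (hex : ex (charDegree (χ : G → ℂ)) (v χ) = true) :
    v χ ∈ iv2 n (Nat.card (C u)) q ex (charDegree (χ : G → ℂ)) := by
  have h3 := okv_of (hn ▸ hG) hu rfl hv h1
  have h4 := CT.col_le {χ} u v fun ψ _ => hv ψ
  rw [sum_singleton, pow_two] at h4
  rw [hn] at h3
  refine List.mem_filter.2 ⟨mem_cand ?_ h4 h3 fun h => absurd h hq, ?_⟩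
  · rw [Int.sign_eq_one_of_pos (by exact_mod_cast χ.2.charDegree_pos), mul_one]
  · rw [Int.natAbs_natCast, h3, hex]
    rw [Bool.eq_false_iff.2 fun h => hq (Nat.dvd_of_mod_eq_zero (Nat.beq_eq ▸ h))]
    rfl

theorem ok_blk [Fintype G] {p e : ℕ} {x : G} {ok : ℤ → Bool} (h : ∀ X Y δ ε, Blk p e x X Y δ ε →
    ∀ χ, χ ∈ X ∨ χ ∈ Y → χ ≠ irrOne G → ∀ a : ℤ, a.natAbs = charDegree (χ : G → ℂ) → ok a = true) :
    ∀ X Y δ ε, Blk p e x X Y δ ε → (∀ χ ∈ X, χ ≠ irrOne G → ok (sd δ χ) = true) ∧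
      ∀ θ ∈ Y, ok (ε * charDegree (θ : G → ℂ)) = true := fun X Y δ ε B =>
  ⟨fun χ h1 h2 => h X Y δ ε B χ (.inl h1) h2 _ (natAbs_sign_mul (B.sign χ h1) _),
    fun θ h1 => h X Y δ ε B θ (.inr h1) (B.ne_one_Y h1) _ (natAbs_sign_mul B.sign_Y _)⟩

theorem not_simple_C [Finite G] {u : G} (hu : orderOf u = 2) (h : 4 ∣ Nat.card G) :
    ¬ IsSimpleGroup (C u) := fun _ => by
  have h1 : (Subgroup.zpowers (⟨u, mem_C_self u⟩ : C u)).Normal := ⟨fun a ha g => by
    obtain ⟨k, rfl⟩ := Subgroup.mem_zpowers_iff.1 ha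
    rwa [← (show Commute (⟨u, mem_C_self u⟩ : C u) g from
      Subtype.ext (mem_C.1 g.2).symm).zpow_left k |>.eq, mul_inv_cancel_right]⟩
  have h2 : Nat.card (Subgroup.zpowers (⟨u, mem_C_self u⟩ : C u)) = 2 := by
    rw [Nat.card_zpowers, ← Subgroup.orderOf_coe, hu]
  have h3 := four_dvd_C h hu
  rcases h1.eq_bot_or_eq_top with h4 | h4 <;> rw [h4] at h2
  · simp at h2
  · rw [Subgroup.card_top] at h2
    omega

namespace BD

variable [Fintype G] {p e c : ℕ} {D : ℤ} {l : List ℤ} (B : BD G p e c D l)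
include B

theorem sum_all : (-D :: l).sum = -1 := by
  have h := B.sum_L
  rw [B.hl] at h
  rw [List.sum_cons]
  omega

theorem length_l : l.length + 1 = e := by
  have h := B.length_L
  rwa [← List.length_map (sd B.δ), B.hl] at h

theorem exists_mem {a : ℤ} (ha : a ∈ -D :: l) :
    ∃ χ ∈ B.F, a.natAbs = charDegree (χ : G → ℂ) := by
  obtain ⟨χ, hχ, rfl⟩ := List.mem_map.1 (B.map_ite ▸ ha)
  refine ⟨χ, ?_, B.natAbs_ite hχ⟩
  rcases List.mem_cons.1 hχ with rfl | h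
  exacts [List.mem_append_left _ (mem_toList.2 B.hθ), List.mem_append_right _ h]

theorem map_deg : B.L.map (fun χ : IrrCharacter G => charDegree (χ : G → ℂ)) = l.map Int.natAbs := by
  refine Eq.trans ?_ (congrArg _ B.hl)
  rw [List.map_map]
  exact List.map_congr_left fun χ hχ => (B.natAbs_sd hχ).symm

theorem cnt (d : ℕ) : (B.L.filter fun χ : IrrCharacter G => charDegree (χ : G → ℂ) == d).length =
    (l.map Int.natAbs).count d := by
  rw [← B.map_deg, List.count, List.countP_map, List.countP_eq_length_filter]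
  rfl

theorem uniq {d : ℕ} (h : (l.map Int.natAbs).count d = 1) : ∃ χ ∈ B.L,
    charDegree (χ : G → ℂ) = d ∧ ∀ ψ ∈ B.L, charDegree (ψ : G → ℂ) = d → ψ = χ := by
  obtain ⟨χ, h1⟩ := List.length_eq_one_iff.1 ((B.cnt d).trans h)
  obtain ⟨h2, h3⟩ := List.mem_filter.1 (h1 ▸ List.mem_singleton_self χ)
  exact ⟨χ, h2, by simpa using h3, fun ψ h4 h5 =>
    List.mem_singleton.1 (h1 ▸ List.mem_filter.2 ⟨h4, by simpa using h5⟩)⟩

theorem sd_mem {χ : IrrCharacter G} (h : χ ∈ B.L) : sd B.δ χ ∈ l :=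
  (congrArg (sd B.δ χ ∈ ·) B.hl).mp (List.mem_map_of_mem h)

theorem key [IsSimpleGroup G] (hG : ¬ (Nat.card G).Prime) {d r : ℕ}
    (h1 : (l.map Int.natAbs).count d = 1) (hD : D.natAbs ≠ d) (hd : d ≠ 1) (hr : r.Prime)
    (hpr : p ≠ r) (hc : r ∣ c) : ∃ (v s : ℤ) (k : ℕ), s * d ∈ l ∧ (p : ℤ) ∣ s - v ∧
      d + (r - 1) * v = r * k ∧ |v| < d := by
  obtain ⟨χ, h2, rfl, h3⟩ := B.uniq h1
  obtain ⟨h7, h8⟩ := B.lst.mem_of h2
  obtain ⟨w, hw, h4⟩ := CT.exists_commute_of_dvd (g := B.x) hr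
    (by rw [show Nat.card (Subgroup.centralizer {B.x}) = c * p from B.hc]; exact hc.mul_right p)
  obtain ⟨v, hv⟩ := B.blk.int_of_unique (.inl h7) (fun ψ hψ h9 => by
    rcases hψ with h10 | h10
    · rcases List.mem_cons.1 ((B.lst.mem ψ).1 h10) with rfl | h11
      · exact absurd (h9.symm.trans deg_irrOne) hd
      · exact h3 ψ h11 h9
    · exact absurd ((B.deg_Y h10).symm.trans h9) hD) w
  exact ⟨v, _, _, B.sd_mem h2, B.blk.dvd_sub h7 h4.symm (fun h => hpr
    ((Nat.prime_dvd_prime_iff_eq B.blk.setup.prime hr).1 (hw ▸ h))) hv,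
    CT.fix_prime χ.isCharacter hv hr hw,
    CT.abs_lt_deg hG h8 (CT.ne_one_of_orderOf hw hr.ne_one) hv⟩

theorem not_dvd_order {q : ℕ} (hq : q.Prime) (hpq : p ≠ q) (hc : ¬ q ∣ c) {g : G}
    (hg : q ∣ orderOf g) : ¬ p ∣ orderOf g := fun h => B.no_order hq hpq hc _
  (orderOf_pow_orderOf_div (orderOf_pos g).ne'
    (((Nat.coprime_primes B.blk.setup.prime hq).2 hpq).mul_dvd_of_dvd_of_dvd h hg))

open Classical in
theorem rel_sign {g : G} (hg : ¬ p ∣ orderOf g) : ((B.θ :: B.L).map fun χ =>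
    (((if χ = B.θ then -D else sd B.δ χ).sign : ℤ) : ℂ) * (χ : G → ℂ) g).sum = (-1 : ℤ) := by
  have hs : ∀ χ ∈ B.L, (if χ = B.θ then -D else sd B.δ χ).sign = B.δ χ := fun χ hχ => by
    rw [if_neg fun h5 : χ = B.θ => B.blk.disj χ (B.lst.mem_of hχ).1 (h5 ▸ B.hθ)]
    exact sign_sign_mul (B.blk.sign χ (B.lst.mem_of hχ).1) χ.2.charDegree_pos
  have h2 := B.rel hg B.hθ
  rw [List.map_cons, List.sum_cons, if_pos rfl, Int.sign_neg, ← B.sign_D,
    List.map_congr_left fun χ hχ => by rw [hs χ hχ]]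
  simp only [Int.cast_neg, Int.cast_one]
  linear_combination h2

theorem tsum {r e' : ℕ} {y : G} (h : Setup r y) (hN : Nat.card (N y) = e' * Nat.card (C y))
    (he : 1 < e') (hr : r % 2 = 1) (hpr : p ≠ r) (hc : ¬ r ∣ c) :
    Srch.tsum r e' (-D :: l) (r - 1) = true := by
  classical
  have h1 := h.tau_list id (fun χ => (if χ = B.θ then -D else sd B.δ χ).sign) (B.θ :: B.L) (s := -1)
    fun g hg => B.rel_sign (B.not_dvd_order h.prime hpr hc hg)
  rw [← B.map_ite]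
  exact tsum_of _ (tau r y) _ _ (fun χ hχ => B.natAbs_ite hχ ▸ h.tau_tg hN he hr χ) (by
    simp only [id] at h1
    rw [h1]; ring)

theorem mem_F_of {χ : IrrCharacter G} (hχ : χ ∈ B.θ :: B.L) : χ ∈ B.F := by
  rcases List.mem_cons.1 hχ with rfl | h
  exacts [List.mem_append_left _ (mem_toList.2 B.hθ), List.mem_append_right _ h]

/-- One value of a column cannot be too large. -/
theorem cs {u : G} (hu : ¬ p ∣ orderOf u) {v : IrrCharacter G → ℤ}
    (hv : ∀ χ : IrrCharacter G, (χ : G → ℂ) u = v χ) {a : ℤ} (ha : a ∈ -D :: l) :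
    ∃ χ ∈ B.F, a.natAbs = charDegree (χ : G → ℂ) ∧
      (1 + a.sign * v χ).natAbs * (1 + a.sign * v χ).natAbs ≤
        (e - 1) * (Nat.card (C u) - 1 - (v χ).natAbs * (v χ).natAbs) := by
  classical
  obtain ⟨χ, hχ, rfl⟩ := List.mem_map.1 (B.map_ite ▸ ha)
  refine ⟨χ, B.mem_F_of hχ, B.natAbs_ite hχ, ?_⟩
  have h1 := B.rel_sign hu
  have h2 := sqs_le (L := B.θ :: B.L) (List.nodup_cons.2 ⟨fun h => B.blk.disj _ (B.lst.mem_of h).1
    B.hθ, (List.nodup_cons.1 B.lst.nodup).2⟩) (fun h => B.one_notMem (B.mem_F_of h)) hv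
  have h3 : (B.θ :: B.L).length = e := B.length_L
  obtain ⟨A, E, h4⟩ := List.append_of_mem hχ
  set s := fun ψ : IrrCharacter G => (if ψ = B.θ then -D else sd B.δ ψ).sign * v ψ with hs
  have h5 := sq_sum_le s (A ++ E)
  have h6 : ((A ++ E).map fun ψ => (s ψ).natAbs * (s ψ).natAbs).sum ≤ sqs ((A ++ E).map (rc v)) := by
    rw [sqs, List.map_map]
    refine List.sum_le_sum fun ψ _ => Nat.mul_self_le_mul_self ?_
    rw [hs, Int.natAbs_mul]
    exact mul_le_of_le_one_left' (by rw [Int.natAbs_sign]; split_ifs <;> simp)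
  have h7 : ((B.θ :: B.L).map s).sum = -1 := by
    simp only [hv] at h1
    apply Int.cast_injective (α := ℂ)
    rw [← h1, Int.cast_list_sum, List.map_map]
    exact congrArg _ (List.map_congr_left fun ψ _ => by simp [hs])
  rw [h4] at h2 h3 h7
  simp only [List.map_append, List.map_cons, List.sum_append, List.sum_cons, List.length_append,
    List.length_cons, sqs, rc] at h2 h3 h5 h6 h7
  rw [show 1 + _ = -((A.map s).sum + (E.map s).sum) by rw [eq_neg_iff_add_eq_zero]; linarith,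
    Int.natAbs_neg]
  exact h5.trans (Nat.mul_le_mul (by omega) (by omega))

theorem val [IsSimpleGroup G] (hG : ¬ (Nat.card G).Prime) (hp : p ≠ 2) {u : G} (hu : orderOf u = 2)
    (h1 : p ∣ Nat.card (C u)) {v : IrrCharacter G → ℤ}
    (hv : ∀ χ : IrrCharacter G, (χ : G → ℂ) u = v χ) {χ : IrrCharacter G} (hχ : χ ∈ B.F) :
    (p : ℤ) ∣ v χ - charDegree (χ : G → ℂ) ∧ 4 ∣ (charDegree (χ : G → ℂ) : ℤ) - v χ ∧
      |v χ| < charDegree (χ : G → ℂ) := by
  obtain ⟨m, h2, h3⟩ := CT.invol_val hG (B.mem_F.1 hχ).2 hu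
  obtain rfl : v χ = m := by exact_mod_cast (hv χ).symm.trans h2
  exact ⟨B.blk.dvd_sub_deg h1 (fun h => hp ((Nat.prime_dvd_prime_iff_eq B.blk.setup.prime
    Nat.prime_two).1 (hu ▸ h))) hv (B.mem_F.1 hχ).1, h3⟩

end BD

end PB

namespace M24

theorem syl (H : Type u) [Group H] [Finite H] (h : Nat.card H ∣ 887040) (h2 : ¬ IsSimpleGroup H) :
    fk 1 (Nat.card (Sylow 11 H)) = true := by
  have : Fact (Nat.Prime 11) := ⟨by norm_num⟩
  refine SN.card_sylow_mem (p := 11) (n := 887040) (by norm_num)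
    (SN.noPow_of_list (by norm_num) [2, 3, 5, 7, 11] (by simp; norm_num) (by decide +kernel))
    {k | fk 1 k = true} rfl (fun S _ _ _ hS h1 h3 h4 => ?_) _ H rfl h fun _ => h2
  have := Fintype.ofFinite S
  by_contra h5
  obtain ⟨x, hx⟩ := exists_prime_orderOf_dvd_card' (G := S) 11 h1
  have hs : Setup 11 x := ⟨by norm_num, hx, fun h => absurd (h.trans h3) (by norm_num)⟩
  obtain ⟨Q, hQ⟩ := PS.exists_sylow_eq hs.sq hx
  have h6 : Nat.card (N x) * Nat.card (Sylow 11 S) = Nat.card S := by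
    rw [Q.card_eq_index_normalizer]
    change _ * (Subgroup.normalizer ((Q : Subgroup S) : Set S)).index = _
    rw [hQ]
    exact (N x).card_mul_index
  have h7 : 56 ∣ Nat.card (Sylow 11 S) := by
    simp only [fk, Set.mem_setOf_eq, Bool.or_eq_true, Bool.not_eq_true', ← Bool.not_eq_true,
      Nat.beq_eq] at h5
    omega
  obtain ⟨j, hj⟩ : 616 ∣ Nat.card S := Nat.Coprime.mul_dvd_of_dvd_of_dvd (m := 56) (n := 11)
    (by norm_num) (h6 ▸ h7.mul_left _) h1
  have h8 := List.all_eq_true.1 sS j (mem_divs (by norm_num)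
    (Nat.dvd_of_mul_dvd_mul_left (k := 616) (by norm_num) (hj ▸ h3)))
  rw [Bool.or_eq_true, Nat.beq_eq] at h8
  replace h8 := h8.resolve_left (by rintro rfl; exact h4 hj)
  obtain ⟨e, c, hc, hN, h9⟩ := hs.loc hS hj h8
  rw [← hc, ← hN, ← hj, ← h6, Nat.mul_div_cancel_left _ Nat.card_pos, Bool.or_eq_true] at h9
  obtain ⟨-, -, -, -, h10⟩ := hs.exists_BD2 rfl hS hc hN
    (fun _ _ _ _ _ => ⟨fun _ _ _ => rfl, fun _ _ => rfl⟩) (h6 ▸ h9.resolve_left h5)
  rw [Bool.and_eq_true, Nat.beq_eq] at h10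
  obtain ⟨rfl, h10⟩ := h10
  rw [one_mul] at hc
  have h11 : ∀ y : S, orderOf y = 11 → Nat.card (C y) = 11 := fun y hy => (hs.card_C_eq hy).trans hc
  have h12 : ¬ 7 ^ 2 ∣ 616 * j := fun h => absurd ((hj ▸ h).trans h3) (by norm_num)
  have h13 : 4 ∣ 616 * j := by omega
  obtain ⟨e', c', D, l, ⟨A⟩, h14⟩ := exists_BD (p := 7) hj (hj ▸ hS) (by norm_num) (by omega) h12
    (fun y hy c hc => beq_false_of_sc (by norm_num) hs.sq h11 hy (by norm_num) (by norm_num)
      (Dvd.intro _ hc.symm)) (fun _ _ χ _ a ha => by rw [ha, and_self]; exact hs.okd hc hN χ)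
    (List.all_eq_true.1 sS7 _ (List.mem_of_elem_eq_true h10))
  obtain ⟨t, ht, h15⟩ := exists_cen hj h13
  rw [A.anyZ hj (hj ▸ hS) h13 (by norm_num) ht (by
    rw [h15, beq_false_of_sc (by norm_num) hs.sq h11 ht (by norm_num) (by norm_num) dvd_rfl]
    rfl)] at h14
  exact Bool.false_ne_true h14

variable [Fintype G] [IsSimpleGroup G] (hG : Nat.card G = 244823040)
include hG

omit [Fintype G] [IsSimpleGroup G] in
theorem np : ¬ (Nat.card G).Prime := by rw [hG]; norm_num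

omit [Fintype G] [IsSimpleGroup G] in
theorem setup {p : ℕ} {x : G} (hx : orderOf x = p) (hp : p.Prime := by norm_num)
    (h2 : ¬ p ^ 2 ∣ 244823040 := by norm_num) : Setup p x := ⟨hp, hx, hG ▸ h2⟩

omit [IsSimpleGroup G] in
theorem exists_ord (p : ℕ) (hp : p.Prime := by norm_num) (h : p ∣ 244823040 := by norm_num) :
    ∃ x : G, orderOf x = p := exists_prime_orderOf_dvd_card' p (hp := ⟨hp⟩) (hG ▸ h)

theorem c23 (x : G) (hx : orderOf x = 23) : Nat.card (C x) = 23 := by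
  have hs := setup hG hx
  obtain ⟨e, c, hc, hN, h⟩ := hs.loc (np hG) hG s23
  simp only [Bool.or_eq_true, Bool.and_eq_true, Nat.beq_eq, List.all_eq_true] at h
  rcases h with (rfl | ⟨rfl, h⟩) | ⟨h1, h⟩
  · exact hc
  · obtain ⟨-, -, -, -, h⟩ := hs.exists_BD2 hG (by norm_num) hc hN
      (fun _ _ _ _ _ => ⟨fun _ _ _ => rfl, fun _ _ => rfl⟩) h
    exact absurd h Bool.false_ne_true
  obtain ⟨D, l, ⟨B⟩⟩ := hs.exists_BD0 hc hN
  obtain ⟨h2, h3⟩ := B.mem_sdegs hG (by norm_num)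
  obtain ⟨k, h4, h5⟩ := sum_emod (m := 2) (t := 0) (-D :: l) fun a ha => ⟨0, le_rfl, by
    obtain ⟨χ, hχ, h4⟩ := B.exists_mem ha
    have h5 : a.natAbs % 2 = 0 ∨
        [576, 288, 24, 12].elem c = true ∧ [231, 495].elem a.natAbs = true := by
      rcases List.mem_cons.1 ha with rfl | ha
      · simpa only [Int.natAbs_neg] using h D (List.mem_append_left _ h2)
      · obtain ⟨ψ, hψ, rfl⟩ := List.mem_map.1 (B.hl ▸ ha)
        exact h _ (List.mem_append_right _ (h3 ψ hψ))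
    change a % 2 = 0
    refine h5.elim (fun h => by omega) fun ⟨h6, h7⟩ => ?_
    simp only [List.elem_eq_mem, List.mem_cons, List.not_mem_nil, or_false, decide_eq_true_eq]
      at h6 h7
    obtain ⟨u, h8, hu, h9⟩ := B.blk.setup.exists_invol (r := 11) (by norm_num) B.hc B.blk.card_N
      (by norm_num) (Nat.dvd_of_mod_eq_zero h1) (by omega) (by
        rcases h6 with rfl | rfl | rfl | rfl
        exacts [by rw [fact_eq 6 9]; norm_num, by rw [fact_eq 5 9]; norm_num,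
          by rw [fact_eq 3 3]; norm_num, by rw [fact_eq 2 3]; norm_num])
    obtain ⟨v, hv⟩ := CT.exists_col_invol (u := u) (by rw [← pow_two, ← hu, pow_orderOf_eq_one])
    have h10 := B.val (np hG) (by norm_num) hu (B.blk.setup.ord ▸
      CT.orderOf_dvd_card_centralizer (mem_C.1 h8).symm) hv hχ
    have h11 := dvd_val (r := 11) (by norm_num) (by rw [hG]; norm_num)
      (h9.trans (Subgroup.card_dvd_of_le inf_le_right)) (by rw [hu]; norm_num) (by omega) (hv χ)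
    rw [abs_lt] at h10
    omega⟩
  rw [B.sum_all, show k = 0 by omega] at h5
  exact absurd h5 (by decide)

theorem N23 (x : G) (hx : orderOf x = 23) : Nat.card (N x) = 11 * Nat.card (C x) := by
  obtain ⟨e, c, hc, hN, h⟩ := (setup hG hx).loc (np hG) hG
    (test := fun e c => c != 1 || e == 11) (by decide +kernel)
  obtain rfl := eq_one_of_sc (by norm_num) ((c23 hG x hx).symm.trans hc)
  obtain rfl : e = 11 := by simpa using h
  exact hN

theorem n23 {q : ℕ} {y : G} (hy : orderOf y = q) {c : ℕ} (hc : c ∣ Nat.card (C y))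
    (h1 : q ≠ 1 := by norm_num) (hq : q ≠ 23 := by norm_num) : Nat.beq (c % 23) 0 = false :=
  beq_false_of_sc (by norm_num) (by rw [hG]; norm_num) (c23 hG) hy h1 hq hc

theorem ok1_of {χ : IrrCharacter G} (h : χ ≠ irrOne G) {a : ℤ}
    (ha : a.natAbs = charDegree (χ : G → ℂ)) : ok1 a = true := by
  obtain ⟨x, hx⟩ := exists_ord hG 23
  rw [ok1, ha, (setup hG hx).okd (c23 hG x hx) (N23 hG x hx), Bool.true_and, Nat.ble_eq]
  exact deg_ge (p := 23) hG (by norm_num) (by norm_num) (by norm_num) (by norm_num) (by norm_num)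
    (by norm_num) h

theorem c77 (x : G) (hx : orderOf x = 11) : ¬ 7 ∣ Nat.card (C x) := fun h => by
  obtain ⟨w, hw, h1⟩ := CT.exists_commute_of_dvd (by norm_num) h
  have h2 : ∀ y : G, orderOf y = 7 → ∀ c, Nat.card (C y) = c * 7 → c % 11 = 0 := fun y hy c hc => by
    have : 11 ∣ Nat.card (C w) := hx ▸ CT.orderOf_dvd_card_centralizer h1.symm
    rw [← (setup hG hw).card_C_eq hy, hc] at this
    omega
  obtain ⟨e, c, D, l, ⟨A⟩, h3⟩ := exists_BD (p := 7) hG (by norm_num) (by norm_num) (by norm_num)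
    (by norm_num) (fun y hy c hc => by rw [n23 hG hy (Dvd.intro _ hc.symm), h2 y hy c hc]; rfl)
    (fun _ _ χ hχ a ha => by rw [ok1_of hG hχ ha, and_self]) s77
  simp only [Bool.and_eq_true, beq_iff_eq] at h3
  obtain ⟨rfl, rfl⟩ := h3
  obtain ⟨v, s, k, h4⟩ := A.key (np hG) (d := 69) (r := 11) rfl (by norm_num) (by norm_num)
    (by norm_num) (by norm_num) (Nat.dvd_of_mod_eq_zero (h2 _ A.blk.setup.ord c A.hc))
  simp only [List.mem_cons, List.not_mem_nil, or_false, abs_lt] at h4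
  omega

theorem not23 {u : G} (hu : orderOf u = 2) : ¬ 23 ∣ Nat.card (C u) := fun h => by
  have h1 := n23 hG hu dvd_rfl
  rw [Nat.mod_eq_zero_of_dvd h] at h1
  exact absurd h1 (by decide)

theorem dvd_cz {u : G} (hu : orderOf u = 2) : Nat.card (C u) ∈ divs 10644480 :=
  mem_divs (by norm_num) (Nat.Coprime.dvd_of_dvd_mul_left (m := 23)
    ((Nat.Prime.coprime_iff_not_dvd (by norm_num)).2 (not23 hG hu)).symm (by
      have := card_C_dvd u
      rwa [hG] at this))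

theorem ne23 {e : ℕ} {x u : G} {X Y : Finset (IrrCharacter G)} {δ : IrrCharacter G → ℤ} {ε : ℤ}
    (h : Blk 11 e x X Y δ ε) (hu : orderOf u = 2) (h1 : 11 ∣ Nat.card (C u)) {χ : IrrCharacter G}
    (hχ : χ ∈ X ∨ χ ∈ Y) (h0 : χ ≠ irrOne G) : charDegree (χ : G → ℂ) ≠ 23 ∧
      (5 ∣ Nat.card (C u) → charDegree (χ : G → ℂ) ≠ 45) := by
  obtain ⟨v, hv⟩ := CT.exists_col_invol (u := u) (by rw [← pow_two, ← hu, pow_orderOf_eq_one])
  obtain ⟨m, h2, h3, h4⟩ := CT.invol_val (np hG) h0 hu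
  obtain rfl : v χ = m := by exact_mod_cast (hv χ).symm.trans h2
  have h5 := h.dvd_sub_deg h1 (by rw [hu]; norm_num) hv hχ
  rw [abs_lt] at h4
  refine ⟨fun h6 => ?_, fun h6 h7 => ?_⟩
  · have h7 := two_mul_deg_le (np hG) h0 hu h2
    rw [hG, show ArithmeticFunction.cardFactors 244823040 = 17 by
      rw [ArithmeticFunction.cardFactors_apply]; simp [Nat.primeFactorsList_ofNat]] at h7
    omega
  · have h8 := dvd_val (r := 5) (by norm_num) (by rw [hG]; norm_num) h6 (by rw [hu]; norm_num)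
      (by omega) h2
    omega

theorem c11 (x : G) (hx : orderOf x = 11) : Nat.card (C x) = 11 := by
  have hs := setup hG hx
  have : Fact (Nat.Prime 11) := ⟨by norm_num⟩
  have h4 : 4 ∣ Nat.card G := by rw [hG]; norm_num
  have h11 : ∀ u ∈ C x, 11 ∣ Nat.card (N x ⊓ C u : Subgroup G) := fun u hu => hx ▸
    Subgroup.orderOf_dvd_natCard _ ⟨Subgroup.le_normalizer (Subgroup.mem_zpowers x),
      mem_C.2 (mem_C.1 hu).symm⟩
  have h12 := fun u hu => (h11 u hu).trans (Subgroup.card_dvd_of_le inf_le_right)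
  obtain ⟨e, c, hc, hN, h⟩ := hs.loc (np hG) hG s11
  simp only [Bool.or_eq_true, Nat.beq_eq] at h
  rcases h with (((rfl | h) | h) | h) | h
  · exact hc
  · exact absurd (hc ▸ (Nat.dvd_of_mod_eq_zero h).mul_right 11) (c77 hG x hx)
  · have h1 := n23 hG hx (c := c) (Dvd.intro _ hc.symm)
    rw [h] at h1
    exact absurd h1 (by decide)
  · have h1 : 5 ∣ e ∧ ¬ 5 ∣ c * 11 ∧ 2 ^ c.factorization 2 % 5 ≠ 1 % 5 := by
      simp only [List.elem_eq_mem, List.mem_cons, List.not_mem_nil, or_false, decide_eq_true_eq,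
        Prod.mk.injEq] at h
      rcases h with ⟨rfl, rfl⟩ | ⟨rfl, rfl⟩ | ⟨rfl, rfl⟩ | ⟨rfl, rfl⟩
      exacts [by rw [fact_eq 5 9]; norm_num, by rw [fact_eq 3 3]; norm_num,
        by rw [fact_eq 1 1]; norm_num, by rw [fact_eq 2 3]; norm_num]
    obtain ⟨u, h2, hu, h3⟩ := hs.exists_invol (by norm_num) hc hN (by norm_num) h1.1 h1.2.1 h1.2.2
    have h5 : 2 ∣ Nat.card (N x ⊓ C u : Subgroup G) :=
      hu ▸ Subgroup.orderOf_dvd_natCard _ ⟨C_le_N x h2, mem_C_self u⟩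
    have h6 := h11 u h2
    have hf : fk (Nat.card (C u)) (Nat.card (Sylow 11 (C u))) = true := by
      rw [fk, Bool.or_eq_true, Bool.not_eq_true', ← Bool.not_eq_true, Nat.beq_eq]
      exact or_iff_not_imp_left.2 fun h => syl (C u) (Nat.dvd_of_mod_eq_zero (not_not.1 h))
        (not_simple_C hu h4)
    have h7 := hs.czOK2 (g := 110) (by norm_num) h4 hc hN hu h2 (by omega) hf
    have h8 := List.all_eq_true.1 sCV _ (dvd_cz hG hu)
    have h9 : ∀ (y : G) X Y δ ε, Blk 11 e y X Y δ ε → ∀ χ, χ ∈ X ∨ χ ∈ Y → χ ≠ irrOne G →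
        ∀ a : ℤ, a.natAbs = charDegree (χ : G → ℂ) → ok2 a = true := fun _ _ _ _ _ B χ hχ h0 a ha => by
      obtain ⟨h9, h10⟩ := ne23 hG B hu (h12 u h2) hχ h0
      simp only [ok2, ok1_of hG h0 ha, ha, Bool.and_eq_true, Bool.not_eq_true', ← Bool.not_eq_true,
        Nat.beq_eq]
      exact ⟨⟨trivial, h9⟩, h10 (h3.trans (Subgroup.card_dvd_of_le inf_le_right))⟩
    have hA := fun D l (B : BD G 11 e c D l) L hL =>
      B.anyD hG (by norm_num) (by norm_num) (L := L) hu hL (h12 u h2) (not23 hG hu)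
    simp only [List.elem_eq_mem, List.mem_cons, List.not_mem_nil, or_false, decide_eq_true_eq,
      Prod.mk.injEq, Bool.and_eq_true] at h h8
    rcases h with ⟨rfl, rfl⟩ | ⟨rfl, rfl⟩ | ⟨rfl, rfl⟩ | ⟨rfl, rfl⟩
    · obtain ⟨D, l, B, -, h10⟩ := hs.exists_BD2 hG (by norm_num) hc hN (ok_blk (h9 x)) s288
      rw [hA D l B _ (by simpa [h7] using h8.1.1.1)] at h10
      exact absurd h10 (by decide)
    · obtain ⟨D, l, B, -, h10⟩ := hs.exists_BD2 hG (by norm_num) hc hN (ok_blk (h9 x)) s24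
      rw [hA D l B _ (by simpa [h7] using h8.1.1.2)] at h10
      exact absurd h10 (by decide)
    · obtain ⟨D, l, B, -, h10⟩ := hs.exists_BD2 hG (by norm_num) hc hN (ok_blk (h9 x)) s2
      rw [hA D l B _ (by simpa [h7] using h8.1.2), B.btq (by norm_num) (by norm_num) (by norm_num)
        (by rw [hG, fact_eq 3 9067520]) (by norm_num)] at h10
      exact absurd h10 (by decide)
    have h10 := four_dvd_inf (by omega) hu h2
    have h13 := h8.2
    rw [hs.czOK2 (g := 220) (by norm_num) h4 hc hN hu h2 (by omega) hf, Bool.not_true,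
      Bool.false_or, List.all_eq_true] at h13
    obtain ⟨D, l, ⟨B⟩⟩ := hs.exists_BD0 hc hN
    obtain ⟨h14, h15⟩ := B.mem_sdegs hG (by norm_num)
    obtain ⟨v, hv⟩ := CT.exists_col_invol (u := u) (by rw [← pow_two, ← hu, pow_orderOf_eq_one])
    by_cases h16 : (3840 : ℤ) ∈ -D :: l
    · obtain ⟨χ, hχ, h17, h18⟩ := B.cs (by rw [hu]; norm_num) hv h16
      have h19 := h13 _ (h17 ▸ mem_iv2 hG (by norm_num) hu (not23 hG hu) hv (B.mem_F.1 hχ).2
        (ex := fun a v => Nat.beq ((v - a).natAbs % 11) 0) (Nat.beq_eq ▸ Nat.mod_eq_zero_of_dvd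
          (Int.natCast_dvd.1 (B.val (np hG) (by norm_num) hu (h12 u h2) hv hχ).1)))
      rw [Bool.and_eq_true, Nat.beq_eq, beq_iff_eq] at h19
      rw [h19.1, h19.2] at h18
      exact absurd h18 (by decide)
    obtain ⟨k, h17, h18⟩ := sum_emod (m := 23) (t := 1) (-D :: l) fun a ha => by
      obtain ⟨χ, hχ, h17⟩ := B.exists_mem ha
      have h18 := List.all_eq_true.1 s12 a (by
        rcases List.mem_cons.1 ha with rfl | ha
        · exact List.mem_append_right _ (List.mem_map_of_mem h14)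
        · obtain ⟨ψ, hψ, rfl⟩ := List.mem_map.1 (B.hl ▸ ha)
          exact List.mem_append_left _ (h15 ψ hψ))
      rw [h9 _ _ _ _ _ B.blk χ (B.mem_F.1 hχ).1 (B.mem_F.1 hχ).2 a h17] at h18
      simp only [Bool.not_true, Bool.false_or, Bool.or_eq_true, beq_iff_eq] at h18
      rcases h18 with (rfl | h18) | h18
      exacts [absurd ha h16, ⟨0, by norm_num, h18⟩, ⟨1, le_rfl, h18⟩]
    rw [B.sum_all, Int.ModEq] at h18
    rw [List.length_cons, B.length_l] at h17
    omega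
  obtain ⟨D, l, B, hB, h⟩ := hs.exists_BD2 hG (by norm_num) hc hN (ok_blk
    fun X Y δ ε B χ hχ h0 a ha => by
      rw [ok1_of hG h0 ha, ha, Bool.true_and, Bool.or_eq_true, Bool.not_eq_true', ← Bool.not_eq_true,
        Nat.beq_eq, Nat.beq_eq]
      refine or_iff_not_imp_left.2 fun h => ?_
      obtain ⟨u, h1, hu⟩ := exists_mem_orderOf (H := C x) Nat.prime_two (by omega)
      exact (ne23 hG B hu (h12 u h1) hχ h0).1) h
  simp only [Bool.or_eq_true, Bool.and_eq_true, Nat.beq_eq, beq_iff_eq] at h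
  rcases h with ⟨⟨rfl, rfl⟩, rfl⟩ | ⟨h1, h⟩
  · obtain ⟨v, s, k, h4⟩ := B.key (np hG) (d := 23) (r := 5) rfl (by norm_num) (by norm_num)
      (by norm_num) (by norm_num) dvd_rfl
    simp only [List.mem_cons, List.not_mem_nil, or_false, abs_lt] at h4
    omega
  obtain ⟨u, h2, hu⟩ := exists_mem_orderOf (H := C x) Nat.prime_two (by omega)
  have h3 := four_dvd_C h4 hu
  have h5 := h12 u h2
  rw [B.anyL hG (by norm_num) (by norm_num) (by norm_num) hu (L := L11)
    (List.mem_filter.2 ⟨dvd_cz hG hu, by rw [Nat.beq_eq]; omega⟩)] at h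
  exact absurd h (by decide)

theorem N11 (x : G) (hx : orderOf x = 11) : Nat.card (N x) = 10 * Nat.card (C x) := by
  obtain ⟨e, c, hc, hN, h⟩ := (setup hG hx).loc (np hG) hG
    (test := fun e c => c != 1 || e == 10) (by decide +kernel)
  obtain rfl := eq_one_of_sc (by norm_num) ((c11 hG x hx).symm.trans hc)
  obtain rfl : e = 10 := by simpa using h
  exact hN

theorem n11 {q : ℕ} {y : G} (hy : orderOf y = q) {c : ℕ} (hc : c ∣ Nat.card (C y))
    (h1 : q ≠ 1 := by norm_num) (hq : q ≠ 11 := by norm_num) : Nat.beq (c % 11) 0 = false :=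
  beq_false_of_sc (by norm_num) (by rw [hG]; norm_num) (c11 hG) hy h1 hq hc

theorem ok_of {χ : IrrCharacter G} (h : χ ≠ irrOne G) {a : ℤ}
    (ha : a.natAbs = charDegree (χ : G → ℂ)) : ok a = true := by
  obtain ⟨x, hx⟩ := exists_ord hG 11
  rw [ok, ok1_of hG h ha, ha, (setup hG hx).okd (c11 hG x hx) (N11 hG x hx)]
  rfl

theorem e7 (y : G) (hy : orderOf y = 7) :
    ∃ e ∈ [2, 3, 6], Nat.card (N y) = e * Nat.card (C y) := by
  obtain ⟨e, c, -, hN, h⟩ := (setup hG hy).loc (np hG) hG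
    (test := fun e _ => [2, 3, 6].elem e) (by decide +kernel)
  exact ⟨e, List.mem_of_elem_eq_true h, hN⟩

theorem B5 : ∃ c ∈ [192, 12], Nonempty (BD G 5 4 c (-5796) [1771, -2024, -5544]) := by
  obtain ⟨x, hx⟩ := exists_ord hG 11
  obtain ⟨f, -, hf⟩ := (setup hG hx).exists_orderOf_eq (N11 hG x hx)
  obtain ⟨e, c, D, l, ⟨A⟩, h⟩ := exists_BD (p := 5) hG (by norm_num) (by norm_num) (by norm_num)
    (by norm_num) (fun y hy c hc => by
      have h1 : orderOf (f ^ 2) = 5 := by rw [orderOf_pow' _ two_ne_zero, hf]; rfl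
      have h2 := (orderOf_dvd_card_C f).trans (Subgroup.card_dvd_of_le (C_le_C_pow f 2))
      rw [(setup hG hy).card_C_eq h1, hc, hf] at h2
      rw [n23 hG hy (Dvd.intro _ hc.symm), n11 hG hy (Dvd.intro _ hc.symm), show c % 2 = 0 by omega]
      rfl)
    (fun _ _ χ hχ a ha => by rw [ok_of hG hχ ha, and_self]) s5
  simp only [Bool.or_eq_true, Bool.and_eq_true, Bool.not_eq_true', ← Bool.not_eq_true, Nat.beq_eq,
    beq_iff_eq] at h
  rcases h with (⟨h1, h⟩ | ⟨h1, h⟩) | ⟨⟨⟨rfl, h⟩, rfl⟩, rfl⟩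
  · exact absurd (A.btq (by norm_num) (by norm_num) (by omega) (by rw [hG, fact_eq 3 9067520])
      (by norm_num)) h
  · obtain ⟨y, hy⟩ := exists_ord hG 7
    obtain ⟨e', h2, h3⟩ := e7 hG y hy
    exact absurd (List.any_eq_true.2 ⟨e', h2, A.tsum (setup hG hy) h3 (by
      simp only [List.mem_cons, List.not_mem_nil, or_false] at h2
      omega) rfl (by norm_num) (by omega)⟩) h
  exact ⟨c, List.mem_of_elem_eq_true h, ⟨A⟩⟩

end M24

end Cfsg.Agent.Inv
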