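import Mathlib
import Cfsg.Agent.Inv.M24A

/-!
Counting characters by their degrees.
-/

set_option autoImplicit false

namespace Cfsg.Agent.Inv.Srch

/-- The signed degree of a non-exceptional character. -/
def sgp (p d : ℕ) : ℤ := bif Nat.beq (d % p) 1 then d else -d

/-- The number of members of degree `d`. -/
def cntR (p e : ℕ) (D : ℤ) (l : List ℤ) (d : ℕ) : ℕ := ((degR p e D l).map Prod.fst).count d

/-- The signed sum of the singular sums. -/
def tsg (p e : ℕ) (l : List ℤ) : ℤ := (l.map fun a => a.sign * tf p e a.natAbs).sum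

theorem exists_perm_map {α β : Type*} (f : α → β) {l : List β} {L : List α}
    (h : l.Perm (L.map f)) : ∃ L' : List α, L'.Perm L ∧ L'.map f = l := by
  obtain ⟨w, h1, h2⟩ := List.perm_comp_forall₂ (r := fun a b => a = f b) h
    (List.forall₂_map_left_iff.2 (List.forall₂_same.2 fun _ _ => rfl))
  exact ⟨w, h2, (List.forall₂_eq_eq_eq ▸ List.forall₂_map_right_iff.2 h1 : l = _).symm⟩

end Cfsg.Agent.Inv.Srch

namespace Cfsg.Agent.Inv.PB

open Finset Cfsg.Agent.Ch Cfsg.Agent.Inv.Srch Cfsg.Agent.Inv.Sieve Cfsg.Agent.Inv.M11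

variable {G : Type*} [Group G] [Fintype G]

/-- The total multiplicity of the characters of degree `d`. -/
noncomputable def mlt (m : IrrCharacter G → ℕ) (d : ℕ) : ℕ :=
  ∑ φ ∈ univ.filter fun φ : IrrCharacter G => charDegree (φ : G → ℂ) = d, m φ

theorem sum_deg (m : IrrCharacter G → ℕ) {L : List ℕ} (hL : L.Nodup)
    (h : ∀ φ, m φ ≠ 0 → charDegree (φ : G → ℂ) ∈ L) (f : ℕ → ℤ) :
    ∑ φ, m φ * f (charDegree (φ : G → ℂ)) = (L.map fun d => mlt m d * f d).sum := by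
  classical
  rw [← List.sum_toFinset _ hL, ← sum_subset (subset_univ (univ.filter fun φ : IrrCharacter G =>
    charDegree (φ : G → ℂ) ∈ L.toFinset)) fun φ _ h1 => by
      rw [show m φ = 0 from not_not.1 fun h2 => h1 (by simpa using h φ h2), Nat.cast_zero, zero_mul],
    ← sum_fiberwise_eq_sum_filter]
  refine sum_congr rfl fun d _ => ?_
  rw [mlt, Nat.cast_sum, sum_mul]
  exact sum_congr rfl fun φ hφ => by rw [(mem_filter.1 hφ).2]

theorem exists_of_mlt {m : IrrCharacter G → ℕ} {d : ℕ} (h : mlt m d ≠ 0) :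
    ∃ φ : IrrCharacter G, charDegree (φ : G → ℂ) = d ∧ m φ ≠ 0 := by
  obtain ⟨φ, h1, h2⟩ := exists_ne_zero_of_sum_ne_zero h
  exact ⟨φ, (mem_filter.1 h1).2, h2⟩

theorem mlt_eq (m : IrrCharacter G → ℕ) {χ : IrrCharacter G} {d : ℕ}
    (h1 : charDegree (χ : G → ℂ) = d)
    (h : ∀ φ : IrrCharacter G, charDegree (φ : G → ℂ) = d → φ = χ) : mlt m d = m χ :=
  sum_eq_single_of_mem χ (by simpa using h1) fun φ h2 h3 => absurd (h φ (mem_filter.1 h2).2) h3

theorem deg_le_of_mult {m : IrrCharacter G → ℕ} {n : ℕ}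
    (h : ∑ φ, m φ * charDegree (φ : G → ℂ) = n) {φ : IrrCharacter G} (h1 : m φ ≠ 0) :
    charDegree (φ : G → ℂ) ≤ n :=
  (Nat.le_mul_of_pos_left _ (Nat.pos_of_ne_zero h1)).trans (h ▸ single_le_sum
    (f := fun φ : IrrCharacter G => m φ * charDegree (φ : G → ℂ)) (fun _ _ => Nat.zero_le _)
    (mem_univ φ))

/-- Constituents that exhaust the degree are the only ones. -/
theorem eq_sum_of_deg {m : IrrCharacter G → ℕ} {L : List (IrrCharacter G)} (hL : L.Nodup)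
    (h1 : ∀ φ ∈ L, m φ ≠ 0) (h2 : ∑ φ, m φ * charDegree (φ : G → ℂ) =
      (L.map fun φ : IrrCharacter G => charDegree (φ : G → ℂ)).sum) (g : G) :
    ∑ φ, m φ * (φ : G → ℂ) g = (L.map fun φ : IrrCharacter G => (φ : G → ℂ) g).sum := by
  classical
  have h3 : ∀ {R : Type} [Semiring R] (f : IrrCharacter G → R), (L.map f).sum =
      ∑ φ, ((if φ ∈ L then 1 else 0 : ℕ) : R) * f φ := fun f => by
    rw [← List.sum_toFinset _ hL]
    simp only [Nat.cast_ite, Nat.cast_one, Nat.cast_zero, ite_mul, one_mul, zero_mul, ← sum_filter]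
    exact sum_congr (by ext; simp) fun _ _ => rfl
  have h4 := (sum_eq_sum_iff_of_le (fun φ _ => Nat.mul_le_mul_right _ (show (if φ ∈ L then 1 else 0)
    ≤ m φ by split_ifs with h; exacts [Nat.pos_of_ne_zero (h1 φ h), Nat.zero_le _]))).1
    ((h2.trans (h3 _)).symm)
  rw [h3]
  exact sum_congr rfl fun φ _ => by
    rw [Nat.eq_of_mul_eq_mul_right φ.2.charDegree_pos (h4 φ (mem_univ φ))]

/-- The multiplicities of a character. -/
theorem exists_mult {ψ : G → ℂ} (h : IsCharacter G ψ) {n : ℕ} (hn : ψ 1 = n) :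
    ∃ m : IrrCharacter G → ℕ, (∀ φ : IrrCharacter G, classInner ψ φ = m φ) ∧
      (∀ g, ∑ φ, m φ * (φ : G → ℂ) g = ψ g) ∧ ∑ φ, m φ * charDegree (φ : G → ℂ) = n := by
  obtain ⟨m, h1, h2⟩ := h.exists_mult
  have h3 : ∀ g, ∑ φ, m φ * (φ : G → ℂ) g = ψ g := fun g => by
    simpa only [Finset.sum_apply, nsmul_eq_mul, Pi.mul_apply, Pi.natCast_apply] using
      (congrFun h2 g).symm
  refine ⟨m, h1, h3, Nat.cast_injective (R := ℂ) ?_⟩
  rw [← hn, ← h3, Nat.cast_sum]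
  exact sum_congr rfl fun φ _ => by rw [Nat.cast_mul, φ.2.coe_charDegree]

namespace BD

variable {p e c : ℕ} {D : ℤ} {l : List ℤ}

theorem sd_eq (B : BD G p e c D l) (hp : 2 < p) {χ : IrrCharacter G} (h : χ ∈ B.L) :
    sd B.δ χ = sgp p (charDegree (χ : G → ℂ)) := by
  have h1 := (B.lst.mem_of h).1
  rcases mod_of_modEq one_pos B.blk.setup.prime.one_lt (B.blk.sign χ h1) (by simpa using B.blk.deg χ h1)
    with ⟨h2, h3⟩ | ⟨h2, h3⟩
  · rw [sd, h2, sgp, h3, one_mul]; rfl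
  · rw [sd, h2, sgp, Bool.cond_neg (by rw [← Bool.not_eq_true, Nat.beq_eq]; omega), neg_one_mul]

theorem mem_L (B : BD G p e 1 D l) {χ : IrrCharacter G} {d : ℕ} (h : charDegree (χ : G → ℂ) = d)
    (h1 : d ≠ 1) (h2 : ¬ p ∣ d) (h3 : d ≠ D.natAbs) : χ ∈ B.L := by
  subst h
  rcases B.cases χ with h | rfl | h | h
  exacts [absurd h h2, absurd deg_irrOne h1, absurd (B.deg_Y h) h3, h]

theorem mem_of_cnt (B : BD G p e 1 D l) {K : List (IrrCharacter G)} (hK : K.Nodup) {d : ℕ}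
    (hd : ∀ ψ ∈ K, charDegree (ψ : G → ℂ) = d) (h1 : d ≠ 1) (h2 : ¬ p ∣ d)
    (hc : cntR p e D l d ≤ K.length) {χ : IrrCharacter G} (hχ : charDegree (χ : G → ℂ) = d) :
    χ ∈ K := by
  classical
  by_contra h
  have h3 : ∀ ψ ∈ χ :: K, charDegree (ψ : G → ℂ) = d := List.forall_mem_cons.2 ⟨hχ, hd⟩
  have h4 := (List.subperm_of_subset (List.nodup_cons.2 ⟨h, hK⟩) (l₂ := B.F.filter
    fun ψ : IrrCharacter G => charDegree (ψ : G → ℂ) == d) fun ψ hψ => List.mem_filter.2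
      ⟨B.mem_of rfl (by rintro rfl; exact h1 ((h3 _ hψ).symm.trans deg_irrOne)) (h3 ψ hψ ▸ h2),
        by simp [h3 ψ hψ]⟩).length_le
  rw [cntR, ← B.degR, List.map_map, List.count, List.countP_map, List.countP_eq_length_filter] at hc
  exact Nat.not_succ_le_self _ (h4.trans hc)

theorem eq_of_cnt (B : BD G p e 1 D l) {χ ψ : IrrCharacter G} {d : ℕ}
    (hχ : charDegree (χ : G → ℂ) = d) (hψ : charDegree (ψ : G → ℂ) = d) (h1 : d ≠ 1 := by norm_num)
    (h2 : ¬ p ∣ d := by norm_num) (hc : cntR p e D l d ≤ 1 := by decide) : χ = ψ :=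
  List.mem_singleton.1 (B.mem_of_cnt (List.nodup_singleton ψ) (by simpa using hψ) h1 h2 hc hχ)

theorem not_deg (B : BD G p e 1 D l) (χ : IrrCharacter G) (d : ℕ) (h1 : d ≠ 1 := by norm_num)
    (h2 : ¬ p ∣ d := by norm_num) (hc : cntR p e D l d ≤ 0 := by decide) :
    charDegree (χ : G → ℂ) ≠ d := fun h =>
  List.not_mem_nil (B.mem_of_cnt List.nodup_nil (by simp) h1 h2 hc h)

theorem perm (B : BD G p e c D l) {l' : List ℤ} (h : l'.Perm l) : Nonempty (BD G p e c D l') := by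
  obtain ⟨L, h1, h2⟩ := exists_perm_map (sd B.δ) (h.trans (.of_eq B.hl.symm))
  exact ⟨⟨B.x, B.X, B.Y, B.δ, B.ε, B.θ, L, B.blk, B.hc, B.hθ, B.lst.perm h1, B.hD, h2⟩⟩

theorem map_sgp (B : BD G p e 1 D l) (he : e + 1 = p) (hp : 2 < p) : (B.θ :: B.L).map
    (fun χ : IrrCharacter G => sgp p (charDegree (χ : G → ℂ))) = -D :: l := by
  rw [List.map_cons, ← List.map_congr_left fun χ hχ => B.sd_eq hp hχ, B.hl]
  refine congrArg (· :: l) (Eq.trans ?_ (congrArg _ B.hD))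
  rcases mod_of_modEq B.blk.e_pos B.blk.e_lt B.blk.sign_Y (B.blk.deg_Y _ B.hθ) with
    ⟨h2, h3⟩ | ⟨h2, h3⟩
  · rw [h2, sgp, Bool.cond_neg (by rw [← Bool.not_eq_true, Nat.beq_eq]; omega), one_mul]
  · rw [h2, sgp, Bool.cond_pos (by rw [Nat.beq_eq]; omega), neg_one_mul, neg_neg]

theorem nodup_cons (B : BD G p e c D l) : (B.θ :: B.L).Nodup :=
  List.nodup_cons.2 ⟨fun h => B.blk.disj _ (B.lst.mem_of h).1 B.hθ, (List.nodup_cons.1 B.lst.nodup).2⟩

theorem mem_cons_iff (B : BD G p e 1 D l) (he : e + 1 = p) {χ : IrrCharacter G} :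
    χ ∈ B.θ :: B.L ↔ χ ≠ irrOne G ∧ ¬ p ∣ charDegree (χ : G → ℂ) := by
  refine ⟨fun h => ⟨(B.mem_F.1 (B.mem_F_of h)).2, B.not_dvd (B.mem_F_of h)⟩, fun h => ?_⟩
  rcases B.cases χ with h1 | h1 | h1 | h1
  exacts [absurd h1 h.2, absurd h1 h.1, List.mem_cons.2 (.inl (card_le_one.1 (by
    have := B.blk.card_Y
    have := B.blk.e_pos
    nlinarith) _ h1 _ B.hθ)), List.mem_cons_of_mem _ h1]

/-- With full automizer the members may be arranged in any order. -/
theorem swap (B : BD G p e 1 D l) (he : e + 1 = p) (hp : 2 < p) {D' : ℤ} {l' : List ℤ}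
    (h : (-D' :: l').Perm (-D :: l)) : Nonempty (BD G p e 1 D' l') := by
  obtain ⟨χ, h1, h2⟩ := List.mem_map.1 (B.map_sgp he hp ▸ h.subset List.mem_cons_self)
  obtain ⟨h3, h4⟩ := (B.mem_cons_iff he).1 h1
  obtain ⟨D₁, l₁, A, h5, -⟩ := B.blk.setup.exists_BD1 B.hc B.blk.card_N he h3 h4
  have h6 := ((List.perm_ext_iff_of_nodup A.nodup_cons B.nodup_cons).2 fun _ => by
    rw [A.mem_cons_iff he, B.mem_cons_iff he]).map
    fun χ : IrrCharacter G => sgp p (charDegree (χ : G → ℂ))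
  have h7 := A.map_sgp he hp
  rw [B.map_sgp he hp, h7] at h6
  obtain rfl : D₁ = D' := neg_injective ((List.cons.inj h7).1.symm.trans (h5 ▸ h2))
  exact A.perm (h.trans h6.symm).cons_inv

end BD

end Cfsg.Agent.Inv.PB
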