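import Mathlib
import Cfsg.Agent.Inv.M24G4

/-!
Simple groups of order 244823040: the joint searches for the primes 23 and 11.
-/

set_option autoImplicit false

namespace Cfsg.Agent.Inv.M24

open Cfsg.Agent.Inv.Srch Cfsg.Agent.Inv.Sieve

/-- The possible partners of two characters of degree 540. -/
def okS (a : ℤ) : Bool := ok a && !Nat.beq (a.natAbs % 7) 0 && okd 23 1 a.natAbs &&
  !Nat.beq a.natAbs 45

/-- The relations at the elements of orders 11 and 23. -/
def finS (l : List ℤ) : Bool := !(20 + tsg 11 10 l == 0 && tsg 23 11 l - 22 == 0 &&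
  (Nat.blt l.length 2 || l.any fun a => a % 7 == 1))

theorem sD1 : ([0, 1, 2].all fun k =>
    srch finS (sdegs 244823040 244823040 1 0 okS) k (-1080) 244823040 []) = true := by
  decide +kernel

theorem sD5 : srch finS (sdegs 244823040 244823040 7 1 okS) 5 (-1080) 244823040 [] = true := by
  decide +kernel

theorem s540 : (locAll 244823040 7 fun e c =>
    !Nat.beq (244823040 / (c * 7) % 540) 0 || Nat.beq e 2) = true := by
  decide +kernel

theorem s7 : (locAll 244823040 7 fun e c => Nat.beq (c % 11) 0 || Nat.beq (c % 23) 0 ||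
    Nat.beq e 6 || blkAll2 244823040 7 e c ok ok fun D l =>
      !((-D :: l).map Int.natAbs).elem 2024 || (Nat.beq e 3 && D == 990 && l == [-1035, 2024])) =
    true := by
  decide +kernel

theorem sT : ((divs 244823040).all fun d => !ok d || Nat.blt 244823040 (d * d) ||
    !Nat.beq (d % 9) 0 || Nat.beq (d % 27) 0 || [45, 252, 495, 990, 1035, 2277, 2772, 3312, 4554,
      5544, 5796, 6336, 9108, 11385, 12672].elem d) = true := by
  decide +kernel

theorem sL : ((divs 244823040).all fun d => !ok d || Nat.blt 276 d ||
    [22, 23, 45, 230, 231, 252, 253, 264, 276].elem d) = true := by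
  decide +kernel

/-- The centralizer orders of the central involutions. -/
def CZ : List ℕ := [1024, 3072, 5120, 7168, 9216, 15360, 21504, 27648, 35840, 46080, 64512, 107520,
  138240, 193536, 322560, 967680]

theorem sCZ : ((divs 10644480).all fun cz => !Nat.beq (244823040 / cz % 2) 1 ||
    Nat.beq (cz % 11) 0 || (CZ.elem cz &&
      (iv2 244823040 cz 23 (fun _ _ => true) 3840).all fun v => v == 0)) = true := by
  decide +kernel

/-- The search for the block for 11, given the block for 23. -/
def nest (k : List ℤ) (sq : ℕ) (fin : List ℤ → Bool) (D : ℤ) (l : List ℤ) : Bool :=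
  !btq 3 3 D l || !ssum 1024 3840 (-D :: l) 0 ||
  restAll 244823040 11 10 1 (fun a => ok a && Nat.beq (a.natAbs % 23) 0) (fun a => a == 5796)
    (k ++ (off 11 (degR 23 11 D l)).map fun a => sgp 11 a.1) (sq + sqs (degR 23 11 D l))
    fun D' l' => !btq 3 3 D' l' || !ssum 1024 3840 (-D' :: l') 0 || fin l'

theorem sD : restAll 244823040 23 11 1 (fun a => ok a && !Nat.beq a.natAbs 45)
    (fun a => ok a && !Nat.beq a.natAbs 540) [5544] 71562570
    (nest [] 7233018 fun _ => false) = true := by
  decide +kernel

/-- The possible blocks for 23. -/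
def P23 : List (ℤ × List ℤ) :=
  [(-1760, [-252, -528, -1540, 3520, -10395, 5544, 990, 990, -45, -45]),
    (770, [231, 231, -252, 3520, -10395, 5544, 990, 990, -45, -45]),
    (264, [-22, -22, -252, 3520, -10395, 5544, 990, 990, -45, -45])]

theorem sE1 : (restAll 244823040 23 11 1 ok ok [5544, 990, 990, -45, -45] 73526820 fun D l =>
    nest [1035] 8304243 (fun _ => false) D l || P23.elem (D, l) ||
      [(6336, [-45, -252, -252, 990, -1540, 5544, 990, 990, -45, -45]),
        (6336, [231, -252, -528, 990, -1540, 5544, 990, 990, -45, -45]),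
        (-2772, [-252, 990, 990, -1540, -10395, 5544, 990, 990, -45, -45])].elem (D, l)) = true := by
  decide +kernel

theorem sE2 : (P23.all fun a => nest [1035, 1035, 1035] 10446693 (fun l =>
    [[-230, -230, 3312, 1035, 1035, 1035, -252, 45, 45],
      [276, -736, 3312, 1035, 1035, 1035, -252, 45, 45],
      [23, -483, 3312, 1035, 1035, 1035, -252, 45, 45]].elem l) a.1 a.2) = true := by
  decide +kernel

end Cfsg.Agent.Inv.M24
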