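import Mathlib
import Cfsg.Agent.Inv.M24S3

/-!
Simple groups of order 244823040: the columns of a central involution.
-/

set_option autoImplicit false

namespace Cfsg.Agent.Inv.M24

open Cfsg.Agent.Inv.Srch Cfsg.Agent.Inv.Sieve

/-- No column of a central involution is compatible with the block for 11. -/
def zk (D : ℤ) (l : List ℤ) : Bool := CZ.all fun cz =>
  (iv2 244823040 cz 23 (fun _ _ => true) 45).all fun a =>
    !okv 244823040 cz 990 ((a * a - 45) / 2) || !okv 244823040 cz 1035 ((a * a + 45) / 2) ||
    !okv 244823040 cz 1035 (a + (a * a - 45) / 2) || !okv 244823040 cz 2024 (a * a - 1) ||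
    [192, 12].all fun c => colR 244823040 5 4 c cz (fun d v => !Nat.beq d 2024 || v == a * a - 1)
      (fun R => colR 244823040 11 10 1 cz (fun d v => (!Nat.beq d 45 || v == a) &&
        (!Nat.beq d 1035 || v == (a * a + 45) / 2 || v == a + (a * a - 45) / 2) &&
        (!Nat.beq d 252 || v == (R.headD (0, 0)).2 - (R.getLastD (0, 0)).2) &&
        (!Nat.beq d 5796 || v == (R.headD (0, 0)).2))
        (fun R' => !sub [(1035, (a * a + 45) / 2), (1035, a + (a * a - 45) / 2),
          (1035, a + (a * a - 45) / 2)] R') D l) (-5796) [1771, -2024, -5544]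

theorem zA : zk 230 [-230, 3312, 1035, 1035, 1035, -252, -5796, 45, 45] = true := by
  decide +kernel

theorem zB : zk (-276) [-736, 3312, 1035, 1035, 1035, -252, -5796, 45, 45] = true := by
  decide +kernel

end Cfsg.Agent.Inv.M24
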