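import Mathlib
import Cfsg.Agent.Inv.M24S4

/-!
Simple groups of order 244823040: there is an irreducible character of degree 45.
-/

set_option autoImplicit false

namespace Cfsg.Agent.Inv

open Finset Cfsg.Agent.Ch Cfsg.Agent.Inv.PB Cfsg.Agent.Inv.M11 Cfsg.Agent.Inv.Srch
  Cfsg.Agent.Inv.Sieve

variable {G : Type*} [Group G] [Fintype G]

theorem PB.BD.tau_eq' {p e c : ℕ} {D : ℤ} {l : List ℤ} (B : BD G p e c D l)
    (m : IrrCharacter G → ℕ) {s : ℤ} (h : ∀ g, p ∣ orderOf g → ∑ φ, m φ * (φ : G → ℂ) g = s) :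
    (p - 1) * s = (p - 1) * (m (irrOne G) + (B.L.map fun χ => B.δ χ * m χ).sum) -
      B.ε * e * ∑ θ ∈ B.Y, (m θ : ℤ) := by
  rw [← B.blk.setup.tau_sum m h,
    B.blk.sum_split _ fun χ h3 h4 => by rw [B.blk.tau_other h3 h4, mul_zero],
    sum_congr rfl fun χ hχ => by rw [B.blk.tau_X hχ],
    sum_congr (s₁ := B.Y) rfl fun χ hχ => by rw [B.blk.tau_Y hχ], ← sum_mul]
  have h3 := B.lst.sum fun χ => B.δ χ * m χ
  rw [B.blk.δ_one, one_mul] at h3
  rw [← h3, mul_sum]
  simp only [mul_comm, mul_left_comm, neg_mul, sub_eq_add_neg]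

theorem PB.Setup.tau_rel {p e d : ℕ} {x : G} (h : Setup p x) (hC : Nat.card (C x) = p)
    (hN : Nat.card (N x) = e * Nat.card (C x)) (he : 1 < e) (hp : p % 2 = 1)
    {Y : Finset (IrrCharacter G)} (hY : ∀ θ ∈ Y, charDegree (θ : G → ℂ) = d)
    {L : List (IrrCharacter G)} {σ : IrrCharacter G → ℤ} (hσ : ∀ χ ∈ L, σ χ = 1 ∨ σ χ = -1)
    (hs : ∀ g, orderOf g = p →
      ∑ θ ∈ Y, (θ : G → ℂ) g + (L.map fun χ => (σ χ : ℂ) * (χ : G → ℂ) g).sum = 0) :
    Y.card * tf p e d + tsg p e (L.map (sd σ)) = 0 := by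
  have h1 := h.tau_list (ι := Bool × IrrCharacter G) Prod.snd (fun i => if i.1 then σ i.2 else 1)
    (Y.toList.map (Prod.mk false) ++ L.map (Prod.mk true)) (s := 0) fun g hg => by
      simpa only [List.map_append, List.map_map, Function.comp_def, List.sum_append, if_true,
        Bool.false_eq_true, if_false, sum_map_toList, Int.cast_one, one_mul, Int.cast_zero] using
        hs g (h.orderOf_eq hC hg)
  simp only [h.tau_deg hC hN he hp, List.map_append, List.map_map, Function.comp_def,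
    List.sum_append, if_true, Bool.false_eq_true, if_false, one_mul, mul_zero, sum_map_toList] at h1
  rw [← h1, sum_congr rfl fun θ hθ => by rw [hY θ hθ], sum_const, nsmul_eq_mul, tsg, List.map_map]
  exact congrArg _ (congrArg _ (List.map_congr_left fun χ hχ => by
    rw [Function.comp, sd, natAbs_sign_mul (hσ χ hχ), sign_sign_mul (hσ χ hχ) χ.2.charDegree_pos]))

namespace M24

/-- The principal block for the prime 5. -/
structure S5 (A B E F : IrrCharacter G) : Prop where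
  dA : charDegree (A : G → ℂ) = 1771
  dB : charDegree (B : G → ℂ) = 2024
  dE : charDegree (E : G → ℂ) = 5544
  dF : charDegree (F : G → ℂ) = 5796
  seven : ∀ g, 7 ∣ orderOf g → (B : G → ℂ) g = 1
  tau : ∀ m : IrrCharacter G → ℕ, (∀ g, 5 ∣ orderOf g → ∑ φ, m φ * (φ : G → ℂ) g = 0) →
    m (irrOne G) ≤ m B + m E
  col : ∃ c ∈ [192, 12], ∃ X : BD G 5 4 c (-5796) [1771, -2024, -5544], X.F = [F, A, B, E]

variable [IsSimpleGroup G] (hG : Nat.card G = 244823040)
include hG

omit [IsSimpleGroup G] in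
theorem zero {p : ℕ} {χ : IrrCharacter G} {d : ℕ} (hd : charDegree (χ : G → ℂ) = d) {g : G}
    (hg : p ∣ orderOf g) (h : p ∣ d := by norm_num) (hp : p.Prime := by norm_num)
    (h2 : ¬ p ^ 2 ∣ 244823040 := by norm_num) : (χ : G → ℂ) g = 0 :=
  CT.zero_of_defect χ.2 (a := 1) hp (hG ▸ h2) (by rwa [pow_one, hd]) hg

theorem exists_S5 : ∃ A B E F : IrrCharacter G, S5 A B E F := by
  obtain ⟨c, hc, ⟨X⟩⟩ := B5 hG
  obtain ⟨A, B, E, hX, hA, hB, hE⟩ : ∃ A B E, X.L = [A, B, E] ∧ sd X.δ A = 1771 ∧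
      sd X.δ B = -2024 ∧ sd X.δ E = -5544 := by
    have h := X.hl
    simp only [List.map_eq_cons_iff, List.map_eq_nil_iff] at h
    obtain ⟨_, _, h, h0, _, _, rfl, h1, _, _, rfl, h2, rfl⟩ := h
    exact ⟨_, _, _, h, h0, h1, h2⟩
  obtain ⟨δA, dA, -⟩ := X.of_pos (by simp [hX]) 1771 hA
  obtain ⟨δB, dB, -⟩ := X.of_neg (by simp [hX]) 2024 hB
  obtain ⟨δE, dE, -⟩ := X.of_neg (by simp [hX]) 5544 hE
  have dF : charDegree (X.θ : G → ℂ) = 5796 := X.natAbs_D.symm
  have hε : X.ε = -1 := X.sign_D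
  obtain ⟨θ, hY⟩ := card_eq_one.1 X.blk.card_Y'
  obtain rfl : X.θ = θ := mem_singleton.1 (hY ▸ X.hθ)
  refine ⟨A, B, E, X.θ, dA, dB, dE, dF, fun g hg => ?_, fun m hm => ?_, c, hc, X,
    by rw [BD.F, hY, hX, toList_singleton]; rfl⟩
  · have h := X.rel (X.not_dvd_order (by norm_num) (by norm_num) (by
      simp only [List.mem_cons, List.not_mem_nil, or_false] at hc
      omega) hg) X.hθ
    simp only [hX, List.map_cons, List.map_nil, List.sum_cons, List.sum_nil, δB,
      zero hG dA hg, zero hG dE hg, zero hG dF hg] at h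
    push_cast at h
    linear_combination -h
  · have h := X.tau_eq' m (s := 0) (by simpa using hm)
    simp only [hX, List.map_cons, List.map_nil, List.sum_cons, List.sum_nil, δA, δB, δE, hε, hY,
      sum_singleton] at h
    omega

theorem exists_z : ∃ z : G, orderOf z = 2 ∧ (C z).index % 2 = 1 ∧ Nat.card (C z) ∈ CZ ∧
    ∀ χ : IrrCharacter G, charDegree (χ : G → ℂ) = 3840 → (χ : G → ℂ) z = 0 := by
  obtain ⟨z, hz, h1⟩ := exists_two_central (G := G) (by rw [hG]; norm_num)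
  obtain ⟨v, hv⟩ := CT.exists_col_invol (u := z) (by rw [← pow_two, ← hz, pow_orderOf_eq_one])
  have h2 := List.all_eq_true.1 sCZ _ (dvd_cz hG hz)
  rw [← index_C_eq hG rfl, h1, n11 hG hz dvd_rfl] at h2
  obtain ⟨h3, h4⟩ := Bool.and_eq_true_iff.1 h2
  refine ⟨z, hz, h1, List.mem_of_elem_eq_true h3, fun χ hχ => ?_⟩
  have h5 := mem_iv2 hG (by norm_num) hz (not23 hG hz) hv (ne_of_deg hχ deg_irrOne (by norm_num))
    (ex := fun _ _ => true) rfl
  rw [hχ] at h5
  rw [hv, show v χ = 0 from beq_iff_eq.1 (List.all_eq_true.1 h4 _ h5), Int.cast_zero]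

theorem bt {p e : ℕ} {D : ℤ} {l : List ℤ} (X : BD G p e 1 D l) (h2 : p ≠ 2) (h3 : p ≠ 3) :
    btq 3 3 D l = true ∧ ssum 1024 3840 (-D :: l) 0 = true := by
  obtain ⟨z, hz, h1, -, h4⟩ := exists_z hG
  exact ⟨X.btq (by norm_num) h3 (by norm_num) (by rw [hG, fact_eq 3 9067520]) (by norm_num),
    X.bt2 (b := 10) h2 (by norm_num) (by rw [hG, fact_eq 10 239085]) hz h1 h4⟩

theorem nest_of {A B E F : IrrCharacter G} (s : S5 A B E F) {D : ℤ} {l : List ℤ}
    (X : BD G 23 11 1 D l) {K : List (IrrCharacter G)} (hK : K.Nodup)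
    (hd : ∀ χ ∈ K, charDegree (χ : G → ℂ) = 1035) {fin : List ℤ → Bool} {k : List ℤ} {sq : ℕ}
    (h : nest k sq fin D l = true) (hk : k = List.replicate K.length 1035 := by rfl)
    (hsq : sq = 7233018 + K.length * 1071225 := by simp) :
    ∃ l', Nonempty (BD G 11 10 1 5796 l') ∧ fin l' = true := by
  classical
  subst hk hsq
  obtain ⟨x, hx⟩ := exists_ord hG 11
  obtain ⟨D', l', Y, h1, -⟩ := (setup hG hx).exists_BD1 (c11 hG x hx) (N11 hG x hx) rfl
    (ne_of_deg s.dF deg_irrOne (by norm_num)) (by rw [s.dF]; norm_num)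
  have h2 : sgp 11 _ = _ := (List.cons.inj (Y.map_sgp rfl (by norm_num))).1
  rw [h1, s.dF] at h2
  obtain rfl : D' = 5796 := neg_injective h2.symm
  rw [nest, (bt hG X (by norm_num) (by norm_num)).1, (bt hG X (by norm_num) (by norm_num)).2,
    ← X.degR, off_map, Bool.not_true, Bool.false_or, Bool.false_or] at h
  have h3 : ∀ χ ∈ X.F, χ ≠ irrOne G ∧ ¬ 23 ∣ charDegree (χ : G → ℂ) := fun χ hχ =>
    ⟨(X.mem_F.1 hχ).2, X.not_dvd hχ⟩
  have h4 : ∀ χ ∈ K ++ X.F.filter fun χ : IrrCharacter G =>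
      !Nat.beq (charDegree (χ : G → ℂ) % 11) 0, χ ∈ Y.L := fun χ hχ => by
    rcases List.mem_append.1 hχ with h4 | h4
    · exact Y.mem_L (hd χ h4) (by norm_num) (by norm_num) (by norm_num)
    · obtain ⟨h5, h6⟩ := List.mem_filter.1 h4
      rw [Bool.not_eq_true', ← Bool.not_eq_true, Nat.beq_eq] at h6
      refine (List.mem_cons.1 ((Y.mem_cons_iff rfl).2 ⟨(h3 χ h5).1, by omega⟩)).resolve_left ?_
      rintro rfl
      exact (h3 _ h5).2 (by rw [h1, s.dF]; norm_num)
  obtain ⟨l'', h5, h6⟩ := Y.rest hG (by norm_num) (E := (X.F.filter fun χ : IrrCharacter G =>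
      Nat.beq (charDegree (χ : G → ℂ) % 11) 0) ++ [A, B])
    (List.nodup_append.2 ⟨hK, X.nodup.filter _, fun χ h5 _ h6 h7 =>
      (h3 _ (List.mem_filter.1 h6).1).2 (by rw [← h7, hd χ h5]; norm_num)⟩) h4
    (by
      rw [← List.append_assoc]
      refine List.nodup_append.2 ⟨Y.nodup_on X.nodup, nodup_of_deg (by simp [s.dA, s.dB]),
        fun χ h5 ψ h6 h7 => ?_⟩
      have h8 : 253 ∣ charDegree (χ : G → ℂ) := by
        simp only [List.mem_cons, List.not_mem_nil, or_false] at h6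
        rcases h6 with rfl | rfl
        exacts [by rw [h7, s.dA]; norm_num, by rw [h7, s.dB]; norm_num]
      rcases List.mem_append.1 h5 with h5 | h5
      exacts [Y.not_dvd h5 (by omega), (h3 _ (List.mem_filter.1 h5).1).2 (by omega)])
    (by
      simp only [List.mem_append, List.mem_filter, List.mem_cons, List.not_mem_nil, or_false, not_or]
      exact ⟨fun h => X.one_notMem h.1, ne_of_deg deg_irrOne s.dA (by norm_num),
        ne_of_deg deg_irrOne s.dB (by norm_num)⟩)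
    (fun χ h5 h6 => by
      have h7 := (Y.lst.mem_of h5).2
      have h8 := Y.not_dvd (List.mem_append_right _ h5)
      rw [ok_of hG h7 (Y.natAbs_sd h5), Y.natAbs_sd h5, Bool.true_and, Nat.beq_eq]
      by_contra h9
      exact h6 (List.mem_append_right _ (List.mem_filter.2 ⟨X.mem_of rfl h7 (by omega), by
        rw [Bool.not_eq_true', ← Bool.not_eq_true, Nat.beq_eq]; omega⟩)))
    rfl (by
      rw [List.map_congr_left fun χ hχ => Y.sd_eq (by norm_num) (h4 χ hχ), List.map_append,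
        List.map_map, List.map_congr_left (l := K) (g := fun _ => 1035) fun χ hχ => by
          rw [hd χ hχ]; rfl, List.map_const']
      rfl)
    (by
      have h5 := ((List.filter_append_perm (fun χ : IrrCharacter G =>
        Nat.beq (charDegree (χ : G → ℂ) % 11) 0) X.F).map fun χ : IrrCharacter G =>
          charDegree (χ : G → ℂ) * charDegree (χ : G → ℂ)).sum_eq
      simp only [sqs_dg]
      simp only [List.map_append, List.sum_append, List.map_cons, List.map_nil,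
        List.sum_cons, List.sum_nil, s.dA, s.dB] at h5 ⊢
      rw [List.map_congr_left (l := K) (g := fun _ => 1071225) fun χ hχ => by rw [hd χ hχ],
        List.map_const', List.sum_replicate, smul_eq_mul]
      omega) h
  obtain ⟨Z⟩ := id h5
  rw [(bt hG Z (by norm_num) (by norm_num)).1, (bt hG Z (by norm_num) (by norm_num)).2] at h6
  exact ⟨l'', h5, h6⟩

theorem no540 {l : List ℤ} (X : BD G 23 11 1 540 l)
    (h45 : ∀ χ : IrrCharacter G, charDegree (χ : G → ℂ) ≠ 45) : False := by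
  classical
  obtain ⟨y, hy⟩ := exists_ord hG 7
  obtain ⟨e, c, hc, hN, h1⟩ := (setup hG hy).loc (np hG) hG s540
  obtain ⟨U, V, δ, ε, Z⟩ := (setup hG hy).exists_blk hN
  obtain ⟨M, hM, hB⟩ := Z.blk
  have := hM.isMaximal
  have hL : ∀ χ ∈ X.L, charDegree (χ : G → ℂ) % 23 = 1 ∨ charDegree (χ : G → ℂ) % 23 + 1 = 23 :=
    fun χ h => (mod_of_modEq one_pos (by norm_num) (X.blk.sign χ (X.lst.mem_of h).1)
      (by simpa using X.blk.deg χ (X.lst.mem_of h).1)).imp And.right And.right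
  have hY : ∀ θ ∈ X.Y, charDegree (θ : G → ℂ) = 540 := fun θ => X.deg_Y
  have hY2 : X.Y.card = 2 := X.blk.card_Y'
  obtain ⟨S, σ, hS, h2, ⟨t, ht⟩, h3, ψ, h4⟩ := X.exists_nd rfl (fun χ hχ => by
    have h0 : charDegree (χ : G → ℂ) = 540 := hχ
    rcases X.cases χ with h | rfl | h | h
    · omega
    · exact absurd (h0.symm.trans deg_irrOne) (by norm_num)
    · exact h
    · have := hL χ h
      omega) hM (by norm_num) (by norm_num) (by rw [hG, fact_eq 1 34974720]) (by norm_num)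
  by_cases h5 : irrOne G ∈ S
  · have h6 : ∀ θ ∈ X.Y, θ ∈ U ∨ θ ∈ V := fun θ hθ => (hB θ).1 ((h2 _ h5).2.2.1.symm.trans
      (X.sameBlock hM (by norm_num) (by rw [hG]; norm_num) (by norm_num) X.hθ hθ))
    have h7 := (h6 _ X.hθ).elim Z.dvd_index_X Z.dvd_index_Y
    rw [hY _ X.hθ, index_C_eq hG hc] at h7
    rw [Nat.mod_eq_zero_of_dvd h7] at h1
    obtain rfl : e = 2 := Nat.beq_eq ▸ h1
    have h8 := card_le_card (show insert (irrOne G) X.Y ⊆ U from insert_subset Z.one_mem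
      fun θ hθ => (h6 θ hθ).resolve_right fun h => by
        have h8 := mod_of_modEq two_pos (by norm_num) Z.sign_Y (Z.deg_Y θ h)
        rw [hY θ hθ] at h8
        omega)
    rw [card_insert_of_notMem (h2 _ h5).2.1, hY2, Z.card_X] at h8
    omega
  have h6 : ∀ χ ∈ S, χ ≠ irrOne G := fun χ h h' => h5 (h' ▸ h)
  have h7 : ∀ χ ∈ S, okS (sd σ χ) = true := fun χ h => by
    have h7 : (sd σ χ).natAbs = _ := natAbs_sign_mul (h2 χ h).1 _
    have h8 := (h2 χ h).2.2.2
    have h9 := h45 χ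
    simp only [okS, ok_of hG (h6 χ h) h7, h7, Srch.okd, Bool.and_eq_true, Bool.or_eq_true,
      Bool.not_eq_true', ← Bool.not_eq_true, Nat.beq_eq, true_and]
    rcases X.cases χ with h10 | h10 | h10 | h10
    exacts [by omega, absurd h10 (h6 χ h), absurd h10 (h2 χ h).2.1, by have := hL χ h10; omega]
  have h8 : (S.map (sd σ)).sum = -1080 := by
    have h8 := h3 1 (by simp)
    rw [sum_congr rfl fun θ hθ => apply_one_of_deg (hY θ hθ), sum_const, hY2] at h8
    simp only [dg_spec] at h8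
    apply Int.cast_injective (α := ℂ)
    rw [Int.cast_list_sum, List.map_map, List.map_congr_left (g := fun χ => (σ χ : ℂ) * dg χ)
      fun χ _ => by simp [sd, dg]]
    push_cast
    linear_combination h8
  have h9 : (S.map fun χ => (sd σ χ).natAbs * (sd σ χ).natAbs).sum ≤ 244823040 := by
    have h9 := sqs_le hS h5 (u := 1) dg_spec
    rw [sqs_dg, card_C_one, hG] at h9
    rw [List.map_congr_left fun χ h => by rw [sd, natAbs_sign_mul (h2 χ h).1]]
    omega
  have hm := fun p r χ h h' => mem_sdegs_of (p := p) (r := r) (CT.commutator_eq_top (np hG)) hG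
    (by norm_num) (h6 χ h) (h2 χ h).1 h' (hG ▸ χ.2.charDegree_dvd_card) (h7 χ h)
  obtain ⟨L, h10, h11⟩ : ∃ L : List (IrrCharacter G), L.Perm (S ++ []) ∧
      finS (L.map (sd σ)) = true := by
    by_cases h10 : S.length = 5
    · exact srch_sound (sd σ) _ (pairwise_srt _) 5 S [] _ h10 (fun χ h => hm 7 1 χ h (by
        have h11 := h4 χ h (.inr (by omega))
        rw [sd, Int.ModEq] at h11
        rw [Int.ModEq]
        rcases (h2 χ h).1 with h12 | h12 <;> rw [h12] at h11 ⊢ <;> omega)) h9 (h8 ▸ sD5)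
    have h11 : S.length + 1 ∈ Nat.divisors 6 := Nat.mem_divisors.2
      ⟨Dvd.intro_left t (by omega), by norm_num⟩
    exact srch_sound (sd σ) _ (pairwise_srt _) _ S [] _ rfl (fun χ h => hm 1 0 χ h Int.modEq_one)
      h9 (h8 ▸ List.all_eq_true.1 sD1 _ (by
        rw [show Nat.divisors 6 = {1, 2, 3, 6} from rfl] at h11
        simp only [mem_insert, mem_singleton, List.mem_cons, List.not_mem_nil, or_false] at h11 ⊢
        omega))
  rw [List.append_nil] at h10
  have h12 : ∀ g, ¬ 7 ∣ orderOf g → ∑ θ ∈ X.Y, (θ : G → ℂ) g +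
      (L.map fun χ => (σ χ : ℂ) * (χ : G → ℂ) g).sum = 0 := fun g hg => by
    rw [(h10.map _).sum_eq, h3 g hg]
  obtain ⟨x, hx⟩ := exists_ord hG 11
  obtain ⟨w, hw⟩ := exists_ord hG 23
  have h13 := (setup hG hx).tau_rel (c11 hG x hx) (N11 hG x hx) (by norm_num) rfl hY
    (fun χ h => (h2 χ (h10.subset h)).1) fun g hg => h12 g (by rw [hg]; norm_num)
  have h14 := (setup hG hw).tau_rel (c23 hG w hw) (N23 hG w hw) (by norm_num) rfl hY
    (fun χ h => (h2 χ (h10.subset h)).1) fun g hg => h12 g (by rw [hg]; norm_num)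
  rw [hY2, show tf 11 10 540 = 10 from rfl] at h13
  rw [hY2, show tf 23 11 540 = -11 from rfl] at h14
  simp only [finS, Bool.not_eq_true', ← Bool.not_eq_true, Bool.and_eq_true, beq_iff_eq,
    Bool.or_eq_true, Nat.blt_eq, List.any_eq_true, List.length_map] at h11
  refine h11 ⟨⟨by omega, by omega⟩, or_iff_not_imp_left.2 fun h15 => ?_⟩
  obtain ⟨χ, h16, h17⟩ : ∃ χ ∈ L, χ ≠ ψ := by
    by_contra! h16
    exact h15 (Nat.lt_succ_of_le ((List.subperm_of_subset (h10.nodup_iff.2 hS) (l₂ := [ψ])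
      fun χ h => List.mem_singleton.2 (h16 χ h)).length_le))
  exact ⟨_, List.mem_map_of_mem h16, h4 χ (h10.subset h16) (.inl h17)⟩

theorem exists_45 : ∃ χ : IrrCharacter G, charDegree (χ : G → ℂ) = 45 := by
  by_contra! h45
  obtain ⟨A, B, E, F, s⟩ := exists_S5 hG
  obtain ⟨x, hx⟩ := exists_ord hG 23
  obtain ⟨D, l, ⟨X⟩⟩ := (setup hG hx).exists_BD0 (c := 1) (c23 hG x hx) (N23 hG x hx)
  have h1 := mod_of_modEq X.blk.e_pos X.blk.e_lt X.blk.sign_Y (X.blk.deg_Y _ X.hθ)
  have h2 := X.mem_L s.dE (by norm_num) (by norm_num) (by rw [X.natAbs_D]; omega)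
  obtain ⟨l', ⟨Y⟩, h3⟩ := X.rest hG (by norm_num) (List.nodup_singleton E) (by simpa using h2)
    (E := [A, B, F]) (List.nodup_append.2 ⟨X.nodup, nodup_of_deg (by simp [s.dA, s.dB, s.dF]),
      fun χ h3 ψ h4 h5 => X.not_dvd h3 (by
        simp only [List.mem_cons, List.not_mem_nil, or_false] at h4
        rcases h4 with rfl | rfl | rfl <;> simp [h5, s.dA, s.dB, s.dF])⟩)
    (by simp [ne_of_deg deg_irrOne s.dA, ne_of_deg deg_irrOne s.dB, ne_of_deg deg_irrOne s.dF])
    (fun χ h3 _ => by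
      rw [ok_of hG (X.lst.mem_of h3).2 (X.natAbs_sd h3), X.natAbs_sd h3, Bool.true_and,
        Bool.not_eq_true', ← Bool.not_eq_true, Nat.beq_eq]
      exact h45 χ)
    (by
      rw [ok_of hG (X.blk.ne_one_Y X.hθ) X.natAbs_D, Bool.true_and, Bool.not_eq_true',
        ← Bool.not_eq_true, Nat.beq_eq]
      intro h
      obtain rfl : D = 540 := by
        have h3 := X.hD
        rw [← X.natAbs_D, h] at h1 h3
        omega
      exact no540 hG X h45)
    (by rw [List.map_singleton, X.sd_eq (by norm_num) h2, s.dE]; rfl)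
    (by simp [sqs, rc, dg, s.dA, s.dB, s.dE, s.dF]) sD
  obtain ⟨-, -, h4⟩ := nest_of hG s Y List.nodup_nil (by simp) h3
  exact Bool.false_ne_true h4

end M24

end Cfsg.Agent.Inv
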