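import Mathlib
import Cfsg.Agent.Inv.M24B

/-!
Simple groups of order 244823040: the principal blocks for the primes 23 and 11.
-/

set_option autoImplicit false

namespace Cfsg.Agent.Inv

open Finset Cfsg.Agent.Ch Cfsg.Agent.Inv.PB Cfsg.Agent.Inv.M11 Cfsg.Agent.Inv.Srch
  Cfsg.Agent.Inv.Sieve ComplexConjugate

variable {G : Type*} [Group G] [Fintype G]

theorem PB.BD.deg_mem {p e c : ℕ} {D : ℤ} {l : List ℤ} (B : BD G p e c D l) {χ : IrrCharacter G}
    (h : χ ∈ B.F) : charDegree (χ : G → ℂ) ∈ (-D :: l).map Int.natAbs := by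
  rcases List.mem_append.1 h with h | h
  · exact List.mem_map.2 ⟨_, List.mem_cons_self, by rw [Int.natAbs_neg, B.deg_Y (mem_toList.1 h)]⟩
  · exact List.mem_map.2 ⟨_, List.mem_cons_of_mem _ (B.sd_mem h), B.natAbs_sd h⟩

/-- If `χ χ̄` has two constituents, both squares are irreducible. -/
theorem CT.exists_sq_irr {χ B : IrrCharacter G} (hB : B ≠ irrOne G) {s t : ℕ}
    (hs : (χ : G → ℂ) 1 ^ 2 + (χ : G → ℂ) 1 = 2 * s) (ht : (χ : G → ℂ) 1 ^ 2 - (χ : G → ℂ) 1 = 2 * t)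
    (hs1 : 1 < s) (ht1 : 1 < t)
    (h : ∀ g, (χ : G → ℂ) g * conj ((χ : G → ℂ) g) = 1 + (B : G → ℂ) g) :
    CT.bar χ ≠ χ ∧ ∃ ρ Λ : IrrCharacter G, charDegree (ρ : G → ℂ) = s ∧ charDegree (Λ : G → ℂ) = t ∧
      (∀ g, 2 * (ρ : G → ℂ) g = (χ : G → ℂ) g ^ 2 + (χ : G → ℂ) (g ^ 2)) ∧
      ∀ g, 2 * (Λ : G → ℂ) g = (χ : G → ℂ) g ^ 2 - (χ : G → ℂ) (g ^ 2) := by
  classical
  have hS := CT.isCharacter_sym χ.isCharacter
  have hA := CT.isCharacter_alt χ.isCharacter
  set S := fun g => ((χ : G → ℂ) g ^ 2 + (χ : G → ℂ) (g ^ 2)) / 2 with hS'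
  set A := fun g => ((χ : G → ℂ) g ^ 2 - (χ : G → ℂ) (g ^ 2)) / 2 with hA'
  have h1 : ∀ g, (S + A) g = (χ : G → ℂ) g ^ 2 := fun g => by simp only [hS', hA', Pi.add_apply]; ring
  have h2 : classInner (S + A) (S + A) =
      classInner ((irrOne G : G → ℂ) + (B : G → ℂ)) ((irrOne G : G → ℂ) + (B : G → ℂ)) := by
    simp only [classInner, h1, Pi.add_apply, irrOne_apply, ← h, map_mul, map_pow, Complex.conj_conj]
    exact congrArg _ (sum_congr rfl fun g _ => by ring)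
  have hS1 : S 1 = s := by simp only [hS', one_pow, hs]; ring
  have hA1 : A 1 = t := by simp only [hA', one_pow, ht]; ring
  obtain ⟨a, ha⟩ := hS.exists_nat_classInner hS
  obtain ⟨b, hb⟩ := hS.exists_nat_classInner hA
  obtain ⟨c, hc⟩ := hA.exists_nat_classInner hS
  obtain ⟨d, hd⟩ := hA.exists_nat_classInner hA
  have h3 : a ≠ 0 := fun h => by
    rw [h, Nat.cast_zero, classInner_self_eq_zero] at ha
    rw [ha, Pi.zero_apply, eq_comm, Nat.cast_eq_zero] at hS1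
    omega
  have h4 : d ≠ 0 := fun h => by
    rw [h, Nat.cast_zero, classInner_self_eq_zero] at hd
    rw [hd, Pi.zero_apply, eq_comm, Nat.cast_eq_zero] at hA1
    omega
  simp only [classInner_add_add_self, ha, hb, hc, hd, classInner_irr, if_pos, if_neg hB,
    if_neg hB.symm] at h2
  norm_cast at h2
  let ρ : IrrCharacter G := ⟨S, hS.isIrr_of_classInner_self (by rw [ha, show a = 1 by omega]; simp)⟩
  let Λ : IrrCharacter G := ⟨A, hA.isIrr_of_classInner_self (by rw [hd, show d = 1 by omega]; simp)⟩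
  have dρ : charDegree (ρ : G → ℂ) = s := by exact_mod_cast ρ.2.coe_charDegree.trans hS1
  have dΛ : charDegree (Λ : G → ℂ) = t := by exact_mod_cast Λ.2.coe_charDegree.trans hA1
  refine ⟨fun h5 => ?_, ρ, Λ, dρ, dΛ, fun g => by simp only [ρ, hS']; ring,
    fun g => by simp only [Λ, hA']; ring⟩
  have h6 : (ρ : G → ℂ) + (Λ : G → ℂ) = (irrOne G : G → ℂ) + (B : G → ℂ) := funext fun g => by
    rw [h1, Pi.add_apply, irrOne_apply, ← h, ← CT.bar_apply, h5, pow_two]
  have h7 := congrArg (classInner · (irrOne G : G → ℂ)) h6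
  simp only [classInner_add_left, classInner_irr, if_neg hB, if_neg (ne_of_deg dρ deg_irrOne hs1.ne'),
    if_neg (ne_of_deg dΛ deg_irrOne ht1.ne'), if_pos] at h7
  simp at h7

namespace M24

variable [IsSimpleGroup G] (hG : Nat.card G = 244823040)
include hG

omit [IsSimpleGroup G] in
theorem mul_bar {A B E F : IrrCharacter G} (s : S5 A B E F) {χ : IrrCharacter G}
    (hχ : charDegree (χ : G → ℂ) = 45) (g : G) :
    (χ : G → ℂ) g * conj ((χ : G → ℂ) g) = 1 + (B : G → ℂ) g := by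
  classical
  obtain ⟨m, h1, h2, h3⟩ := exists_mult (χ.isCharacter.mul χ.isCharacter.complexConj) (n := 2025)
    (by rw [Pi.mul_apply, apply_one_of_deg hχ, map_natCast]; norm_num)
  have h4 : m (irrOne G) = 1 := by
    have h4 := h1 (irrOne G)
    rw [classInner_mul_left, show (irrOne G : G → ℂ) * _ = χ from funext fun g => by simp,
      classInner_irr, if_pos rfl] at h4
    exact_mod_cast h4.symm
  have h5 := s.tau m fun g hg => by rw [h2, Pi.mul_apply, zero hG hχ hg, zero_mul]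
  have h6 : m E = 0 := by
    by_contra h
    exact absurd (s.dE ▸ deg_le_of_mult h3 h) (by norm_num)
  have h7 := eq_sum_of_deg (m := m) (L := [irrOne G, B]) (nodup_of_deg (by simp [s.dB, deg_irrOne]))
    (by simp only [List.mem_cons, List.not_mem_nil, or_false]; rintro _ (rfl | rfl) <;> omega)
    (by simp [h3, s.dB, deg_irrOne]) g
  simpa [h2] using h7

theorem B7 {B χ : IrrCharacter G} (dB : charDegree (B : G → ℂ) = 2024)
    (hB : ∀ g, 7 ∣ orderOf g → (B : G → ℂ) g = 1)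
    (h : ∀ g, (χ : G → ℂ) g * conj ((χ : G → ℂ) g) = 1 + (B : G → ℂ) g) :
    ∃ θ θ' : IrrCharacter G, θ ≠ θ' ∧ charDegree (θ : G → ℂ) = 990 ∧
      charDegree (θ' : G → ℂ) = 990 ∧ ∀ g, ¬ 7 ∣ orderOf g → (θ' : G → ℂ) g = (θ : G → ℂ) g := by
  obtain ⟨y, hy⟩ := exists_ord hG 7
  have hs := setup hG hy
  obtain ⟨e, c, hc, hN, h1⟩ := hs.loc (np hG) hG s7
  rw [n23 hG hy (Dvd.intro _ hc.symm), n11 hG hy (Dvd.intro _ hc.symm), Bool.false_or,
    Bool.false_or, Bool.or_eq_true, Nat.beq_eq] at h1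
  obtain ⟨D, l, X, h2, h3⟩ := hs.exists_BD2 hG (by norm_num) hc hN
    (ok_blk fun _ _ _ _ _ _ _ h0 _ ha => ok_of hG h0 ha) (h1.resolve_left fun h1 => by
      obtain ⟨a, ha⟩ := hs.exists_col (by rw [hN, h1])
      have h2 := h y
      rw [hB y hy.symm.dvd, ha, map_intCast] at h2
      have h3 : a χ * a χ = 2 := by exact_mod_cast h2.trans one_add_one_eq_two
      have h4 : a χ < 2 := by nlinarith
      have h5 : -2 < a χ := by nlinarith
      generalize a χ = b at h3 h4 h5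
      interval_cases b <;> omega)
  have h4 := hs.tau_list id (fun _ => 1) [B] (s := 1) fun g hg => by simpa using hB g hg
  have h5 := X.deg_mem (X.mem_F.2 ⟨by
    by_contra! h5
    simp [← h2, X.blk.tau_other h5.1 h5.2] at h4, ne_of_deg dB deg_irrOne (by norm_num)⟩)
  rw [List.elem_eq_true_of_mem (dB ▸ h5)] at h3
  simp only [Bool.not_true, Bool.false_or, Bool.and_eq_true, Nat.beq_eq, beq_iff_eq] at h3
  obtain ⟨⟨rfl, rfl⟩, rfl⟩ := h3
  obtain ⟨θ, θ', h6, h7⟩ := card_eq_two.1 X.blk.card_Y'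
  exact ⟨θ, θ', h6, X.deg_Y (by simp [h7]), X.deg_Y (by simp [h7]),
    fun g hg => X.blk.agree g hg _ (by simp [h7]) _ (by simp [h7])⟩

theorem T3 {D : ℤ} {l : List ℤ} (X : BD G 23 11 1 D l) {M : Ideal AlgInt} (hM : IsPModular 3 M)
    {χ : IrrCharacter G} {d : ℕ} (hd : charDegree (χ : G → ℂ) = d) (h : d.factorization 3 = 2)
    (hc : cntR 23 11 D l d ≤ 2) (h2 : ¬ 23 ∣ d := by norm_num) :
    ∃ a b : IrrCharacter G, (∀ ψ : IrrCharacter G, SameBlock M (χ : G → ℂ) ψ ↔ ψ ∈ [χ, a, b]) ∧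
      (∀ ψ ∈ [a, b], charDegree (ψ : G → ℂ) ∈ [45, 252, 495, 990, 1035, 2277, 2772, 3312, 4554,
        5544, 5796, 6336, 9108, 11385, 12672]) ∧
      (d = charDegree (a : G → ℂ) + charDegree (b : G → ℂ) ∨
        charDegree (a : G → ℂ) = d + charDegree (b : G → ℂ) ∧
          ∀ g, ¬ 3 ∣ orderOf g → (a : G → ℂ) g = (χ : G → ℂ) g + (b : G → ℂ) g) := by
  subst hd
  obtain ⟨a, b, h3, h4, h5, h6⟩ := exists_T3 hM (χ := χ) (by rw [h, hG, fact_eq 3 9067520])
  have h0 : ¬ 3 ∣ orderOf (1 : G) := by simp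
  refine ⟨a, b, h4, fun ψ hψ => ?_, ?_⟩
  · have h7 := (h5 ψ (List.mem_cons_of_mem _ hψ)).trans h
    have h8 := fun k => (Nat.prime_three.pow_dvd_iff_le_factorization (k := k)
      ψ.2.charDegree_pos.ne')
    have h9 : 3 ^ 2 ∣ _ := (h8 2).2 h7.ge
    have h10 : ¬ 3 ^ 3 ∣ _ := fun h => by have := (h8 3).1 h; omega
    have h11 : ψ ≠ irrOne G := by rintro rfl; rw [deg_irrOne] at h9; omega
    have h12 := sqs_le (List.nodup_singleton ψ) (by simpa using h11.symm) (u := 1) dg_spec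
    have h13 := List.all_eq_true.1 sT _ (mem_divs (by norm_num) (hG ▸ ψ.2.charDegree_dvd_card))
    rw [sqs_dg, card_C_one, hG, List.map_singleton, List.sum_singleton] at h12
    simp only [ok_of hG h11 (Int.natAbs_natCast _), Bool.or_eq_true, Bool.not_eq_true',
      ← Bool.not_eq_true, Nat.beq_eq, Nat.blt_eq] at h13
    exact List.mem_of_elem_eq_true (h13.resolve_left (by simp only [not_true, false_or]; omega))
  rcases h6 with h6 | h6 | h6
  · obtain ⟨h7, h8⟩ := List.nodup_cons.1 h3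
    exact absurd (X.mem_of_cnt h8 (by
      simp [charDegree_congr (h6 1 h0).1, charDegree_congr (h6 1 h0).2])
      (fun h1 => by simp [h1] at h) h2 hc rfl) h7
  · have h7 := h6 1 h0
    simp only [← IsIrrCharacter.coe_charDegree (Subtype.prop _)] at h7
    exact .inl (by exact_mod_cast h7)
  · have h7 := h6 1 h0
    simp only [← IsIrrCharacter.coe_charDegree (Subtype.prop _)] at h7
    exact .inr ⟨by exact_mod_cast h7, h6⟩

theorem T45 {D : ℤ} {l : List ℤ} (X : BD G 23 11 1 D l) {M : Ideal AlgInt} (hM : IsPModular 3 M)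
    {χ : IrrCharacter G} (hd : charDegree (χ : G → ℂ) = 45) (hc : cntR 23 11 D l 45 ≤ 2) :
    ∃ a b : IrrCharacter G, (∀ ψ : IrrCharacter G, SameBlock M (χ : G → ℂ) ψ ↔ ψ ∈ [χ, a, b]) ∧
      charDegree (a : G → ℂ) = 1035 ∧ charDegree (b : G → ℂ) = 990 ∧
      ∀ g, ¬ 3 ∣ orderOf g → (a : G → ℂ) g = (χ : G → ℂ) g + (b : G → ℂ) g := by
  obtain ⟨a, b, h1, h2, h3⟩ := T3 hG X hM hd (fact_eq 2 5) hc
  simp only [List.mem_cons, List.not_mem_nil, or_false, forall_eq_or_imp, forall_eq] at h2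
  obtain ⟨h4, h5⟩ := h3.resolve_left (by omega)
  exact ⟨a, b, h1, by omega, by omega, h5⟩

theorem T252 {D : ℤ} {l : List ℤ} (X : BD G 23 11 1 D l) {M : Ideal AlgInt} (hM : IsPModular 3 M)
    {χ : IrrCharacter G} (hd : charDegree (χ : G → ℂ) = 252) (hc : cntR 23 11 D l 252 ≤ 2) :
    ∃ a b : IrrCharacter G, (∀ ψ : IrrCharacter G, SameBlock M (χ : G → ℂ) ψ ↔ ψ ∈ [χ, a, b]) ∧
      charDegree (a : G → ℂ) = 5796 ∧ charDegree (b : G → ℂ) = 5544 ∧
      ∀ g, ¬ 3 ∣ orderOf g → (a : G → ℂ) g = (χ : G → ℂ) g + (b : G → ℂ) g := by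
  obtain ⟨a, b, h1, h2, h3⟩ := T3 hG X hM hd (fact_eq 2 28) hc
  simp only [List.mem_cons, List.not_mem_nil, or_false, forall_eq_or_imp, forall_eq] at h2
  obtain ⟨h4, h5⟩ := h3.resolve_left (by omega)
  exact ⟨a, b, h1, by omega, by omega, h5⟩

theorem no6336 {l : List ℤ} (X : BD G 23 11 1 6336 l) (h1 : cntR 23 11 6336 l 6336 ≤ 2)
    (h2 : cntR 23 11 6336 l 2772 ≤ 0) (h3 : cntR 23 11 6336 l 12672 ≤ 0) : False := by
  obtain ⟨M, hM⟩ := Blk.exists_isPModular Nat.prime_three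
  obtain ⟨a, b, -, h4, h5⟩ := T3 hG X hM (d := 6336) X.natAbs_D.symm (fact_eq 2 704) h1
  have h6 := X.not_deg b 2772 (hc := h2)
  have h7 := X.not_deg a 12672 (hc := h3)
  simp only [List.mem_cons, List.not_mem_nil, or_false, forall_eq_or_imp, forall_eq] at h4
  replace h5 := h5.imp_right And.left
  omega

theorem no2772
    (X : BD G 23 11 1 (-2772) [-252, 990, 990, -1540, -10395, 5544, 990, 990, -45, -45]) :
    False := by
  obtain ⟨M, hM⟩ := Blk.exists_isPModular Nat.prime_three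
  have := hM.isMaximal
  have h0 : charDegree (X.θ : G → ℂ) = 2772 := X.natAbs_D.symm
  obtain ⟨a, b, h1, h4, h5⟩ := T3 hG X hM h0 (fact_eq 2 308) (by decide)
  obtain ⟨χ, -, hχ⟩ := X.exists_mem (a := -252) (by simp)
  obtain ⟨a', b', h2, h3, h6, -⟩ := T252 hG X hM hχ.symm (by decide)
  have h7 := X.not_deg a 495
  have h8 := X.not_deg b 495
  have h9 := X.not_deg b 6336
  simp only [List.mem_cons, List.not_mem_nil, or_false, forall_eq_or_imp, forall_eq] at h4
  replace h5 := h5.imp_right And.left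
  obtain rfl := X.eq_of_cnt (χ := a) (by omega) h6
  have h10 := (h2 X.θ).1 (((h2 a).2 (by simp)).trans ((h1 a).2 (by simp)).symm)
  have h11 : charDegree (χ : G → ℂ) = 252 := hχ.symm
  simp only [List.mem_cons, List.not_mem_nil, or_false] at h10
  rcases h10 with h | h | h <;> rw [h] at h0 <;> omega

theorem exists_P {A B E F : IrrCharacter G} (s : S5 A B E F) {χ χ' θ θ' ρ : IrrCharacter G}
    (dχ : charDegree (χ : G → ℂ) = 45) (dχ' : charDegree (χ' : G → ℂ) = 45) (h1 : χ' ≠ χ)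
    (dθ : charDegree (θ : G → ℂ) = 990) (dθ' : charDegree (θ' : G → ℂ) = 990) (h2 : θ ≠ θ')
    (dρ : charDegree (ρ : G → ℂ) = 1035) :
    ∃ D l, (D, l) ∈ P23 ∧ Nonempty (BD G 23 11 1 D l) := by
  have d1 := @deg_irrOne G _
  obtain ⟨x, hx⟩ := exists_ord hG 23
  obtain ⟨D, l, ⟨X⟩⟩ := (setup hG hx).exists_BD0 (c := 1) (c23 hG x hx) (N23 hG x hx)
  have h4 := mod_of_modEq X.blk.e_pos X.blk.e_lt X.blk.sign_Y (X.blk.deg_Y _ X.hθ)
  have h5 : ∀ ψ ∈ [E, θ, θ', χ, χ'], ψ ∈ X.L := by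
    simp only [List.mem_cons, List.not_mem_nil, or_false, forall_eq_or_imp, forall_eq]
    refine ⟨X.mem_L s.dE ?_ ?_ ?_, X.mem_L dθ ?_ ?_ ?_, X.mem_L dθ' ?_ ?_ ?_, X.mem_L dχ ?_ ?_ ?_,
      X.mem_L dχ' ?_ ?_ ?_⟩ <;> first | (rw [X.natAbs_D]; omega) | norm_num
  obtain ⟨l', ⟨Y⟩, h6⟩ := X.rest hG (by norm_num)
    (nodup_of_deg (by simp [s.dE, dθ, dθ', dχ, dχ', h2, h1.symm])) h5
    (E := [A, B, F]) (List.nodup_append.2 ⟨X.nodup, nodup_of_deg (by simp [s.dA, s.dB, s.dF]),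
      fun χ h3 ψ h4 h5 => X.not_dvd h3 (by
        simp only [List.mem_cons, List.not_mem_nil, or_false] at h4
        rcases h4 with rfl | rfl | rfl <;> simp [h5, s.dA, s.dB, s.dF])⟩)
    (by simp [ne_of_deg d1 s.dA, ne_of_deg d1 s.dB, ne_of_deg d1 s.dF])
    (fun χ h3 _ => ok_of hG (X.lst.mem_of h3).2 (X.natAbs_sd h3))
    (ok_of hG (X.blk.ne_one_Y X.hθ) X.natAbs_D)
    (by
      rw [List.map_congr_left fun ψ h => X.sd_eq (by norm_num) (h5 ψ h)]
      simp only [List.map_cons, List.map_nil, s.dE, dθ, dθ', dχ, dχ']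
      rfl)
    (by simp [sqs, rc, dg, s.dA, s.dB, s.dE, s.dF, dθ, dθ', dχ, dχ']) sE1
  rw [Bool.or_eq_true, Bool.or_eq_true] at h6
  rcases h6 with (h6 | h6) | h6
  · obtain ⟨-, -, h7⟩ := nest_of hG s Y (List.nodup_singleton ρ) (by simpa using dρ) h6
    exact absurd h7 Bool.false_ne_true
  · exact ⟨D, l', List.mem_of_elem_eq_true h6, ⟨Y⟩⟩
  simp only [List.elem_eq_mem, List.mem_cons, List.not_mem_nil, or_false, decide_eq_true_eq,
    Prod.mk.injEq] at h6
  rcases h6 with ⟨rfl, rfl⟩ | ⟨rfl, rfl⟩ | ⟨rfl, rfl⟩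
  exacts [(no6336 hG Y (by decide) (by decide) (by decide)).elim,
    (no6336 hG Y (by decide) (by decide) (by decide)).elim, (no2772 hG Y).elim]

theorem exists_R : ∃ a ∈ P23, Nonempty (BD G 23 11 1 a.1 a.2) ∧
    Nonempty (BD G 11 10 1 5796 [23, -483, 3312, 1035, 1035, 1035, -252, 45, 45]) := by
  classical
  obtain ⟨A, B, E, F, s⟩ := exists_S5 hG
  obtain ⟨χ, dχ⟩ := exists_45 hG
  have hB := mul_bar hG s dχ
  have d1 := @deg_irrOne G _
  have χ1 := apply_one_of_deg dχ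
  obtain ⟨h1, ρ, Λ, dρ, dΛ, hρ, hΛ⟩ := CT.exists_sq_irr (s := 1035) (t := 990)
    (ne_of_deg s.dB d1 (by norm_num)) (by rw [χ1]; norm_num) (by rw [χ1]; norm_num)
    (by norm_num) (by norm_num) hB
  have dχ' := (CT.charDegree_bar χ).trans dχ
  obtain ⟨θ, θ', h2, dθ, dθ', h3⟩ := B7 hG s.dB s.seven hB
  obtain ⟨D, l', h7, ⟨Y⟩⟩ := exists_P hG s dχ dχ' h1 dθ dθ' h2 dρ
  obtain ⟨c45, c990, c252, c5544⟩ := (show ∀ a ∈ P23, cntR 23 11 a.1 a.2 45 ≤ 2 ∧
    cntR 23 11 a.1 a.2 990 ≤ 2 ∧ cntR 23 11 a.1 a.2 252 ≤ 2 ∧ cntR 23 11 a.1 a.2 5544 ≤ 1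
    by decide) _ h7
  dsimp only at c45 c990 c252 c5544
  obtain ⟨M, hM⟩ := Blk.exists_isPModular Nat.prime_three
  have := hM.isMaximal
  obtain ⟨β, α, b1, dβ, dα, b2⟩ := T45 hG Y hM dχ c45
  obtain ⟨β', α', b3, dβ', dα', b4⟩ := T45 hG Y hM dχ' c45
  have h8 : β ≠ β' := by
    rintro rfl
    have h8 := (b1 _).1 (((b1 β).2 (by simp)).trans ((b3 β).2 (by simp)).symm)
    simp [h1, ne_of_deg dχ' dβ, ne_of_deg dχ' dα] at h8
  obtain ⟨z, hz, -, hcz, -⟩ := exists_z hG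
  have hz2 : z ^ 2 = 1 := by rw [← hz, pow_orderOf_eq_one]
  obtain ⟨v, hv⟩ := CT.exists_col_invol (u := z) (by rw [← pow_two, hz2])
  have hz3 : ¬ 3 ∣ orderOf z := by rw [hz]; norm_num
  have h9 : ∀ ψ : IrrCharacter G, charDegree (ψ : G → ℂ) = 990 → v ψ = v θ := fun ψ h => by
    have h9 := Y.mem_of_cnt (K := [θ, θ']) (by simpa using h2) (by simp [dθ, dθ']) (by norm_num)
      (by norm_num) c990 h
    simp only [List.mem_cons, List.not_mem_nil, or_false] at h9
    rcases h9 with rfl | rfl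
    exacts [rfl, by exact_mod_cast (hv ψ).symm.trans ((h3 z (by rw [hz]; norm_num)).trans (hv θ))]
  have vχ : v (CT.bar χ) = v χ := by
    apply Int.cast_injective (α := ℂ)
    rw [← hv, CT.bar_apply, hv, map_intCast]
  have vB : v B = v χ * v χ - 1 := by
    have h := hB z
    rw [hv, hv, map_intCast] at h
    have h' : v χ * v χ = 1 + v B := by exact_mod_cast h
    omega
  have vρ : v ρ = (v χ * v χ + 45) / 2 := by
    have h := hρ z
    rw [hv, hv, hz2, χ1, pow_two] at h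
    have h' : 2 * v ρ = v χ * v χ + 45 := by exact_mod_cast h
    omega
  have vΛ : 2 * v θ = v χ * v χ - 45 := by
    have h := hΛ z
    rw [hv, hv, hz2, χ1, pow_two, h9 Λ dΛ] at h
    exact_mod_cast h
  have vβ : v β = v χ + (v χ * v χ - 45) / 2 := by
    have h := b2 z hz3
    rw [hv, hv, hv, h9 α dα] at h
    have h' : v β = v χ + v θ := by exact_mod_cast h
    omega
  have vβ' : v β' = v χ + (v χ * v χ - 45) / 2 := by
    have h := b4 z hz3
    rw [hv, hv, hv, h9 α' dα', vχ] at h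
    have h' : v β' = v χ + v θ := by exact_mod_cast h
    omega
  have h10 := CT.abs_lt_deg (np hG) (ne_of_deg dχ d1 (by norm_num))
    (CT.ne_one_of_orderOf hz (by norm_num)) (hv χ)
  rw [dχ, abs_lt] at h10
  have hK : [ρ, β, β'].Nodup := by
    simp only [List.nodup_cons, List.mem_cons, List.not_mem_nil, or_false, not_or, not_false_eq_true,
      List.nodup_nil, and_true]
    exact ⟨⟨by rintro rfl; omega, by rintro rfl; omega⟩, h8⟩
  have hK' : ∀ ψ ∈ [ρ, β, β'], charDegree (ψ : G → ℂ) = 1035 := by simp [dρ, dβ, dβ']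
  have ho : ∀ (ψ : IrrCharacter G) d, charDegree (ψ : G → ℂ) = d → d ≠ 1 →
      okv 244823040 (Nat.card (C z)) d (v ψ) = true := fun ψ d h h' =>
    h ▸ hG ▸ okv_of (np hG) hz rfl hv (ne_of_deg h d1 h')
  have key : ∀ D' l'', BD G 11 10 1 D' l'' → cntR 11 10 D' l'' 45 ≤ 2 → cntR 11 10 D' l'' 1035 ≤ 3 →
      cntR 11 10 D' l'' 5796 ≤ 1 → zk D' l'' = true → False := fun D' l'' Z c1 c2 c3 h => by
    obtain ⟨c, hc, W, hW⟩ := s.col
    have h11 := mem_iv2 hG (by norm_num) hz (not23 hG hz) hv (ne_of_deg dχ d1 (by norm_num))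
      (ex := fun _ _ => true) rfl
    rw [dχ] at h11
    have h12 := List.all_eq_true.1 (List.all_eq_true.1 h _ hcz) _ h11
    rw [← vB, ← vβ, ← vρ, show (v χ * v χ - 45) / 2 = v θ by omega, ho θ _ dθ (by norm_num),
      ho ρ _ dρ (by norm_num), ho β _ dβ (by norm_num), ho B _ s.dB (by norm_num)] at h12
    simp only [Bool.not_true, Bool.false_or] at h12
    have h13 := W.colR hG (by norm_num) (by norm_num) hz rfl hv (fun ψ hψ => by
      simp only [hW, List.mem_cons, List.not_mem_nil, or_false] at hψ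
      rcases hψ with rfl | rfl | rfl | rfl
      exacts [by rw [s.dF]; rfl, by rw [s.dA]; rfl, by simp, by rw [s.dE]; rfl])
      (List.all_eq_true.1 h12 c hc)
    rw [hW] at h13
    have h14 := Z.colR hG (by norm_num) (by norm_num) hz rfl hv (fun ψ _ => by
      simp only [Bool.and_eq_true, Bool.or_eq_true, Bool.not_eq_true', ← Bool.not_eq_true,
        Nat.beq_eq, beq_iff_eq, or_assoc]
      simp only [← imp_iff_not_or]
      refine ⟨⟨⟨fun h => ?_, fun h => ?_⟩, fun h => ?_⟩, fun h => ?_⟩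
      · have h14 := Z.mem_of_cnt (K := [χ, CT.bar χ]) (by simpa using h1.symm) (by simp [dχ, dχ'])
          (by norm_num) (by norm_num) c1 h
        simp only [List.mem_cons, List.not_mem_nil, or_false] at h14
        rcases h14 with rfl | rfl
        exacts [rfl, vχ]
      · have h14 := Z.mem_of_cnt hK hK' (by norm_num) (by norm_num) c2 h
        simp only [List.mem_cons, List.not_mem_nil, or_false] at h14
        rcases h14 with rfl | rfl | rfl
        exacts [.inl rfl, .inr rfl, .inr (vβ'.trans vβ.symm)]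
      · obtain ⟨a, b, -, h14, h15, h16⟩ := T252 hG Y hM h c252
        obtain rfl := Z.eq_of_cnt h14 s.dF (hc := c3)
        obtain rfl := Y.eq_of_cnt h15 s.dE (hc := c5544)
        have h17 := h16 z hz3
        rw [hv, hv, hv] at h17
        have h18 : v a = v ψ + v b := by exact_mod_cast h17
        exact eq_sub_of_add_eq h18.symm
      · rw [Z.eq_of_cnt h s.dF (hc := c3)]
        rfl) h13
    have h15 := sub_of hK (fun ψ hψ => Z.mem_of rfl (ne_of_deg (hK' ψ hψ) d1 (by norm_num))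
      (by rw [hK' ψ hψ]; norm_num)) (rc v)
    simp only [List.map_cons, List.map_nil, rc, dρ, dβ, dβ', vβ'.trans vβ.symm] at h15
    exact Bool.false_ne_true ((congrArg (! ·) h15).symm.trans h14)
  have h11 := List.all_eq_true.1 sE2 _ h7
  dsimp only at h11
  obtain ⟨l₁, ⟨Z⟩, h11⟩ := nest_of hG s Y hK hK' h11
  simp only [List.elem_eq_mem, List.mem_cons, List.not_mem_nil, or_false, decide_eq_true_eq] at h11
  rcases h11 with rfl | rfl | rfl
  · obtain ⟨Z'⟩ := Z.swap rfl (by norm_num) (D' := 230)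
      (l' := [-230, 3312, 1035, 1035, 1035, -252, -5796, 45, 45]) (by decide)
    exact (key _ _ Z' (by decide) (by decide) (by decide) zA).elim
  · obtain ⟨Z'⟩ := Z.swap rfl (by norm_num) (D' := -276)
      (l' := [-736, 3312, 1035, 1035, 1035, -252, -5796, 45, 45]) (by decide)
    exact (key _ _ Z' (by decide) (by decide) (by decide) zB).elim
  exact ⟨_, h7, ⟨Y⟩, ⟨Z⟩⟩

end M24

end Cfsg.Agent.Inv
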