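import Mathlib
import Cfsg.Agent.Inv.M24C
import Cfsg.Agent.Inv.M23B
import Cfsg.Agent.Perm.PermChar
import Cfsg.Agent.S0407
import Cfsg.Agent.S0412

/-!
Simple groups of order 244823040: the action on 24 points.
-/

set_option autoImplicit false

namespace Cfsg.Agent.Inv.M24

open Finset Cfsg.Agent.Ch Cfsg.Agent.Inv.PB Cfsg.Agent.Inv.M11 Cfsg.Agent.Inv.PS MulAction
  Cfsg.Agent.Inv.Srch SubMulAction Cfsg.Agent.Inv.Sieve

theorem arith {o a b c d e f o' a' b' c' d' e' f' : ℕ} (h : (1 : ℤ) = o' - o)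
    (n1 : 253 = o + 22 * 0 + 23 * a + 45 * b + 231 * c + 252 * d + 253 * e + 264 * f)
    (n2 : (2 * 0 : ℤ) = 2 * (o - (0 : ℕ) - b + c - d) - f) (n3 : (0 : ℤ) = o + a + b - d)
    (m1 : 276 = o' + 22 * 0 + 23 * a' + 45 * b' + 231 * c' + 252 * d' + 253 * e' + 264 * f')
    (m2 : (2 * 0 : ℤ) = 2 * (o' - (0 : ℕ) - b' + c' - d') - f') (m3 : (1 : ℤ) = o' + a' + b' - d') :
    e ≠ 0 ∧ a' ≠ 0 := by
  have h0 : 1 ≤ o' := by clear * - h; omega
  have h1 : o' = 1 ∧ a' = 1 := by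
    clear n1 n2 n3 h
    have h1 : d' < 2 := by linarith
    have h2 : f' < 2 := by linarith
    obtain rfl | rfl : d' = 0 ∨ d' = 1 := by clear * - h1; omega
    · exact absurd h2 (by clear m1; omega)
    obtain rfl : b' = 0 := by linarith
    obtain rfl : c' = 0 := by linarith
    obtain rfl : e' = 0 := by linarith
    obtain rfl : f' = 0 := by linarith
    omega
  clear m1 m2 m3
  obtain rfl : o = 0 := by clear * - h h1; omega
  obtain rfl : f = 0 := by linarith
  have h2 : d < 2 := by linarith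
  obtain rfl | rfl : d = 0 ∨ d = 1 := by clear * - h2; omega
  · omega
  · omega

variable {G : Type*} [Group G] [IsSimpleGroup G] (hG : Nat.card G = 244823040)
include hG

theorem eqs [Fintype G]
    (Z : BD G 11 10 1 5796 [23, -483, 3312, 1035, 1035, 1035, -252, 45, 45])
    (m : IrrCharacter G → ℕ) {n : ℕ} (h1 : ∑ φ, m φ * charDegree (φ : G → ℂ) = n) (hn : n ≤ 276) :
    n = m (irrOne G) + 22 * mlt m 22 + 23 * mlt m 23 + 45 * mlt m 45 + 231 * mlt m 231 +
      252 * mlt m 252 + 253 * mlt m 253 + 264 * mlt m 264 ∧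
    (∀ s : ℤ, (∀ y : G, orderOf y = 23 → ∑ φ, m φ * (φ : G → ℂ) y = s) → 2 * s =
      2 * (m (irrOne G) - mlt m 22 - mlt m 45 + mlt m 231 - mlt m 252) - mlt m 264) ∧
    ∀ s : ℤ, (∀ y : G, orderOf y = 11 → ∑ φ, m φ * (φ : G → ℂ) y = s) →
      s = m (irrOne G) + mlt m 23 + mlt m 45 - mlt m 252 := by
  have h2 := sum_deg m (L := [1, 22, 23, 45, 231, 252, 253, 264]) (by decide) fun φ hφ => by
    by_cases h : φ = irrOne G
    · simp [h, deg_irrOne]
    have h2 := List.all_eq_true.1 sL _ (mem_divs (by norm_num) (hG ▸ φ.2.charDegree_dvd_card))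
    have h3 := deg_le_of_mult h1 hφ
    have h4 := Z.not_deg φ 230
    have h5 := Z.not_deg φ 276
    simp only [ok_of hG h (Int.natAbs_natCast _), Bool.or_eq_true, Nat.blt_eq, Bool.not_true,
      Bool.false_eq_true, false_or, List.elem_eq_mem, List.mem_cons, List.not_mem_nil, or_false,
      decide_eq_true_eq] at h2 ⊢
    omega
  have h3 : mlt m 1 = m (irrOne G) := mlt_eq m deg_irrOne fun φ h => by
    by_contra h3
    have := ok_of hG h3 (Int.natAbs_natCast _)
    rw [h] at this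
    exact absurd this (by decide)
  obtain ⟨x, hx⟩ := exists_ord hG 11
  obtain ⟨w, hw⟩ := exists_ord hG 23
  refine ⟨?_, fun s hs => ?_, fun s hs => ?_⟩
  · have h4 := h2 fun d => d
    simp only [List.map_cons, List.map_nil, List.sum_cons, List.sum_nil, h3, ← Nat.cast_mul,
      ← Nat.cast_sum, h1] at h4
    omega
  · have h4 := (setup hG hw).tau_sum m fun g hg => hs g ((setup hG hw).orderOf_eq (c23 hG w hw) hg)
    simp only [(setup hG hw).tau_deg (c23 hG w hw) (N23 hG w hw) (by norm_num) rfl, h2,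
      List.map_cons, List.map_nil, List.sum_cons, List.sum_nil, h3] at h4
    norm_num [tf] at h4
    omega
  · have h4 := (setup hG hx).tau_sum m fun g hg => hs g ((setup hG hx).orderOf_eq (c11 hG x hx) hg)
    simp only [(setup hG hx).tau_deg (c11 hG x hx) (N11 hG x hx) (by norm_num) rfl, h2,
      List.map_cons, List.map_nil, List.sum_cons, List.sum_nil, h3] at h4
    norm_num [tf] at h4
    omega

omit [IsSimpleGroup G] hG in
theorem orderOf_sq {p : ℕ} {y : G} (h : orderOf y = p) (h' : p.Coprime 2 := by norm_num) :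
    orderOf (y ^ 2) = p := (Nat.Coprime.orderOf_pow (h ▸ h')).trans h

theorem no22 [Fintype G] (φ : IrrCharacter G) : charDegree (φ : G → ℂ) ≠ 22 := fun h => by
  obtain ⟨a, ha, ⟨Y⟩, ⟨Z⟩⟩ := exists_R hG
  obtain ⟨h1, h2⟩ := (show ∀ a ∈ P23, 22 ≠ a.1.natAbs ∧
    (cntR 23 11 a.1 a.2 22 ≤ 0 ∨ cntR 23 11 a.1 a.2 231 ≤ 0) by decide) a ha
  have h3 := h2.resolve_left fun h3 => absurd h (Y.not_deg φ 22 (hc := h3))
  have h4 := Y.mem_L h (by norm_num) (by norm_num) h1
  obtain ⟨-, -, h5⟩ := Y.of_neg h4 22 (by rw [Y.sd_eq (by norm_num) h4, h]; rfl)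
  obtain ⟨m, -, h6, h7⟩ := exists_mult (CT.isCharacter_alt φ.isCharacter) (n := 231)
    (by rw [one_pow, apply_one_of_deg h]; norm_num)
  obtain ⟨h8, -, h9⟩ := eqs hG Z m h7 (by norm_num)
  have h10 := h9 0 fun y hy => by
    rw [h6, zero hG h hy.symm.dvd, zero hG h (orderOf_sq hy).symm.dvd]; norm_num
  have h11 : mlt m 231 = 0 := by
    by_contra h11
    obtain ⟨ψ, h12, -⟩ := exists_of_mlt h11
    exact absurd h12 (Y.not_deg ψ 231 (hc := h3))
  omega

theorem mlt22 [Fintype G] (m : IrrCharacter G → ℕ) : mlt m 22 = 0 := by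
  by_contra h
  obtain ⟨ψ, h1, -⟩ := exists_of_mlt h
  exact no22 hG ψ h1

theorem exists_chars [Fintype G] : ∃ A H : IrrCharacter G, charDegree (A : G → ℂ) = 23 ∧
    charDegree (H : G → ℂ) = 253 ∧ fsInd (A : G → ℂ) = 1 ∧
    classInner (fun g => (A : G → ℂ) g ^ 2) A ≠ 0 ∧
    ∀ g, (A : G → ℂ) g ^ 2 - (A : G → ℂ) (g ^ 2) = 2 * (H : G → ℂ) g := by
  obtain ⟨-, -, -, ⟨Z⟩⟩ := exists_R hG
  obtain ⟨A, -, dA⟩ := Z.exists_mem (a := 23) (by simp)
  replace dA : charDegree (A : G → ℂ) = 23 := dA.symm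
  have hu : ∀ φ : IrrCharacter G, charDegree (φ : G → ℂ) = 23 → φ = A := fun φ h => Z.eq_of_cnt h dA
  obtain ⟨a, ha⟩ := int_of_deg (χ := A) fun ψ h => hu ψ (h.trans dA)
  have hν := fsInd_eq_one_of_odd A.2 (fun g => by simp [ha]) (apply_one_of_deg dA) (by decide)
  have h0 := Z.mem_L dA (by norm_num) (by norm_num) (by norm_num)
  obtain ⟨-, -, sA⟩ := Z.of_pos h0 23 (by rw [Z.sd_eq (by norm_num) h0, dA]; rfl)
  have a1 : a 1 = 23 := by exact_mod_cast (ha 1).symm.trans (apply_one_of_deg dA)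
  have a11 : ∀ y, orderOf y = 11 → a y = 1 := fun y hy => by
    exact_mod_cast (ha y).symm.trans (sA y hy.symm.dvd)
  have a23 : ∀ y, orderOf y = 23 → a y = 0 := fun y hy => by
    exact_mod_cast (ha y).symm.trans (zero hG dA hy.symm.dvd)
  obtain ⟨m, n, h1, h2, h3, h4, -, h6⟩ := CT.exists_sq ha
  have hd : ∀ (m : IrrCharacter G → ℕ) (n : ℕ), ∑ φ, m φ * (φ : G → ℂ) 1 = (n : ℤ) →
      ∑ φ, m φ * charDegree (φ : G → ℂ) = n := fun m n h => by
    simp only [← IsIrrCharacter.coe_charDegree (Subtype.prop _)] at h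
    exact_mod_cast h
  have dn := hd n 253 (h4 1 _ (by simp [a1]))
  obtain ⟨n1, n2, n3⟩ := eqs hG Z n dn (by norm_num)
  obtain ⟨m1, m2, m3⟩ := eqs hG Z m (hd m 276 (h3 1 _ (by simp [a1]))) le_rfl
  replace n2 := n2 0 fun y hy => h4 y 0 (by simp [a23 y hy, a23 _ (orderOf_sq hy)])
  replace n3 := n3 0 fun y hy => h4 y 0 (by simp [a11 y hy, a11 _ (orderOf_sq hy)])
  replace m2 := m2 0 fun y hy => h3 y 0 (by simp [a23 y hy, a23 _ (orderOf_sq hy)])
  replace m3 := m3 1 fun y hy => h3 y 1 (by simp [a11 y hy, a11 _ (orderOf_sq hy)])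
  have h7 : (1 : ℤ) = m (irrOne G) - n (irrOne G) := by exact_mod_cast hν.symm.trans h1
  rw [mlt22 hG] at n1 n2 m1 m2
  rw [mlt_eq m dA hu] at m1 m3
  obtain ⟨h8, h9⟩ : mlt n 253 ≠ 0 ∧ m A ≠ 0 := arith h7 n1 n2 n3 m1 m2 m3
  obtain ⟨H, dH, h10⟩ := exists_of_mlt h8
  refine ⟨A, H, dA, dH, hν, by rw [h2]; exact_mod_cast (by omega : m A + n A ≠ 0), fun g => ?_⟩
  have h11 := eq_sum_of_deg (List.nodup_singleton H) (by simpa using h10) (by simp [dn, dH]) g
  rw [List.map_singleton, List.sum_singleton] at h11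
  rw [← h11, h6, ha, ha]
  push_cast
  rfl

variable [Finite G]

theorem action (Ω : Type*) [Finite Ω] [MulAction G Ω] [IsPretransitive G Ω] [Nonempty Ω]
    (h8 : Nat.card Ω = 24) (h6 : ∃ (g : G) (x : Ω), g • x ≠ x) : FixSt.Good G Ω 5 := by
  have := Fintype.ofFinite G
  have h23 : Fact (Nat.Prime 23) := ⟨by norm_num⟩
  refine FixSt.Good.step fun a => ?_
  have h9 := (stabilizer G a).card_mul_index
  rw [index_stabilizer_of_transitive, h8, hG] at h9
  have h10 : Nat.card (stabilizer G a) = 10200960 := by omega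
  have := FixSt.simple_sub (p := 23) (r := 11) (n := 40320) (by norm_num) h10 (by norm_num)
    (by norm_num)
    (SN.noPow_of_list (by norm_num) [2, 3, 5, 7, 11] (by simp; norm_num) (by decide +kernel))
    (by norm_num) fun x hx => by rw [N23 hG x hx, c23 hG x hx]
  exact M23.action h10 (ofStabilizer G a) (by rw [nat_card_ofStabilizer_eq, h8])
    (FixSt.stab_move h6 a)

theorem exists_action : ∃ U : Subgroup G, Nat.card (G ⧸ U) = 24 ∧ FixSt.Good G (G ⧸ U) 5 := by
  have := Fintype.ofFinite G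
  obtain ⟨A, H, dA, dH, h1, h2, h3⟩ := exists_chars hG
  obtain ⟨U, h4, h5⟩ := Cubic.exists_index h1 (ne_of_deg dA deg_irrOne (by norm_num)) h3
    (ne_of_deg dH dA (by norm_num)) h2
  rw [dA, Subgroup.index_eq_card] at h5
  have h6 := exists_smul_ne_of_ne_top h4
  have h7 : ∀ x : G, orderOf x = 23 → fx (G ⧸ U) x + 23 = Nat.card (G ⧸ U) := fun x hx => by
    have h3 := fx_lt (G ⧸ U) h6 (CT.ne_one_of_orderOf hx (by norm_num))
    have h4 := fx_modEq (G ⧸ U) (by norm_num) (CT.pow_prime_eq_one hx)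
    unfold Nat.ModEq at h4
    omega
  have h8 : Nat.card (G ⧸ U) = 24 := by
    by_contra h8
    obtain ⟨x, hx⟩ := exists_ord hG 23
    have h9 := h7 x hx
    obtain ⟨-, -, -, ⟨Z⟩⟩ := exists_R hG
    obtain ⟨m, h10, h11, h12⟩ := exists_mult (isCharacter_permChar (G := G) (G ⧸ U)) (n := 23)
      ((Perm.permChar_apply_one (G := G)).trans (by rw [show Nat.card (G ⧸ U) = 23 by omega]))
    obtain ⟨h13, h14, -⟩ := eqs hG Z m h12 (by norm_num)
    have h15 : m (irrOne G) = 1 := by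
      have h15 := (h10 (irrOne G)).symm.trans (Perm.classInner_permChar_one (G := G) (Ω := G ⧸ U))
      exact_mod_cast h15
    rw [mlt22 hG] at h13
    omega
  exact ⟨U, h8, action hG _ h8 h6⟩

/-- Simple groups of order 244823040 are isomorphic. -/
theorem iso {G' : Type*} [Group G'] [Finite G'] [IsSimpleGroup G']
    (hG' : Nat.card G' = 244823040) : Nonempty (G ≃* G') := by
  classical
  obtain ⟨U, h1, h2⟩ := exists_action hG
  obtain ⟨U', h3, h4⟩ := exists_action hG'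
  have := Fintype.ofFinite (G ⧸ U)
  have := Fintype.ofFinite (G' ⧸ U')
  rw [Nat.card_eq_fintype_card] at h1 h3
  exact FixSt.iso_of (t := 5) (by norm_num) hG (hG'.trans hG.symm) h1 h3 h2 h4 fun B hB =>
    ⟨(S0412.result h1 hB).1.2.trans hG.symm, fun _ h => S0407.result h1 h1 h hB,
      fun _ h => S0407.result h3 h1 h hB⟩

end Cfsg.Agent.Inv.M24
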