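import Mathlib
import Cfsg.Agent.Inv.M24G3

/-!
Simple groups whose order divides 244823040 and is a multiple of 23: the first search.
-/

set_option autoImplicit false

namespace Cfsg.Agent.Inv.MD

open Cfsg.Agent.Inv.Srch Cfsg.Agent.Inv.Sieve

/-- The lower bound for the degrees. -/
def okA (s : ℕ) (a : ℤ) : Bool := Nat.ble s 12144 || Nat.ble 21 a.natAbs

/-- Every possible degree is even. -/
def par (s e c : ℕ) : Bool :=
  (sdegs s (s / (c * 23)) 23 e (stan 23 c e) ++ sdegs s (s / (c * 23)) 23 1 (stan 23 c 1)).all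
    fun a => Nat.beq (a.natAbs % 2) 0 || !okA s a || (Nat.beq (e % 11) 0 &&
      (Nat.beq (c % 3) 0 || (Nat.beq (c % 2) 0 && !Nat.beq (c % 1024) 0)) && [231, 495].elem a.natAbs)

/-- The test for the order `23 * j`. -/
def t23 (j : ℕ) : Bool := (Nat.beq (j % 11) 0 && Nat.blt j 2783) || [443520, 10644480].elem j ||
  locAll (23 * j) 23 fun e c => (Nat.beq c 1 && [(18480, 11), (36960, 22), (887040, 22)].elem (j, e)) ||
    par (23 * j) e c || blkAll2 (23 * j) 23 e c (okA (23 * j)) (okA (23 * j)) fun D l =>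
      Nat.beq c 1 && [(11088, -21, [-22]), (266112, -21, [-22]), (47520, -44, [-45])].elem (j, D, l)

theorem s23 : (divs 10644480).all t23 = true := by decide +kernel

end Cfsg.Agent.Inv.MD
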