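import Mathlib
import Cfsg.Agent.Inv.M24G3

/-!
Simple groups whose order divides 244823040 or 443520: the remaining searches.
-/

set_option autoImplicit false

namespace Cfsg.Agent.Inv.MD

open Cfsg.Agent.Inv.Srch Cfsg.Agent.Inv.Sieve

/-- The degrees allowed by a complete list. -/
def okB (D : ℤ) (l : List ℤ) (a : ℤ) : Bool :=
  Nat.beq (a.natAbs % 23) 0 || (degR 23 2 D l).elem (a.natAbs, (a.natAbs : ℤ))

/-- The test for a second prime. -/
def tB (n q : ℕ) (D : ℤ) (l : List ℤ) : Bool := locAll n q fun e c => Nat.beq (c % 23) 0 ||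
  blkAll2 n q e c (okB D l) (okB D l) fun _ _ => false

theorem sB : (tB 255024 11 (-21) [-22] && tB 6120576 11 (-21) [-22] && tB 1092960 5 (-44) [-45]) =
    true := by decide +kernel

/-- The degrees allowed by the prime 23. -/
def okC (f : ℕ) (a : ℤ) : Bool := okd 23 f a.natAbs && Nat.ble 21 a.natAbs

/-- The test for the prime 7. -/
def t7 (n : ℕ) : Bool := locAll n 7 fun e c => (!Nat.beq (c % 11) 0 || Nat.beq (c % 23) 0) ||
  blkAll2 n 7 e c (okC 22) (okC 22) fun D l => D == 24 && l == [-69, 92]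

theorem s7 : (t7 850080 && t7 20401920) = true := by decide +kernel

/-- The test for the prime 11. -/
def t11 (n f : ℕ) : Bool := locAll n 11 fun e c =>
  (Nat.beq (c % 23) 0 || (Nat.beq f 22 && (Nat.beq (c % 2) 1 || Nat.beq (c % 7) 0))) ||
  blkAll2 n 11 e c (okC f) (okC f) fun D l => !(Nat.beq (c % 2) 1 ||
    anyZ n 11 e c (fun cz => !Nat.beq (cz % 23) 0 && Nat.beq (cz % 11) 0) D l)

theorem s11 : (t11 425040 11 && t11 850080 22 && t11 20401920 22) = true := by decide +kernel

/-- The test for the order `11 * j`. -/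
def u11 (j : ℕ) : Bool := (Nat.beq (j % 5) 0 && Nat.blt j 275) ||
  (Nat.beq (j % 7) 0 && Nat.blt j 539) || [720, 1440, 40320].elem j ||
  locAll (11 * j) 11 fun e c => [(3360, 5, 1), (6720, 10, 1), (10080, 10, 7)].elem (j, e, c) ||
    blkAll2 (11 * j) 11 e c (fun _ => true) (fun _ => true) fun D l => Nat.beq (j % 4) 0 &&
      (!(Nat.beq (c % 2) 1 || anyZ (11 * j) 11 e c (fun cz => Nat.beq (cz % 11) 0) D l) ||
        !anyZ (11 * j) 11 e c (fun cz => Nat.beq (11 * j / cz % 2) 1) D l)

theorem r11 : (divs 40320).all u11 = true := by decide +kernel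

/-- The test for the prime 7 when the elements of order 11 are self-centralizing. -/
def u7 (n f : ℕ) : Bool := locAll n 7 fun e c => Nat.beq (c % 11) 0 ||
  blkAll2 n 7 e c (fun a => okd 11 f a.natAbs && Nat.ble 9 a.natAbs)
    (fun a => okd 11 f a.natAbs && Nat.ble 9 a.natAbs) fun _ _ => false

theorem r7 : (u7 36960 5 && u7 73920 10 && locAll 110880 7 fun _ c => !Nat.beq (c % 55) 0) =
    true := by decide +kernel

end Cfsg.Agent.Inv.MD
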