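import Mathlib
import Cfsg.Agent.Inv.SylowNumber
import Cfsg.Agent.Inv.ChTools5

/-!
Simple groups whose order divides 95040 and is a multiple of 11.
-/

set_option autoImplicit false

namespace Cfsg.Agent.Inv.M12

open Finset Cfsg.Agent.Ch Cfsg.Agent.Inv.PB Cfsg.Agent.Inv.M11 Cfsg.Agent.Inv.Srch

variable {G : Type*} [Group G] [Finite G] [IsSimpleGroup G]

/-- The data of the principal block, ready for a search. -/
theorem exists_data [Fintype G] {n p : ℕ} (hG : Nat.card G = n) (hn : ¬ n.Prime) (hp : p.Prime)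
    (hp2 : p ≠ 2) (h1 : p ∣ n) (h2 : ¬ p ^ 2 ∣ n) (h3 : 2 ∣ n) {ok okY : ℕ → ℕ → ℤ → Bool}
    {fin : ℕ → ℕ → ℤ → List ℤ → Bool} (ht : (locAll n p fun e c => blkAll n p e c (ok e c) (okY e c)
      fun D l => !cenV n p e c D l || !cen n p e c D l || fin e c D l) = true) :
    ∃ (x : G) (e c : ℕ) (X Y : Finset (IrrCharacter G)) (δ : IrrCharacter G → ℤ) (ε : ℤ)
      (θ : IrrCharacter G), Nat.card (C x) = c * p ∧ Blk p e x X Y δ ε ∧ θ ∈ Y ∧
      ((∀ χ ∈ X, χ ≠ irrOne G → ok e c (sd δ χ) = true) →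
        okY e c (ε * charDegree (θ : G → ℂ)) = true →
        ∃ L, Lst X L ∧ fin e c (ε * charDegree (θ : G → ℂ)) (L.map (sd δ)) = true) := by
  have := Fact.mk hp
  subst hG
  obtain ⟨x, hx⟩ := exists_prime_orderOf_dvd_card' (G := G) p h1
  have h : Setup p x := ⟨hp, hx, h2⟩
  obtain ⟨e, c, hc, hN, ht⟩ := h.loc hn rfl ht
  obtain ⟨X, Y, δ, ε, hB⟩ := h.exists_blk hN
  obtain ⟨θ, hθ⟩ := hB.Y_nonempty
  refine ⟨x, e, c, X, Y, δ, ε, θ, hc, hB, hθ, fun h4 h5 => ?_⟩
  obtain ⟨L, hL, h6⟩ := hB.all hn rfl hc h4 hθ h5 ht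
  rw [hB.cen hn hp2 rfl h3 hc hL hθ, hB.cenV hn hp2 rfl hc hL hθ] at h6
  exact ⟨L, hL, h6⟩

theorem ne_31680 : Nat.card G ≠ 31680 := fun hG => by
  have := Fintype.ofFinite G
  obtain ⟨_, _, _, _, _, _, _, _, -, -, -, h⟩ := exists_data (p := 11) hG (by norm_num) (by norm_num)
    (by norm_num) (by norm_num) (by norm_num) (by norm_num) (ok := fun _ _ _ => true)
    (okY := fun _ _ _ => true) (fin := fun _ _ _ _ => false) (by decide +kernel)
  simpa using h (by simp) rfl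

theorem ne_15840 : Nat.card G ≠ 15840 := fun hG => by
  have := Fintype.ofFinite G
  have hn : ¬ (Nat.card G).Prime := by rw [hG]; norm_num
  obtain ⟨y, _, c, _, _, _, _, _, hc, hB, -, h⟩ := exists_data (p := 5) hG (by norm_num)
    (by norm_num) (by norm_num) (by norm_num) (by norm_num) (by norm_num)
    (ok := fun _ _ _ => true) (okY := fun _ _ _ => true) (fin := fun _ c _ _ => c % 2 == 0)
    (by decide +kernel)
  obtain ⟨_, -, h1⟩ := h (by simp) rfl
  rw [beq_iff_eq] at h1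
  obtain ⟨z, hz, hzy⟩ := CT.exists_commute_of_dvd (g := y) Nat.prime_two
    (by rw [show Nat.card (Subgroup.centralizer {y}) = c * 5 from hc]; omega)
  have h2 : ∀ χ : IrrCharacter G, charDegree (χ : G → ℂ) ≠ 10 := fun χ hd => by
    obtain ⟨m, h2, h3, h4⟩ := CT.invol_val hn (ne_of_deg hd deg_irrOne (by norm_num)) hz
    have h5 := hB.setup.dvd_of_dvd_deg (χ := χ) (by omega) hzy.symm (by rw [hz]; norm_num) h2
    rw [abs_lt] at h4
    omega
  obtain ⟨_, _, _, _, _, _, _, θ, -, hB', -, h'⟩ := exists_data (p := 11) hG (by norm_num)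
    (by norm_num) (by norm_num) (by norm_num) (by norm_num) (by norm_num)
    (ok := fun _ _ a => a.natAbs != 10) (okY := fun _ _ a => a.natAbs != 10)
    (fin := fun _ _ _ _ => false) (by decide +kernel)
  simpa using h' (fun χ hχ _ => by simpa [sd, natAbs_sign_mul (hB'.sign χ hχ)] using h2 χ)
    (by simpa [natAbs_sign_mul hB'.sign_Y] using h2 θ)

theorem ne_47520 : Nat.card G ≠ 47520 := fun hG => by
  classical
  have := Fintype.ofFinite G
  have hn : ¬ (Nat.card G).Prime := by rw [hG]; norm_num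
  obtain ⟨x, _, c, _, _, δ, _, _, hc, hB, -, h⟩ := exists_data (p := 11) hG (by norm_num)
    (by norm_num) (by norm_num) (by norm_num) (by norm_num) (by norm_num)
    (ok := fun _ _ _ => true) (okY := fun _ _ _ => true)
    (fin := fun _ c _ l => c == 3 && l.contains (-32)) (by decide +kernel)
  obtain ⟨L, hL, h1⟩ := h (by simp) rfl
  simp only [Bool.and_eq_true, beq_iff_eq, List.contains_iff_mem, List.mem_map] at h1
  obtain ⟨rfl, ψ, hψ, h1⟩ := h1
  obtain ⟨-, hd⟩ := of_sdeg_neg (n := 32) (hB.sign ψ (hL.mem_of hψ).1) (by norm_num) h1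
  obtain ⟨w, hw, hwx⟩ := CT.exists_commute_of_dvd (g := x) Nat.prime_three
    (by rw [show Nat.card (Subgroup.centralizer {x}) = 3 * 11 from hc]; norm_num)
  obtain ⟨y, e, c, X, Y, δ', ε, θ, hc', hB', hθ, h'⟩ := exists_data (p := 5) hG (by norm_num)
    (by norm_num) (by norm_num) (by norm_num) (by norm_num) (by norm_num)
    (ok := fun _ _ _ => true) (okY := fun _ _ _ => true)
    (fin := fun _ c D l => (D == 12 && l == [11]) ||
      (c == 1 && D.natAbs != 32 && l.all (·.natAbs != 32))) (by decide +kernel)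
  obtain ⟨L', hL', h2⟩ := h' (by simp) rfl
  simp only [Bool.or_eq_true, Bool.and_eq_true, beq_iff_eq, List.map_eq_singleton_iff, bne_iff_ne,
    List.all_eq_true, List.forall_mem_map, natAbs_sign_mul hB'.sign_Y] at h2
  rcases h2 with ⟨hD, χ, rfl, hχ⟩ | ⟨⟨rfl, h2⟩, h3⟩
  · obtain ⟨hχX, hχ1⟩ := hL'.mem_of (χ := χ) (by simp)
    obtain ⟨-, hd⟩ := of_sdeg_pos (n := 11) (hB'.sign χ hχX) (by norm_num) hχ
    obtain ⟨-, hd'⟩ := of_sdeg_pos (n := 12) hB'.sign_Y (by norm_num) hD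
    obtain ⟨m, hm⟩ := hB'.int_of_unique (Or.inl hχX) (fun ψ hψ h5 => by
      rcases hψ with hψ | hψ
      · rcases List.mem_cons.1 ((hL'.mem ψ).1 hψ) with rfl | h6
        · rw [deg_irrOne] at h5; omega
        · simpa using h6
      · rw [hB'.deg_eq hψ hθ] at h5; omega) w
    have h4 := hB.setup.dvd_of_dvd_deg (χ := χ) (by omega) hwx.symm (by rw [hw]; norm_num) hm
    have h5 := χ.isCharacter.prime_dvd_sub_charDegree Nat.prime_three (CT.pow_prime_eq_one hw) hm
    have h6 := abs_lt.1 (CT.abs_lt_deg hn hχ1 (CT.ne_one_of_orderOf hw (by norm_num)) hm)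
    omega
  · rcases hB'.mem_of_not_dvd (χ := ψ) (by simpa using hc') (by omega) with h4 | h4
    · rcases List.mem_cons.1 ((hL'.mem ψ).1 h4) with rfl | h5
      · rw [deg_irrOne] at hd; omega
      · exact h3 ψ h5 (by rw [sd, natAbs_sign_mul (hB'.sign ψ h4), hd])
    · exact h2 (hB'.deg_eq h4 hθ ▸ hd)

theorem card_cases (hn : ¬ (Nat.card G).Prime) (h1 : Nat.card G ∣ 95040) (h2 : 11 ∣ Nat.card G) :
    Nat.card G = 660 ∨ Nat.card G = 7920 ∨ Nat.card G = 95040 := by
  have h := SN.card_mem_of_certs hn (by norm_num) h1 h2 (by norm_num)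
    [660, 7920, 15840, 31680, 47520, 95040]
    [(297, 3, 11), (330, 11, 0), (352, 2, 11), (264, 11, 0), (396, 11, 0), (220, 11, 0),
    (440, 11, 0), (198, 11, 0), (495, 11, 0), (528, 11, 0), (176, 2, 11), (165, 11, 0), (594, 11, 0),
    (704, 2, 11), (132, 11, 0), (792, 11, 0), (110, 11, 0), (880, 11, 0), (99, 3, 11), (990, 11, 0),
    (1056, 11, 0), (88, 2, 11), (1188, 11, 0), (1320, 11, 0), (66, 11, 0), (1485, 11, 0),
    (1584, 11, 0), (55, 5, 11), (1760, 11, 0), (1980, 11, 0), (2112, 11, 0), (44, 2, 11),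
    (2376, 11, 0), (2640, 11, 0), (33, 3, 11), (2970, 11, 0), (3168, 11, 0), (3520, 11, 0),
    (3960, 11, 0), (22, 2, 11), (4752, 11, 0), (5280, 11, 0), (5940, 11, 0), (6336, 11, 0),
    (9504, 11, 0), (10560, 11, 0), (11880, 11, 0), (19008, 11, 0), (23760, 11, 0)]
    (by decide +kernel)
  simpa [ne_15840, ne_31680, ne_47520] using h

end Cfsg.Agent.Inv.M12
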