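import Mathlib
import Cfsg.Agent.Inv.M24A
import Cfsg.Agent.Inv.MDS1
import Cfsg.Agent.Inv.MDS2
import Cfsg.Agent.Inv.NoM12Div

/-!
Simple groups whose order divides that of a large Mathieu group.
-/

set_option autoImplicit false

namespace Cfsg.Agent.Inv

open Finset Cfsg.Agent.Ch Cfsg.Agent.Inv.PB Cfsg.Agent.Inv.M11 Cfsg.Agent.Inv.Srch
  Cfsg.Agent.Inv.Sieve
open scoped ComplexConjugate

variable {G : Type*} [Group G]

namespace PB

theorem exists_comm [Finite G] {p e c q r : ℕ} {x : G} (hc : Nat.card (C x) = c * p)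
    (he : Nat.card (N x) = e * Nat.card (C x)) (hq : q.Prime) (hr : r.Prime) (h1 : r ∣ e)
    (h2 : ¬ r ∣ c * p) (h3 : q ∣ c) (h4 : ∀ j, q ^ j ∣ c * p → r ∣ q ^ j - 1 → j = 0) :
    ∃ w ∈ C x, orderOf w = q ∧ r ∣ Nat.card (C w) := by
  have := Fact.mk hq
  obtain ⟨y, hy, h5⟩ := exists_mem_orderOf (H := N x) hr (he ▸ h1.mul_right _)
  obtain ⟨Q, h6, h7, h8⟩ := SN.exists_sylow_centralized hr (CT.pow_prime_eq_one h5) (K := C x)
    (Subgroup.mem_normalizer_fintype fun g hg => conj_mem_C ⟨y, hy⟩ hg) (hc ▸ h2) (q := q)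
    (hc ▸ h4)
  obtain ⟨w, hw, h9⟩ := exists_mem_orderOf (H := Q) hq (h7 ▸ dvd_pow_self q (Nat.one_le_iff_ne_zero.1
    ((hq.dvd_iff_one_le_factorization Nat.card_pos.ne').1 (hc ▸ h3.mul_right p))))
  exact ⟨w, h6 hw, h9, h5 ▸ Subgroup.orderOf_dvd_natCard _ (mem_C.2 (h8 w hw).symm)⟩

/-- The real parts of the values at an element of order three. -/
theorem BD.three [Fintype G] [IsSimpleGroup G] {p e c : ℕ} {D : ℤ} {l : List ℤ}
    (B : BD G p e c D l) (hG : ¬ (Nat.card G).Prime) (hp : ¬ p ∣ 3) {w : G} (hw : orderOf w = 3)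
    (hx : w ∈ C B.x) {r : ℕ} (hr : r.Prime) (h2 : ¬ r ^ 2 ∣ Nat.card G) (h3 : ¬ r ∣ 3)
    (h1 : r ∣ Nat.card (C w)) {χ : IrrCharacter G} (hχ : χ ∈ B.F)
    (hd : r ∣ charDegree (χ : G → ℂ)) : ∃ k : ℕ, 0 < k ∧ k ≤ charDegree (χ : G → ℂ) ∧
      (p : ℤ) ∣ 3 * k ∧ (r : ℤ) ∣ 3 * k ∧
      ((∀ φ ∈ B.X, charDegree (φ : G → ℂ) ≠ charDegree (χ : G → ℂ)) → 2 ∣ k) := by
  have hw3 : w ^ 3 = 1 := by rw [← hw, pow_orderOf_eq_one]
  have hc := fun φ : IrrCharacter G => φ.isCharacter.add (CT.bar φ).isCharacter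
  choose k hk1 hk2 using fun φ : IrrCharacter G => CT.exists_cube (hc φ) hw3
    (by simp [CT.bar_apply, add_comm])
  simp only [IsCharacter.charDegree_add (IrrCharacter.isCharacter _) (IrrCharacter.isCharacter _),
    CT.charDegree_bar] at hk1 hk2
  have hk3 : ∀ φ : IrrCharacter G, ((φ : G → ℂ) + CT.bar φ) w =
      (2 * charDegree (φ : G → ℂ) - 3 * k φ : ℤ) := fun φ => by rw [hk2]; push_cast; ring
  have key : ∀ {q : ℕ} {y : G} {φ : IrrCharacter G} {s : ℤ}, Setup q y → w ∈ C y → ¬ q ∣ 3 →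
      (∀ g, q ∣ orderOf g → (φ : G → ℂ) g = s) →
      (q : ℤ) ∣ 2 * s - (2 * charDegree (φ : G → ℂ) - 3 * k φ) := fun hs h4 h5 h6 =>
    CT.modEq_mul (hc _) hs.prime (CT.pow_prime_eq_one hs.ord) (mem_C.1 h4).symm (by
      rw [Pi.add_apply, CT.bar_apply, h6 _ (by
        rw [hs.orderOf_mul h4 (hw ▸ h5)]; exact dvd_mul_right _ _)]
      simp [two_mul]) (hk3 _)
  have hX : ∀ φ ∈ B.X, (p : ℤ) ∣ 3 * k φ := fun φ hφ => by
    have h4 := (key B.blk.setup hx hp (B.blk.sing φ hφ)).sub ((B.blk.deg φ hφ).dvd.mul_left 2)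
    rwa [show ∀ a b c : ℤ, 2 * a - (2 * b - c) - 2 * (a - b) = c from fun a b c => by ring] at h4
  obtain ⟨h4, h5⟩ := B.mem_F.1 hχ
  refine ⟨k χ, Nat.pos_of_ne_zero fun h => ?_, by have := hk1 χ; omega, h4.elim (hX χ) fun hY => ?_,
    ?_, fun h => ?_⟩
  · have h6 := (Complex.re_le_norm _).trans_lt (CT.norm_lt_of_simple (CT.center_eq_bot hG) χ.2
      (ne_one_iff.1 h5) (CT.ne_one_of_orderOf hw (by norm_num)))
    have h7 := congrArg Complex.re (hk2 χ)
    simp [h, CT.bar_apply] at h7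
    linarith
  · have h6 := B.blk.rel w (hw ▸ hp) χ hY
    have h7 : ∑ φ ∈ B.X, B.δ φ * ((φ : G → ℂ) + CT.bar φ) w = B.ε * ((χ : G → ℂ) + CT.bar χ) w := by
      have h7 := congrArg conj h6
      simp only [map_sum, map_mul, map_intCast] at h7
      simp only [Pi.add_apply, CT.bar_apply, mul_add, sum_add_distrib, h6, h7]
    simp only [hk3, ← Int.cast_mul, ← Int.cast_sum, Int.cast_inj] at h7
    have h8 : B.ε * (3 * k χ) = ∑ φ ∈ B.X, B.δ φ * (3 * k φ) := by
      have h8 := B.blk.deg_rel hY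
      simp only [mul_sub, sum_sub_distrib, mul_left_comm _ (2 : ℤ), ← mul_sum] at h7
      linarith
    have h9 : (p : ℤ) ∣ B.ε * (3 * k χ) := h8 ▸ dvd_sum fun φ hφ => (hX φ hφ).mul_left _
    rcases B.blk.sign_Y with h | h <;> simpa [h] using h9
  · obtain ⟨y, h6, hy⟩ := exists_mem_orderOf hr h1
    have h7 := (key (φ := χ) (s := 0) ⟨hr, hy, h2⟩ (mem_C.2 (mem_C.1 h6).symm) h3 fun g hg =>
      (CT.zero_of_defect χ.2 (a := 1) hr h2 (by rwa [pow_one]) hg).trans Int.cast_zero.symm).add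
      ((Int.natCast_dvd_natCast.2 hd).mul_left 2)
    simpa using h7
  · obtain ⟨ψ, h6, h7, h8⟩ := B.blk.exists_pow h4 (k := Nat.card G - 1)
      ((Nat.coprime_self_sub_left Nat.card_pos).2 (Nat.coprime_one_left _))
    have h9 : w ^ (Nat.card G - 1) = w⁻¹ := by
      rw [eq_inv_iff_mul_eq_one, ← pow_succ, Nat.sub_add_cancel Nat.card_pos, pow_card_eq_one']
    have h10 : conj ((χ : G → ℂ) w) = (χ : G → ℂ) w := by
      rw [← χ.isCharacter.apply_inv, ← h9, ← h8]
      exact B.blk.agree w (hw ▸ hp) ψ (h6.resolve_left fun h6 => h ψ h6 h7) χ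
        (h4.resolve_left fun h6 => h χ h6 rfl)
    obtain ⟨j, -, hj⟩ := CT.exists_cube χ.isCharacter hw3 h10
    have h11 := hk2 χ
    rw [Pi.add_apply, CT.bar_apply, h10, hj] at h11
    exact ⟨j, Nat.cast_injective (R := ℂ) (by push_cast at h11 ⊢; linear_combination h11 / 3)⟩

end PB

namespace MD

variable [Fintype G] [IsSimpleGroup G]

theorem noB {n q : ℕ} {D : ℤ} {l : List ℤ} (hG : Nat.card G = n) (A : BD G 23 2 1 D l)
    (ht : tB n q D l = true) (hn : ¬ n.Prime := by norm_num) (hq : q.Prime := by norm_num)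
    (h1 : q ∣ n := by norm_num) (h2 : ¬ q ^ 2 ∣ n := by norm_num) (h3 : q ≠ 23 := by norm_num) :
    False := by
  obtain ⟨_, _, _, _, -, h⟩ := exists_BD hG hn hq h1 h2 (A.not_dvd_C hq h3) (fun _ _ χ h a ha => by
    rw [and_self, okB, ha, ← A.degR]
    exact A.elem dg h) ht
  exact Bool.false_ne_true h

theorem noC {n f : ℕ} (hG : Nat.card G = n) {x : G} (hs : Setup 23 x)
    (hc : Nat.card (C x) = 1 * 23) (hN : Nat.card (N x) = f * Nat.card (C x))
    (h11 : t11 n f = true) (h7 : f = 22 → t7 n = true) (hn : ¬ n.Prime := by norm_num)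
    (hd : n ∣ 244823040 := by norm_num) (h0 : 7084 ∣ n := by norm_num)
    (hl : 12144 < n := by norm_num) : False := by
  have hq : ∀ {q : ℕ}, ¬ q ^ 2 ∣ 244823040 → ¬ q ^ 2 ∣ n := fun h h1 => h (h1.trans hd)
  have hok : ∀ (_ _ : ℕ) (χ : IrrCharacter G), χ ≠ irrOne G → ∀ a : ℤ,
      a.natAbs = charDegree (χ : G → ℂ) → okC f a = true ∧ okC f a = true := fun _ _ χ h a ha => by
    rw [and_self, okC, ha, hs.okd hc hN, Bool.true_and, Nat.ble_eq]
    exact deg_ge (p := 23) hG hn (by norm_num) (by norm_num) (by omega) (hG ▸ hs.sq) hl h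
  have h23 : ∀ {q c : ℕ} {y : G}, orderOf y = q → c ∣ Nat.card (C y) → q ≠ 1 → q ≠ 23 →
      Nat.beq (c % 23) 0 = false := fun hy h1 h2 h3 => beq_false_of_sc hs.prime hs.sq
    (fun y hy => (hs.card_C_eq hy).trans hc) hy h2 h3 h1
  obtain ⟨e, c, D, l, ⟨A⟩, h⟩ := exists_BD (p := 11) hG hn (by norm_num) (by omega)
    (hq (by norm_num)) (fun y hy c h => by
      rw [h23 hy (Dvd.intro _ h.symm) (by norm_num) (by norm_num), Bool.false_or,
        ← Bool.not_eq_true]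
      simp only [Bool.and_eq_true, Bool.or_eq_true, Nat.beq_eq]
      rintro ⟨rfl, h1 | h1⟩
      · obtain ⟨g, -, hg⟩ := hs.exists_orderOf_eq hN
        have h2 := (orderOf_dvd_card_C g).trans (Subgroup.card_dvd_of_le (C_le_C_pow g 2))
        rw [Setup.card_C_eq ⟨by norm_num, hy, hG ▸ hq (by norm_num)⟩
          (by rw [orderOf_pow' _ two_ne_zero, hg]; rfl), h, hg] at h2
        omega
      obtain ⟨w, hw, h2⟩ := CT.exists_commute_of_dvd (g := y) (p := 7) (by norm_num)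
        (by rw [show Nat.card (Subgroup.centralizer {y}) = c * 11 from h]; omega)
      have h3 : ∀ z : G, orderOf z = 7 → ∀ c, Nat.card (C z) = c * 7 → c % 11 = 0 :=
        fun z hz c hc => by
          have : 11 ∣ Nat.card (C w) := hy ▸ CT.orderOf_dvd_card_centralizer h2.symm
          rw [← Setup.card_C_eq ⟨by norm_num, hw, hG ▸ hq (by norm_num)⟩ hz, hc] at this
          omega
      obtain ⟨e, c, D, l, ⟨A⟩, h4⟩ := exists_BD (p := 7) hG hn (by norm_num) (by omega)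
        (hq (by norm_num)) (fun z hz c hc => by
          rw [h23 hz (Dvd.intro _ hc.symm) (by norm_num) (by norm_num), h3 z hz c hc]; rfl)
        hok (h7 rfl)
      simp only [Bool.and_eq_true, beq_iff_eq] at h4
      obtain ⟨rfl, rfl⟩ := h4
      obtain ⟨v, s, k, h4⟩ := A.key (hG ▸ hn) (d := 69) (r := 11) rfl (by norm_num) (by norm_num)
        (by norm_num) (by norm_num) (Nat.dvd_of_mod_eq_zero (h3 _ A.blk.setup.ord c A.hc))
      simp only [List.mem_cons, List.not_mem_nil, or_false, abs_lt] at h4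
      omega) hok h11
  rw [A.cenV hG hn (by omega) (by norm_num) fun u hu h => by
    rw [h23 hu dvd_rfl (by norm_num) (by norm_num), h]; rfl] at h
  exact Bool.false_ne_true h

theorem okA_of (hn : ¬ (Nat.card G).Prime) {x : G} (hs : Setup 23 x) {χ : IrrCharacter G}
    (h : χ ≠ irrOne G) {a : ℤ} (ha : a.natAbs = charDegree (χ : G → ℂ)) :
    okA (Nat.card G) a = true := by
  rw [okA, ha, Bool.or_eq_true, Nat.ble_eq, Nat.ble_eq]
  exact or_iff_not_imp_left.2 fun h1 => deg_ge (p := 23) rfl hn (by norm_num) (by norm_num)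
    (hs.ord ▸ orderOf_dvd_natCard x) hs.sq (by omega) h

theorem noP (hn : ¬ (Nat.card G).Prime) (h1 : Nat.card G ∣ 244823040) {x : G} (hs : Setup 23 x)
    {e c : ℕ} (hc : Nat.card (C x) = c * 23) (hN : Nat.card (N x) = e * Nat.card (C x))
    (h : par (Nat.card G) e c = true) : False := by
  obtain ⟨D, l, ⟨B⟩⟩ := hs.exists_BD0 hc hN
  obtain ⟨h2, h3⟩ := B.mem_sdegs rfl hn
  have hq : ¬ 11 ^ 2 ∣ Nat.card G := fun h => absurd (h.trans h1) (by norm_num)
  obtain ⟨k, h4, h5⟩ := sum_emod (m := 2) (t := 0) (-D :: l) fun a ha => ⟨0, le_rfl, by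
    obtain ⟨χ, hχ, h4⟩ := B.exists_mem ha
    obtain ⟨b, hb, h5⟩ : ∃ b ∈ D :: B.L.map (sd B.δ), b.natAbs = a.natAbs := by
      rcases List.mem_cons.1 ha with rfl | ha
      exacts [⟨D, by simp, (Int.natAbs_neg D).symm⟩, ⟨a, by simp [B.hl, ha], rfl⟩]
    have h6 := List.all_eq_true.1 h b (List.forall_mem_cons.2 ⟨List.mem_append_left _ h2,
      List.forall_mem_map.2 fun ψ hψ => List.mem_append_right _ (h3 ψ hψ)⟩ b hb)
    rw [okA_of hn hs (B.mem_F.1 hχ).2 (h5.trans h4), h5] at h6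
    simp only [Bool.not_true, Bool.or_false, Bool.or_eq_true, Bool.and_eq_true, Nat.beq_eq,
      Bool.not_eq_true', ← Bool.not_eq_true, List.elem_eq_mem, List.mem_cons, List.not_mem_nil,
      or_false, decide_eq_true_eq] at h6
    change a % 2 = 0
    refine h6.elim (fun h => by omega) fun ⟨⟨h6, h7⟩, h8⟩ => ?_
    have h9 : ¬ 11 ∣ c * 23 := fun h => hq ((pow_two 11 ▸ mul_dvd_mul (Nat.dvd_of_mod_eq_zero h6)
      h).trans (hc ▸ hN ▸ Subgroup.card_subgroup_dvd_card (N x)))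
    have h10 : c * 23 ∣ 244823040 := (hc ▸ card_C_dvd x).trans h1
    rcases h7 with h7 | ⟨h7, h11⟩
    · obtain ⟨w, h11, hw, h12⟩ := exists_comm B.hc B.blk.card_N Nat.prime_three (r := 11)
        (by norm_num) (Nat.dvd_of_mod_eq_zero h6) h9 (Nat.dvd_of_mod_eq_zero h7) fun j h h' => by
          have : j < 4 := lt_of_not_ge fun h'' =>
            absurd (((pow_dvd_pow 3 h'').trans h).trans h10) (by norm_num)
          interval_cases j <;> omega
      obtain ⟨k, h13, h14, h15, h16, h17⟩ := B.three hn (by norm_num) hw h11 (by norm_num) hq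
        (by norm_num) h12 hχ (by omega)
      rcases h8 with h8 | h8
      · omega
      have h18 := h17 fun φ hφ h => by
        have := (B.blk.deg φ hφ).dvd
        have := B.blk.sign φ hφ
        omega
      omega
    obtain ⟨u, h12, hu, h13⟩ := exists_comm B.hc B.blk.card_N Nat.prime_two (r := 11)
      (by norm_num) (Nat.dvd_of_mod_eq_zero h6) h9 (Nat.dvd_of_mod_eq_zero h7) fun j h h' => by
        have : j < 10 := lt_of_not_ge fun h'' => by
          have := (pow_dvd_pow 2 h'').trans h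
          omega
        interval_cases j <;> omega
    obtain ⟨v, hv⟩ := CT.exists_col_invol (u := u) (by rw [← pow_two, ← hu, pow_orderOf_eq_one])
    have h14 := B.val hn (by norm_num) hu (B.blk.setup.ord ▸
      CT.orderOf_dvd_card_centralizer (mem_C.1 h12).symm) hv hχ
    have h15 := dvd_val (r := 11) (by norm_num) hq h13 (by rw [hu]; norm_num) (by omega) (hv χ)
    rw [abs_lt] at h14
    omega⟩
  rw [B.sum_all, show k = 0 by omega] at h5
  exact absurd h5 (by decide)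

theorem card23 (hn : ¬ (Nat.card G).Prime) (h1 : Nat.card G ∣ 244823040) (h2 : 23 ∣ Nat.card G) :
    11 ∣ Nat.card G ∧ Nat.card G < 253 ^ 2 ∨ Nat.card G = 10200960 ∨ Nat.card G = 244823040 := by
  obtain ⟨x, hx⟩ := exists_prime_orderOf_dvd_card' (G := G) 23 (hp := ⟨by norm_num⟩) h2
  have hs : Setup 23 x := ⟨by norm_num, hx, fun h => absurd (h.trans h1) (by norm_num)⟩
  obtain ⟨j, hj⟩ := h2
  have h := List.all_eq_true.1 s23 j (mem_divs (by norm_num)
    (Nat.dvd_of_mul_dvd_mul_left (k := 23) (by norm_num) (hj ▸ h1)))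
  rw [t23, Bool.or_eq_true] at h
  refine h.elim (fun h => ?_) fun h => ?_
  · simp only [Bool.or_eq_true, Bool.and_eq_true, Nat.beq_eq, Nat.blt_eq, List.elem_eq_mem,
      List.mem_cons, List.not_mem_nil, or_false, decide_eq_true_eq] at h
    omega
  obtain ⟨e, c, hc, hN, h⟩ := hs.loc hn hj h
  have h3 := s11
  have h4 := s7
  have h5 := sB
  simp only [Bool.or_eq_true, Bool.and_eq_true, Nat.beq_eq, List.elem_eq_mem, List.mem_cons,
    List.not_mem_nil, or_false, decide_eq_true_eq, Prod.mk.injEq] at h h3 h4 h5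
  rcases h with (⟨rfl, ⟨rfl, rfl⟩ | ⟨rfl, rfl⟩ | ⟨rfl, rfl⟩⟩ | h) | h
  exacts [(noC hj hs hc hN h3.1.1 nofun).elim, (noC hj hs hc hN h3.1.2 fun _ => h4.1).elim,
    (noC hj hs hc hN h3.2 fun _ => h4.2).elim, (noP hn h1 hs hc hN (hj ▸ h)).elim, by
    obtain ⟨D, l, A, -, h⟩ := hs.exists_BD2 hj (hj ▸ hn) hc hN (ok_blk fun _ _ _ _ _ χ _ h a ha =>
      hj ▸ okA_of hn hs h ha) h
    simp only [Bool.and_eq_true, Nat.beq_eq, List.mem_cons, List.not_mem_nil, or_false,
      decide_eq_true_eq, Prod.mk.injEq] at h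
    obtain ⟨rfl, ⟨rfl, rfl, rfl⟩ | ⟨rfl, rfl, rfl⟩ | ⟨rfl, rfl, rfl⟩⟩ := h <;>
      obtain rfl : 2 = e := A.length_l
    exacts [(noB hj A h5.1.1).elim, (noB hj A h5.1.2).elim, (noB hj A h5.2).elim]]

theorem noD {n f : ℕ} (hG : Nat.card G = n) {x : G} (hs : Setup 11 x)
    (hc : Nat.card (C x) = 1 * 11) (hN : Nat.card (N x) = f * Nat.card (C x))
    (h : u7 n f = true) (hn : ¬ n.Prime := by norm_num) (h1 : 77 ∣ n := by norm_num)
    (h2 : ¬ 7 ^ 2 ∣ n := by norm_num) (hl : 1320 < n := by norm_num) : False := by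
  obtain ⟨_, _, _, _, -, h⟩ := exists_BD (p := 7) hG hn (by norm_num) (by omega) h2
    (fun y hy c h => beq_false_of_sc hs.prime hs.sq (fun y hy => (hs.card_C_eq hy).trans hc) hy
      (by norm_num) (by norm_num) (Dvd.intro _ h.symm)) (fun _ _ χ h a ha => by
      rw [and_self, ha, hs.okd hc hN, Bool.true_and, Nat.ble_eq]
      exact deg_ge (p := 11) hG hn (by norm_num) (by norm_num) (by omega) (hG ▸ hs.sq) hl h) h
  exact Bool.false_ne_true h

theorem card11 (hn : ¬ (Nat.card G).Prime) (h1 : Nat.card G ∣ 443520) (h2 : 11 ∣ Nat.card G) :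
    5 ∣ Nat.card G ∧ Nat.card G < 55 ^ 2 ∨ 7 ∣ Nat.card G ∧ Nat.card G < 77 ^ 2 ∨
      Nat.card G = 7920 ∨ Nat.card G = 443520 := by
  obtain ⟨x, hx⟩ := exists_prime_orderOf_dvd_card' (G := G) 11 (hp := ⟨by norm_num⟩) h2
  have hs : Setup 11 x := ⟨by norm_num, hx, fun h => absurd (h.trans h1) (by norm_num)⟩
  obtain ⟨j, hj⟩ := h2
  have h := List.all_eq_true.1 r11 j (mem_divs (by norm_num)
    (Nat.dvd_of_mul_dvd_mul_left (k := 11) (by norm_num) (hj ▸ h1)))
  rw [u11, Bool.or_eq_true] at h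
  refine h.elim (fun h => ?_) fun h => ?_
  · simp only [Bool.or_eq_true, Bool.and_eq_true, Nat.beq_eq, Nat.blt_eq, List.elem_eq_mem,
      List.mem_cons, List.not_mem_nil, or_false, decide_eq_true_eq] at h
    have := M12.ne_15840 (G := G)
    omega
  obtain ⟨e, c, hc, hN, h⟩ := hs.loc hn hj h
  have h3 := r7
  simp only [Bool.or_eq_true, Bool.and_eq_true, List.elem_eq_mem, List.mem_cons,
    List.not_mem_nil, or_false, decide_eq_true_eq, Prod.mk.injEq] at h h3
  rcases h with (⟨rfl, rfl, rfl⟩ | ⟨rfl, rfl, rfl⟩ | ⟨rfl, rfl, rfl⟩) | h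
  · exact (noD hj hs hc hN h3.1.1).elim
  · exact (noD hj hs hc hN h3.1.2).elim
  · obtain ⟨w, h4, hw, h5⟩ := exists_comm hc hN (q := 7) (r := 5) (by norm_num) (by norm_num)
      (by norm_num) (by norm_num) dvd_rfl fun j h h' => by
        have : j < 2 := lt_of_not_ge fun h'' => absurd ((pow_dvd_pow 7 h'').trans h) (by norm_num)
        interval_cases j <;> omega
    have h6 : 11 ∣ Nat.card (C w) := hx ▸ CT.orderOf_dvd_card_centralizer (mem_C.1 h4).symm
    obtain ⟨e, c, h7, -, h8⟩ := Setup.loc hn ⟨by norm_num, hw, by rw [hj]; norm_num⟩ hj h3.2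
    rw [Bool.not_eq_true', ← Bool.not_eq_true, Nat.beq_eq] at h8
    omega
  obtain ⟨D, l, A, -, h⟩ := hs.exists_BD2 hj (hj ▸ hn) hc hN
    (fun _ _ _ _ _ => ⟨fun _ _ _ => rfl, fun _ _ => rfl⟩) h
  rw [Bool.and_eq_true, Nat.beq_eq] at h
  have h4 : 4 ∣ 11 * j := by omega
  obtain ⟨t, ht, h5⟩ := exists_cen hj h4
  rw [A.cenV hj (hj ▸ hn) h4 (by norm_num) fun u _ h => Nat.beq_eq ▸ h,
    A.anyZ hj (hj ▸ hn) h4 (by norm_num) ht h5] at h
  exact absurd h.2 (by decide)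

end MD

end Cfsg.Agent.Inv
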