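import Mathlib
import Cfsg.Agent.Inv.Fpf3

/-!
A `2`-group `P` with a central involution `z` and an element `x` of order three acting on `P`
with fixed points `⟨z⟩` only.
-/

set_option autoImplicit false

namespace Cfsg.Agent.Inv.Six

open Subgroup
open scoped commutatorElement

universe u
variable {G : Type u} [Group G]

/-- Conjugation by `x`. -/
def r (x : G) : G ≃* G := MulAut.conj x

theorem r_def (x a : G) : r x a = x * a * x⁻¹ := rfl

theorem r_eq_iff {x a : G} : r x a = a ↔ Commute x a := by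
  rw [r_def, mul_inv_eq_iff_eq_mul]; rfl

theorem r_r (x y a : G) : r x (r y a) = r (x * y) a := by simp only [r_def]; group

theorem r_br (g a : G) : r g a = ⁅g, a⁆ * a := by rw [r_def, commutatorElement_def]; group

theorem r_commute (x : G) {a b : G} : Commute (r x a) (r x b) ↔ Commute a b := by
  simp only [Commute, SemiconjBy, ← map_mul, (r x).injective.eq_iff]

/-- Congruence modulo a subgroup. -/
def Cg (V : Subgroup G) (a b : G) : Prop := b⁻¹ * a ∈ V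

namespace Cg
variable {V : Subgroup G} {a b c d : G}

theorem refl (V : Subgroup G) (a : G) : Cg V a a := by simp [Cg]

theorem of_eq (h : a = b) : Cg V a b := h ▸ refl V a

theorem symm (h : Cg V a b) : Cg V b a := by simpa [Cg] using V.inv_mem h

theorem trans (h : Cg V a b) (h' : Cg V b c) : Cg V a c := by
  simpa [Cg, mul_assoc] using V.mul_mem h' h

theorem mono {W : Subgroup G} (h : Cg V a b) (hW : V ≤ W) : Cg W a b := hW h

theorem mul (h : Cg V a b) (h' : Cg V c d) (hd : ∀ v ∈ V, d⁻¹ * v * d ∈ V) :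
    Cg V (a * c) (b * d) := by
  have := V.mul_mem (hd _ h) h'
  simpa [Cg, mul_assoc] using this

theorem mul_left (g : G) (h : Cg V a b) : Cg V (g * a) (g * b) := by simpa [Cg, mul_assoc] using h

theorem mul_mem {v : G} (hv : v ∈ V) (a : G) : Cg V (a * v) a := by simpa [Cg] using hv

theorem map (f : G ≃* G) (hf : ∀ v ∈ V, f v ∈ V) (h : Cg V a b) : Cg V (f a) (f b) := by
  have := hf _ h
  rwa [map_mul, map_inv] at this

theorem mem_iff {A : Subgroup G} (h : Cg V a b) (hA : V ≤ A) : a ∈ A ↔ b ∈ A :=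
  ⟨fun ha => by simpa using A.mul_mem ha (A.inv_mem (hA h)),
    fun hb => by simpa using A.mul_mem hb (hA h)⟩

theorem ex (h : Cg V a b) : ∃ v ∈ V, a = b * v := ⟨_, h, by group⟩

end Cg

theorem mem_Z {z a : G} (hz : z * z = 1) : a ∈ zpowers z ↔ a = 1 ∨ a = z := by
  constructor
  · rintro ⟨k, rfl⟩
    obtain ⟨m, rfl | rfl⟩ := Int.even_or_odd' k
    · left; simp only [zpow_mul, zpow_two, hz, one_zpow]
    · right; simp only [zpow_add, zpow_mul, zpow_two, hz, one_zpow, one_mul, zpow_one]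
  · rintro (rfl | rfl)
    · exact one_mem _
    · exact mem_zpowers _

theorem commute_Z {z a e : G} (h : Commute a z) (he : e ∈ zpowers z) : Commute a e := by
  obtain ⟨k, rfl⟩ := he
  exact h.zpow_right k

theorem nZ {z d : G} (h : Commute d z) : ∀ v ∈ zpowers z, d⁻¹ * v * d ∈ zpowers z := fun v hv => by
  rwa [mul_assoc, ← (commute_Z h hv).eq, inv_mul_cancel_left]

theorem rZ {z x : G} (h : Commute x z) : ∀ v ∈ zpowers z, r x v ∈ zpowers z := fun v hv => by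
  rwa [r_eq_iff.2 (commute_Z h hv)]

theorem Cg.commute_iff {z a b c : G} (h : Cg (zpowers z) a b) (hc : Commute c z) :
    Commute a c ↔ Commute b c := by
  obtain ⟨v, hv, rfl⟩ := h.ex
  have := (commute_Z hc hv).symm
  exact ⟨fun h => by simpa using h.mul_left this.inv_left, fun h => h.mul_left this⟩

theorem Cg.cases {z a b : G} (hz : z * z = 1) (h : Cg (zpowers z) a b) : a = b ∨ a = b * z := by
  obtain ⟨v, hv, rfl⟩ := h.ex
  rcases (mem_Z hz).1 hv with rfl | rfl <;> simp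

theorem cg_r_iff {z g a : G} (ha : Commute a z) :
    Cg (zpowers z) (r g a) a ↔ ⁅g, a⁆ ∈ zpowers z := by
  rw [Cg, r_br, ← mul_assoc]
  exact ⟨fun h => by simpa [mul_assoc] using nZ ha.inv_left _ h, nZ ha _⟩

theorem br_symm {V : Subgroup G} {a b : G} (h : ⁅a, b⁆ ∈ V) : ⁅b, a⁆ ∈ V := by
  rw [← commutatorElement_inv]; exact V.inv_mem h

theorem br_mem {P : Subgroup G} {a b : G} (ha : a ∈ P) (hb : b ∈ P) : ⁅a, b⁆ ∈ P :=
  P.mul_mem (P.mul_mem (P.mul_mem ha hb) (P.inv_mem ha)) (P.inv_mem hb)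

theorem exists_pow_two {A : Subgroup G} {g : G} {n : ℕ} (h : g ^ 2 ^ n ∈ A) (hg : g ∉ A) :
    ∃ k : ℕ, g ^ k ∉ A ∧ g ^ k * g ^ k ∈ A := by
  induction n with
  | zero => exact absurd (by simpa using h) hg
  | succ n ih =>
    by_cases h' : g ^ 2 ^ n ∈ A
    · exact ih h'
    · exact ⟨2 ^ n, h', by rwa [← pow_two, ← pow_mul, ← pow_succ]⟩

/-- The preimage of the centre of `P / ⟨z⟩`. -/
def Z2 (z : G) (P : Subgroup G) : Subgroup G where
  carrier := {a | a ∈ P ∧ Commute a z ∧ ∀ g ∈ P, ⁅a, g⁆ ∈ zpowers z}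
  one_mem' := ⟨P.one_mem, Commute.one_left z, by simp⟩
  mul_mem' := fun {a b} ha hb => ⟨P.mul_mem ha.1 hb.1, ha.2.1.mul_left hb.2.1, fun g hg => by
    have e : ⁅a * b, g⁆ = r a ⁅b, g⁆ * ⁅a, g⁆ := by simp only [r_def, commutatorElement_def]; group
    exact e ▸ mul_mem (rZ ha.2.1 _ (hb.2.2 g hg)) (ha.2.2 g hg)⟩
  inv_mem' := fun {a} ha => ⟨P.inv_mem ha.1, ha.2.1.inv_left, fun g hg => by
    have e : ⁅a⁻¹, g⁆ = a⁻¹ * ⁅g, a⁆ * a := by simp only [commutatorElement_def]; group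
    exact e ▸ nZ ha.2.1 _ (br_symm (ha.2.2 g hg))⟩

theorem Z2_le {z : G} {P : Subgroup G} : Z2 z P ≤ P := fun _ h => h.1

theorem Z2_br {z a g : G} {P : Subgroup G} (ha : a ∈ Z2 z P) (hg : g ∈ P) : ⁅a, g⁆ ∈ zpowers z :=
  ha.2.2 g hg

/-- `a g = g a z`. -/
theorem anti {z a g : G} (hz : z * z = 1) (h : ⁅a, g⁆ ∈ zpowers z) (h' : ¬ Commute a g) :
    ⁅a, g⁆ = z :=
  ((mem_Z hz).1 h).resolve_left fun e => h' (commutatorElement_eq_one_iff_commute.1 e)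

theorem commute_mul_iff {z a g h : G} (hz : z * z = 1) (hg : ⁅a, g⁆ ∈ zpowers z)
    (hh : ⁅a, h⁆ ∈ zpowers z) (c : Commute g z) (hz1 : z ≠ 1) :
    Commute a (g * h) ↔ (Commute a g ↔ Commute a h) := by
  have e : ⁅a, g * h⁆ = ⁅a, g⁆ * ⁅a, h⁆ := by
    rw [← r_eq_iff.2 (commute_Z c hh)]; simp only [r_def, commutatorElement_def]; group
  simp only [← commutatorElement_eq_one_iff_commute, e]
  rcases (mem_Z hz).1 hg with h1 | h1 <;> rcases (mem_Z hz).1 hh with h2 | h2 <;>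
    simp [h1, h2, hz, hz1]

theorem sq_mul {z a b : G} (ha : Commute a z) (h : ⁅b, a⁆ ∈ zpowers z) :
    a * b * (a * b) = ⁅b, a⁆ * (a * a) * (b * b) := by
  have := (commute_Z ha h).eq
  calc _ = a * ⁅b, a⁆ * a * (b * b) := by simp only [commutatorElement_def]; group
    _ = _ := by rw [this]; group

/-- The basic configuration. -/
structure Tr (z x : G) (P : Subgroup G) : Prop where
  pg : IsPGroup 2 P
  zm : z ∈ P
  zz : z * z = 1
  z1 : z ≠ 1
  cz : ∀ a ∈ P, Commute a z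
  x3 : x ^ 3 = 1
  xz : Commute x z
  nx : ∀ a ∈ P, r x a ∈ P
  fx : ∀ a ∈ P, r x a = a → a ∈ zpowers z

namespace Tr
variable {z x : G} {P : Subgroup G} (T : Tr z x P)
include T

theorem Z_le : zpowers z ≤ P := zpowers_le.2 T.zm

theorem rrr (a : G) : r x (r x (r x a)) = a := by
  rw [r_r, r_r, ← pow_three', T.x3, r_def]; group

theorem pow {a : G} (ha : a ∈ P) : ∃ n, a ^ 2 ^ n = 1 := by
  obtain ⟨n, h⟩ := T.pg ⟨a, ha⟩
  exact ⟨n, congrArg Subtype.val h⟩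

theorem fix {a : G} (ha : a ∈ P) (h : Cg (zpowers z) (r x a) a) : a ∈ zpowers z := by
  refine T.fx a ha ((h.cases T.zz).elim id fun e => ?_)
  have h2 : r x (r x a) = a := by rw [e, map_mul, e, r_eq_iff.2 T.xz, mul_assoc, T.zz, mul_one]
  rw [← h2, T.rrr]; exact h2.symm

theorem r_mem_Z {a : G} : r x a ∈ zpowers z ↔ a ∈ zpowers z :=
  ⟨fun h => T.rrr a ▸ rZ T.xz _ (rZ T.xz _ h), rZ T.xz a⟩

theorem r_Z2 {a : G} (ha : a ∈ Z2 z P) : r x a ∈ Z2 z P :=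
  ⟨T.nx a ha.1, T.cz _ (T.nx a ha.1), fun g hg => by
    rw [← T.rrr g, ← map_commutatorElement]
    exact rZ T.xz _ (ha.2.2 _ (T.nx _ (T.nx _ hg)))⟩

theorem mem_Z2 {a : G} (ha : a ∈ P) (h : ∀ g ∈ P, ⁅a, g⁆ ∈ zpowers z) : a ∈ Z2 z P :=
  ⟨ha, T.cz a ha, h⟩

theorem Z_le_Z2 : zpowers z ≤ Z2 z P := fun a ha => T.mem_Z2 (T.Z_le ha) fun g hg => by
  rw [commutatorElement_eq_one_iff_commute.2 (commute_Z (T.cz g hg) ha).symm]; exact one_mem _

theorem cmul {a g h : G} (ha : a ∈ Z2 z P) (hg : g ∈ P) (hh : h ∈ P) :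
    Commute a (g * h) ↔ (Commute a g ↔ Commute a h) :=
  commute_mul_iff T.zz (Z2_br ha hg) (Z2_br ha hh) (T.cz g hg) T.z1

theorem cmul' {a b g : G} (ha : a ∈ Z2 z P) (hb : b ∈ Z2 z P) (hg : g ∈ P) :
    Commute (a * b) g ↔ (Commute a g ↔ Commute b g) := by
  simp only [Commute.symm_iff (b := g)]
  exact commute_mul_iff T.zz (br_symm (Z2_br ha hg)) (br_symm (Z2_br hb hg)) ha.2.1 T.z1

theorem c_br {a g h : G} (ha : a ∈ Z2 z P) (hg : g ∈ P) (hh : h ∈ P) : Commute a ⁅g, h⁆ := by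
  rw [commutatorElement_def, T.cmul ha (P.mul_mem (P.mul_mem hg hh) (P.inv_mem hg)) (P.inv_mem hh),
    T.cmul ha (P.mul_mem hg hh) (P.inv_mem hg), T.cmul ha hg hh, Commute.inv_right_iff,
    Commute.inv_right_iff]
  tauto

variable [Finite G]

theorem exists_fpf : ∃ (X : Type u) (_ : Group X) (_ : Finite X) (π : P →* X) (ρ : MulAut X),
    F3.Fpf ρ ∧ (∀ a b : P, π a = π b ↔ Cg (zpowers z) a b) ∧
      ∀ a : P, π ⟨r x a, T.nx a a.2⟩ = ρ (π a) := by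
  have hn : ((zpowers z).subgroupOf P).Normal := ⟨fun a ha g => by
    have := nZ (T.cz _ (P.inv_mem g.2)) _ ha
    rw [inv_inv] at this
    exact this⟩
  let φ : MulAut P := P.normalizerMonoidHom ⟨x, mem_normalizer_fintype T.nx⟩
  have hφ : ∀ a : P, (φ a : G) = r x a := fun a => rfl
  have hm : ((zpowers z).subgroupOf P).map (φ : P →* P) = (zpowers z).subgroupOf P := by
    ext a
    rw [← MulEquiv.toMonoidHom_eq_coe, mem_map_equiv, mem_subgroupOf, mem_subgroupOf, ← T.r_mem_Z, ← hφ, MulEquiv.apply_symm_apply]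
  have hc : ∀ a b : P, QuotientGroup.mk' ((zpowers z).subgroupOf P) a = QuotientGroup.mk' _ b ↔
      Cg (zpowers z) a b := fun a b => by
    rw [eq_comm, QuotientGroup.mk'_apply, QuotientGroup.mk'_apply, QuotientGroup.eq]; rfl
  refine ⟨_, inferInstance, inferInstance, QuotientGroup.mk' _, QuotientGroup.congr _ _ φ hm,
    ⟨fun a => ?_, fun a ha => ?_⟩, hc, fun a => rfl⟩
  · obtain ⟨a, rfl⟩ := QuotientGroup.mk_surjective a
    simp only [QuotientGroup.congr_mk]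
    exact congrArg _ (Subtype.ext (T.rrr a))
  · obtain ⟨a, rfl⟩ := QuotientGroup.mk_surjective a
    exact (QuotientGroup.eq_one_iff a).2 (T.fix a.2 ((hc (φ a) a).1 ha))

theorem facts {a b c : G} (ha : a ∈ P) (hb : b ∈ P) (hc : c ∈ P) :
    a * r x a * r x (r x a) ∈ zpowers z ∧ ⁅⁅a, b⁆, c⁆ ∈ zpowers z ∧ ⁅a, r x a⁆ ∈ zpowers z ∧
      Cg (zpowers z) ⁅a, r x b⁆ (r x (r x ⁅a, b⁆)) ∧ Cg (zpowers z) ⁅r x a, b⁆ (r x (r x ⁅a, b⁆)) := by
  obtain ⟨X, _, _, π, ρ, F, h1, h2⟩ := T.exists_fpf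
  have h0 : ∀ a : P, π a = 1 → (a : G) ∈ zpowers z := fun a h => by
    simpa [Cg] using (h1 a 1).1 (by rw [h, map_one])
  lift a to P using ha
  lift b to P using hb
  lift c to P using hc
  let R : P → P := fun a => ⟨r x a, T.nx a a.2⟩
  have h3 : ∀ a, π (R a) = ρ (π a) := h2
  refine ⟨h0 (a * R a * R (R a)) ?_, h0 ⁅⁅a, b⁆, c⁆ ?_, h0 ⁅a, R a⁆ ?_,
    (h1 ⁅a, R b⁆ (R (R ⁅a, b⁆))).1 ?_, (h1 ⁅R a, b⁆ (R (R ⁅a, b⁆))).1 ?_⟩
  · simp only [map_mul, h3, F.mul_mul]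
  · rw [map_commutatorElement, commutatorElement_eq_one_iff_mul_comm, map_commutatorElement]
    exact (mem_center_iff.1 (F.class_two (commutator_mem_commutator (mem_top _) (mem_top _))) _).symm
  · rw [map_commutatorElement, h3, commutatorElement_eq_one_iff_commute]; exact F.comm _
  · rw [h3, h3, map_commutatorElement, map_commutatorElement, h3, F.br_r]
  · rw [h3, h3, map_commutatorElement, map_commutatorElement, h3, F.br_l]

theorem norm {a : G} (ha : a ∈ P) : a * r x a * r x (r x a) ∈ zpowers z := (T.facts ha ha ha).1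

theorem br_Z2 {a b : G} (ha : a ∈ P) (hb : b ∈ P) : ⁅a, b⁆ ∈ Z2 z P :=
  T.mem_Z2 (br_mem ha hb) fun _ hc => (T.facts ha hb hc).2.1

theorem br_self {a : G} (ha : a ∈ P) : ⁅a, r x a⁆ ∈ zpowers z := (T.facts ha ha ha).2.2.1

theorem br {a b : G} (ha : a ∈ P) (hb : b ∈ P) : Cg (zpowers z) ⁅a, r x b⁆ (r x (r x ⁅a, b⁆)) :=
  (T.facts ha hb ha).2.2.2.1

theorem brl {a b : G} (ha : a ∈ P) (hb : b ∈ P) : Cg (zpowers z) ⁅r x a, b⁆ (r x (r x ⁅a, b⁆)) :=
  (T.facts ha hb ha).2.2.2.2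

theorem comm_r {a b : G} (ha : a ∈ P) (hb : b ∈ P) (h : ⁅a, b⁆ ∈ zpowers z) :
    ⁅a, r x b⁆ ∈ zpowers z :=
  ((T.br ha hb).mem_iff le_rfl).2 (rZ T.xz _ (rZ T.xz _ h))

theorem rr_cg {a : G} (ha : a ∈ P) : Cg (zpowers z) (r x (r x a)) (a * r x a)⁻¹ := by
  simpa [Cg] using T.norm ha

theorem inv_comm {a : G} (ha : a ∈ P) (h : a * a = 1) : Commute a (r x a) := by
  have hb : r x a * r x a = 1 := by rw [← map_mul, h, map_one]
  have hc : r x (r x a) * r x (r x a) = 1 := by rw [← map_mul, hb, map_one]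
  obtain ⟨v, hv, e⟩ := (T.rr_cg ha).ex
  have hv2 : v * v = 1 := by rcases (mem_Z T.zz).1 hv with rfl | rfl <;> simp [T.zz]
  have c := (commute_Z (T.cz _ (P.inv_mem (P.mul_mem ha (T.nx a ha)))) hv).eq
  rw [e, mul_assoc, ← mul_assoc v, ← c, mul_assoc, hv2, mul_one, ← mul_inv_rev, inv_eq_one,
    sq_mul (T.cz a ha) (br_symm (T.br_self ha)), h, hb, mul_one, mul_one] at hc
  exact (commutatorElement_eq_one_iff_commute.1 hc).symm

theorem mul_r_notMem {a : G} (ha : a ∈ P) (h : a ∉ zpowers z) : a * r x a ∉ zpowers z := fun h' =>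
  h (T.r_mem_Z.1 (T.r_mem_Z.1 (((T.rr_cg ha).mem_iff le_rfl).2 (inv_mem h'))))

/-- An element fixed by `x` modulo a normal invariant subgroup containing `z` lies in it. -/
theorem coprime {V : Subgroup G} (hz : z ∈ V) (hx : ∀ v ∈ V, r x v ∈ V) {a : G} (ha : a ∈ P)
    (hV : ∀ v ∈ V, a⁻¹ * v * a ∈ V) (h : Cg V (r x a) a) : a ∈ V := by
  have h2 : Cg V (a * r x a * r x (r x a)) (a * a * a) :=
    (h.mul_left a).mul ((h.map _ hx).trans h) hV
  have h3 := (h2.mem_iff le_rfl).1 (zpowers_le.2 hz (T.norm ha))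
  obtain ⟨n, hn⟩ := T.pow ha
  have hc : IsCoprime ((2 ^ n : ℕ) : ℤ) ((3 : ℕ) : ℤ) :=
    Nat.isCoprime_iff_coprime.2 (Nat.Coprime.pow_left n (by norm_num))
  obtain ⟨i, j, e⟩ := hc
  rw [← zpow_one a, ← e, zpow_add, zpow_mul', zpow_mul', zpow_natCast, zpow_natCast, hn, pow_three']
  exact mul_mem (zpow_mem (one_mem _) _) (zpow_mem h3 _)

omit [Finite G] in
theorem Z2_norm {a : G} (ha : a ∈ P) : ∀ v ∈ Z2 z P, a⁻¹ * v * a ∈ Z2 z P := fun v hv => by
  have e : a⁻¹ * v * a = v * ⁅v⁻¹, a⁻¹⁆ := by rw [commutatorElement_def]; group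
  exact e ▸ mul_mem hv (T.Z_le_Z2 (Z2_br (inv_mem hv) (inv_mem ha)))

/-- If the centralizer of `a` has index at most two then `a` is in `Z2`. -/
theorem Z2_of_index {a : G} (ha : a ∈ P)
    (h : ∀ g ∈ P, ∀ k ∈ P, ¬ Commute a g → ¬ Commute a k → Commute a (g * k)) : a ∈ Z2 z P := by
  refine T.mem_Z2 ha fun g hg => by_contra fun hn => ?_
  have h0 : ∀ k, ⁅a, k⁆ ∉ zpowers z → ¬ Commute a k := fun k hk hc =>
    hk (commutatorElement_eq_one_iff_commute.2 hc ▸ one_mem _)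
  have h1 : ∀ k ∈ P, ⁅a, k⁆ ∉ zpowers z → ⁅a, r x k⁆ ∉ zpowers z := fun k hk h1 h2 =>
    h1 (T.rrr k ▸ T.comm_r ha (T.nx _ (T.nx _ hk)) (T.comm_r ha (T.nx _ hk) h2))
  have h2 := h g hg _ (T.nx g hg) (h0 _ hn) (h0 _ (h1 _ hg hn))
  exact h0 _ (h1 _ (T.nx g hg) (h1 _ hg hn))
    (((T.rr_cg hg).commute_iff (T.cz a ha)).2 h2.inv_right.symm).symm

end Tr

/-- `z` is the only central involution of `P`. -/
def Uc (z : G) (P : Subgroup G) : Prop :=
  ∀ a ∈ P, a * a = 1 → (∀ g ∈ P, Commute a g) → a ∈ zpowers z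

/-- The centralizer of `u` and `w` in `P`. -/
def CR (P : Subgroup G) (u w : G) : Subgroup G := P ⊓ centralizer {u} ⊓ centralizer {w}

theorem mem_CR {P : Subgroup G} {u w a : G} : a ∈ CR P u w ↔ a ∈ P ∧ Commute u a ∧ Commute w a := by
  simp only [CR, mem_inf, mem_centralizer_singleton_iff, and_assoc, Commute.symm_iff (a := u),
    Commute.symm_iff (a := w)]
  rfl

namespace Tr
variable [Finite G] {z x : G} {P : Subgroup G} (T : Tr z x P)
include T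

omit [Finite G] in
theorem center (U : Uc z P) {a : G} (ha : a ∈ P) (h : ∀ g ∈ P, Commute a g) : a ∈ zpowers z := by
  obtain ⟨n, hn⟩ := T.pow ha
  induction n generalizing a with
  | zero => rw [pow_zero, pow_one] at hn; exact hn ▸ one_mem _
  | succ n ih =>
    have h2 := ih (P.mul_mem ha ha) (fun g hg => (h g hg).mul_left (h g hg))
      (by rw [← pow_two, ← pow_mul, ← pow_succ', hn])
    have hr : ∀ g ∈ P, Commute (r x a) g := fun g hg => by
      rw [← T.rrr g, r_commute]; exact h _ (T.nx _ (T.nx _ hg))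
    refine T.fix ha (U _ (P.mul_mem (P.inv_mem ha) (T.nx a ha)) ?_
      fun g hg => (h g hg).inv_left.mul_left (hr g hg))
    have c := (hr _ (P.inv_mem ha)).eq
    rw [mul_assoc, ← mul_assoc (r x a), c, mul_assoc, ← map_mul, r_eq_iff.2 (commute_Z T.xz h2)]
    group

theorem exists_u {w : G} (hw : w ∈ P) (h1 : w * w = 1) (h2 : w ∉ zpowers z) :
    ∃ u ∈ Z2 z P, u * u = 1 ∧ u ∉ zpowers z := by
  by_cases h : w ∈ Z2 z P
  · exact ⟨w, h, h1, h2⟩
  obtain ⟨s, hs, hc⟩ : ∃ s ∈ P, ⁅w, s⁆ ∉ zpowers z := by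
    by_contra! hn
    exact h (T.mem_Z2 hw hn)
  have hc2 := T.br_Z2 hw hs
  have hsq : ⁅w, s⁆ * ⁅w, s⁆ ∈ zpowers z := by
    have e : w * w = 1 → ⁅w, ⁅w, s⁆⁆ * (⁅w, s⁆ * ⁅w, s⁆) = ⁅w * w, s⁆ := fun _ => by
      simp only [commutatorElement_def]; group
    have := e h1
    rw [h1, commutatorElement_one_left] at this
    rw [eq_inv_of_mul_eq_one_right this]
    exact inv_mem (br_symm (Z2_br hc2 hw))
  rcases (mem_Z T.zz).1 hsq with h3 | h3
  · exact ⟨_, hc2, h3, hc⟩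
  refine ⟨_, mul_mem hc2 (T.r_Z2 hc2), ?_, T.mul_r_notMem hc2.1 hc⟩
  rw [sq_mul hc2.2.1 (Z2_br (T.r_Z2 hc2) hc2.1), ← map_mul, h3, r_eq_iff.2 T.xz,
    commutatorElement_eq_one_iff_commute.2 (T.c_br (T.r_Z2 hc2) hw hs), one_mul, T.zz]

theorem c_rr {u g : G} (hu : u ∈ Z2 z P) (hg : g ∈ P) :
    Commute (r x (r x u)) g ↔ (Commute u g ↔ Commute (r x u) g) := by
  rw [(T.rr_cg hu.1).commute_iff (T.cz g hg), Commute.inv_left_iff, T.cmul' hu (T.r_Z2 hu) hg]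

omit [Finite G] in
theorem c_r {u g : G} : Commute u (r x g) ↔ Commute (r x (r x u)) g := by
  rw [← r_commute x (b := g), T.rrr]

theorem exists_c (U : Uc z P) {u : G} (hu : u ∈ Z2 z P) (h : u ∉ zpowers z) :
    ∃ c ∈ P, Commute u c ∧ ¬ Commute (r x u) c := by
  obtain ⟨g, hg, hc⟩ : ∃ g ∈ P, ¬ Commute (r x (r x u)) g := by
    by_contra! hn
    exact h (T.r_mem_Z.1 (T.r_mem_Z.1 (T.center U (T.nx _ (T.nx _ hu.1)) hn)))
  by_cases h1 : Commute u g
  · exact ⟨g, hg, h1, fun h2 => hc ((T.c_rr hu hg).2 (iff_of_true h1 h2))⟩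
  have h2 : Commute (r x u) g := by_contra fun h2 => hc ((T.c_rr hu hg).2 (iff_of_false h1 h2))
  refine ⟨r x (r x g), T.nx _ (T.nx _ hg), ?_, ?_⟩
  · rwa [T.c_r, r_commute]
  · rwa [r_commute, T.c_r]

theorem gen {u c : G} (hu : u ∈ Z2 z P) (hc : c ∈ P) (h1 : Commute u c) (h2 : ¬ Commute (r x u) c)
    {A : Subgroup G} (hR : CR P u (r x u) ≤ A) (h3 : c ∈ A) (h4 : r x c ∈ A) : P ≤ A := by
  have h5 : ¬ Commute u (r x c) := by rw [T.c_r, T.c_rr hu hc]; tauto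
  have h6 : Commute (r x u) (r x c) := (r_commute x).2 h1
  have key : ∀ g ∈ P, ∀ k ∈ P, k ∈ A → (Commute u g ↔ Commute u k) →
      (Commute (r x u) g ↔ Commute (r x u) k) → g ∈ A := fun g hg k hk hA e1 e2 => by
    have := hR (mem_CR.2 ⟨P.mul_mem hg hk, (T.cmul hu hg hk).2 e1, (T.cmul (T.r_Z2 hu) hg hk).2 e2⟩)
    exact (A.mul_mem_cancel_right hA).1 this
  intro g hg
  have hr := T.nx c hc
  by_cases a1 : Commute u g <;> by_cases a2 : Commute (r x u) g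
  · exact hR (mem_CR.2 ⟨hg, a1, a2⟩)
  · exact key g hg c hc h3 (by tauto) (by tauto)
  · exact key g hg _ hr h4 (by tauto) (by tauto)
  · refine key g hg _ (P.mul_mem hc hr) (A.mul_mem h3 h4) ?_ ?_
    · rw [T.cmul hu hc hr]; tauto
    · rw [T.cmul (T.r_Z2 hu) hc hr]; tauto

theorem r_CR {u a : G} (hu : u ∈ Z2 z P) (ha : a ∈ CR P u (r x u)) : r x a ∈ CR P u (r x u) := by
  rw [mem_CR] at ha ⊢
  exact ⟨T.nx a ha.1, T.c_r.2 ((T.c_rr hu ha.1).2 (iff_of_true ha.2.1 ha.2.2)),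
    (r_commute x).2 ha.2.1⟩

/-- The subgroup of the elements of `P` that commute with `b` modulo `z`. -/
def CZ (b : G) : Subgroup G where
  carrier := {a | a ∈ P ∧ ⁅b, a⁆ ∈ zpowers z}
  one_mem' := ⟨P.one_mem, by simp⟩
  mul_mem' := fun {g h} hg hh => ⟨P.mul_mem hg.1 hh.1, by
    have e : ⁅b, g * h⁆ = ⁅b, g⁆ * r g ⁅b, h⁆ := by simp only [r_def, commutatorElement_def]; group
    exact e ▸ mul_mem hg.2 (rZ (T.cz g hg.1) _ hh.2)⟩
  inv_mem' := fun {g} hg => ⟨P.inv_mem hg.1, by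
    have e : ⁅b, g⁻¹⁆ = g⁻¹ * ⁅g, b⁆ * g := by simp only [commutatorElement_def]; group
    exact e ▸ nZ (T.cz g hg.1) _ (br_symm hg.2)⟩

theorem Z2_of_gen {u c b : G} (hu : u ∈ Z2 z P) (hc : c ∈ P) (h1 : Commute u c)
    (h2 : ¬ Commute (r x u) c) (hb : b ∈ P) (hR : ∀ a ∈ CR P u (r x u), ⁅b, a⁆ ∈ zpowers z)
    (h3 : ⁅b, c⁆ ∈ zpowers z) : b ∈ Z2 z P :=
  T.mem_Z2 hb fun _ hg => (T.gen hu hc h1 h2 (A := T.CZ b) (fun a ha => ⟨(mem_CR.1 ha).1, hR a ha⟩)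
    ⟨hc, h3⟩ ⟨T.nx c hc, T.comm_r hb hc h3⟩ hg).2

theorem ex_of_le (U : Uc z P) {u : G} (hu : u ∈ Z2 z P) (h : u ∉ zpowers z)
    (hR : CR P u (r x u) ≤ Z2 z P) : P ≤ Z2 z P := by
  obtain ⟨c, hc, h1, h2⟩ := T.exists_c U hu h
  have h3 := T.Z2_of_gen hu hc h1 h2 hc (fun a ha => br_symm (Z2_br (hR ha) hc)) (by simp)
  exact T.gen hu hc h1 h2 hR h3 (T.r_Z2 h3)

end Tr

end Cfsg.Agent.Inv.Six
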