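import Mathlib
import Cfsg.Agent.Inv.SixTr

/-!
More on the basic configuration: the group `⟨z, u, u^x⟩`, a commutator lemma for two
configurations, and the case of a unique involution.
-/

set_option autoImplicit false

namespace Cfsg.Agent.Inv.Six

open Subgroup
open scoped commutatorElement

universe u
variable {G : Type u} [Group G]

/-- The subgroup generated by three elements. -/
def V3 (a b c : G) : Subgroup G := closure {a, b, c}

theorem V3_le {a b c : G} {A : Subgroup G} : V3 a b c ≤ A ↔ a ∈ A ∧ b ∈ A ∧ c ∈ A := by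
  simp [V3, Set.insert_subset_iff]

theorem mem_V3 (a b c : G) : a ∈ V3 a b c ∧ b ∈ V3 a b c ∧ c ∈ V3 a b c := V3_le.1 le_rfl

theorem V3_map {a b c : G} (f : G ≃* G) {A : Subgroup G} (ha : f a ∈ A) (hb : f b ∈ A)
    (hc : f c ∈ A) : ∀ v ∈ V3 a b c, f v ∈ A :=
  (V3_le (A := A.comap f.toMonoidHom)).2 ⟨ha, hb, hc⟩

theorem V3_commute {a b c g : G} (ha : Commute a g) (hb : Commute b g) (hc : Commute c g) :
    ∀ v ∈ V3 a b c, Commute v g := fun _ hv =>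
  mem_centralizer_singleton_iff.1 ((V3_le (A := centralizer {g})).2
    ⟨mem_centralizer_singleton_iff.2 ha, mem_centralizer_singleton_iff.2 hb,
      mem_centralizer_singleton_iff.2 hc⟩ hv)

theorem eq_one_of_ZZ {z u a : G} (hu : u * u = 1) (h : u ∉ zpowers z) (h1 : a ∈ zpowers z)
    (h2 : a ∈ zpowers u) : a = 1 :=
  ((mem_Z hu).1 h2).resolve_right fun e => h (e ▸ h1)

theorem commute_of_ZZ {z u a b : G} (hu : u * u = 1) (h : u ∉ zpowers z) (h1 : ⁅a, b⁆ ∈ zpowers z)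
    (h2 : ⁅a, b⁆ ∈ zpowers u) : Commute a b :=
  commutatorElement_eq_one_iff_commute.1 (eq_one_of_ZZ hu h h1 h2)

theorem notMem_Z_symm {z u : G} (hz1 : z ≠ 1) (hu : u * u = 1) (h : u ∉ zpowers z) :
    z ∉ zpowers u := fun h' => hz1 (eq_one_of_ZZ hu h (mem_zpowers z) h')

/-- A central involution of a subgroup of index two. -/
theorem br_of_index {u a : G} {S C : Subgroup G} (U : Uc u S) (hC : C ≤ S)
    (hi : ∀ g ∈ S, ∀ k ∈ S, g ∉ C → k ∉ C → g * k ∈ C) (ha : a ∈ C) (h1 : a * a = 1)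
    (h2 : ∀ g ∈ C, Commute a g) {g : G} (hg : g ∈ S) : ⁅a, g⁆ ∈ zpowers u := by
  by_cases h : g ∈ C
  · rw [commutatorElement_eq_one_iff_commute.2 (h2 g h)]; exact one_mem _
  have hn : ∀ k ∈ C, g⁻¹ * k * g ∈ C := fun k hk =>
    hi _ (S.mul_mem (S.inv_mem hg) (hC hk)) g hg (fun h' => h (by simpa using C.mul_mem hk (C.inv_mem h'))) h
  have hb : ∀ k ∈ C, Commute (r g a) k := fun k hk => by
    have := (r_commute g).2 (h2 _ (hn k hk))
    rwa [show r g (g⁻¹ * k * g) = k by rw [r_def]; group] at this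
  have ia : a⁻¹ = a := inv_eq_of_mul_eq_one_right h1
  have e : ⁅a, g⁆ = a * r g a := by rw [commutatorElement_def, ia, r_def]; group
  have hc : ∀ k ∈ C, Commute ⁅a, g⁆ k := fun k hk => e ▸ (h2 k hk).mul_left (hb k hk)
  have hg2 : Commute g ⁅a, g⁆ := by
    rw [← r_eq_iff, e, map_mul, r_r, r_eq_iff.2 (h2 _ (hi g hg g hg h h)).symm, (hb a ha).eq]
  refine U _ (br_mem (hC ha) hg) ?_ fun k hk => ?_
  · rw [e, mul_assoc, ← mul_assoc (r g a), (hb a ha).eq, mul_assoc, ← map_mul, h1, map_one, mul_one, h1]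
  · by_cases h' : k ∈ C
    · exact hc k h'
    · simpa using hg2.symm.inv_right.mul_right (hc _ (hi g hg k hk h h'))

theorem index_commute {z u : G} {S : Subgroup G} (hz : z * z = 1) (hz1 : z ≠ 1)
    (hS : ∀ g ∈ S, Commute g z) (hu : ∀ g ∈ S, ⁅u, g⁆ ∈ zpowers z) {g k : G} (hg : g ∈ S)
    (hk : k ∈ S) (h1 : ¬ Commute u g) (h2 : ¬ Commute u k) : Commute u (g * k) :=
  (commute_mul_iff hz (hu g hg) (hu k hk) (hS g hg) hz1).2 (iff_of_false h1 h2)

namespace Tr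
variable [Finite G] {z x : G} {P : Subgroup G} (T : Tr z x P)
include T

theorem rr_mem_V {u : G} (hu : u ∈ P) : r x (r x u) ∈ V3 z u (r x u) :=
  ((T.rr_cg hu).mem_iff (zpowers_le.2 (mem_V3 _ _ _).1)).2
    (inv_mem (mul_mem (mem_V3 _ _ _).2.1 (mem_V3 _ _ _).2.2))

theorem r_V {u : G} (hu : u ∈ P) : ∀ v ∈ V3 z u (r x u), r x v ∈ V3 z u (r x u) :=
  V3_map _ (by rw [r_eq_iff.2 T.xz]; exact (mem_V3 _ _ _).1) (mem_V3 _ _ _).2.2 (T.rr_mem_V hu)

omit [Finite G] in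
theorem V_le_Z2 {u : G} (hu : u ∈ Z2 z P) : V3 z u (r x u) ≤ Z2 z P :=
  V3_le.2 ⟨T.Z_le_Z2 (mem_zpowers z), hu, T.r_Z2 hu⟩

omit T [Finite G] in
theorem norm_of_le {V : Subgroup G} (hz : z ∈ V) (hV : V ≤ Z2 z P) {a : G} (ha : a ∈ P) :
    ∀ v ∈ V, a⁻¹ * v * a ∈ V := fun v hv => by
  have e : a⁻¹ * v * a = v * ⁅v⁻¹, a⁻¹⁆ := by rw [commutatorElement_def]; group
  exact e ▸ mul_mem hv (zpowers_le.2 hz (Z2_br (inv_mem (hV hv)) (inv_mem ha)))

omit [Finite G] in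
theorem V_commute {u a : G} (ha : a ∈ CR P u (r x u)) : ∀ v ∈ V3 z u (r x u), Commute v a :=
  V3_commute (T.cz a (mem_CR.1 ha).1).symm (mem_CR.1 ha).2.1 (mem_CR.1 ha).2.2

theorem mem_V (U : Uc z P) {u b : G} (hu : u ∈ Z2 z P) (h : u ∉ zpowers z) (hb : b ∈ Z2 z P)
    (hR : ∀ a ∈ CR P u (r x u), Commute b a) : b ∈ V3 z u (r x u) := by
  obtain ⟨c, hc, h1, h2⟩ := T.exists_c U hu h
  have h5 : ¬ Commute u (r x c) := by rw [T.c_r, T.c_rr hu hc]; tauto
  have h6 : Commute (r x u) (r x c) := (r_commute x).2 h1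
  have hr := T.nx c hc
  obtain ⟨m1, m2, m3⟩ := mem_V3 z u (r x u)
  have key : ∀ v ∈ V3 z u (r x u), (Commute b c ↔ Commute v c) →
      (Commute b (r x c) ↔ Commute v (r x c)) → b ∈ V3 z u (r x u) := fun v hv e1 e2 => by
    have hv2 := T.V_le_Z2 hu hv
    have := T.gen hu hc h1 h2 (A := centralizer {b * v})
      (fun a ha => mem_centralizer_singleton_iff.2 ((hR a ha).mul_left (T.V_commute ha v hv)).symm)
      (mem_centralizer_singleton_iff.2 ((T.cmul' hb hv2 hc).2 e1).symm)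
      (mem_centralizer_singleton_iff.2 ((T.cmul' hb hv2 hr).2 e2).symm)
    exact (mul_mem_cancel_right hv).1 (zpowers_le.2 m1 (T.center U (mul_mem hb hv2).1
      fun g hg => (mem_centralizer_singleton_iff.1 (this hg)).symm))
  by_cases a1 : Commute b c <;> by_cases a2 : Commute b (r x c)
  · exact key 1 (one_mem _) (by simp [a1]) (by simp [a2])
  · exact key u m2 (by tauto) (by tauto)
  · exact key _ m3 (by tauto) (by tauto)
  · refine key _ (mul_mem m2 m3) ?_ ?_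
    · rw [T.cmul' hu (T.r_Z2 hu) hc]; tauto
    · rw [T.cmul' hu (T.r_Z2 hu) hr]; tauto

omit [Finite G] in
theorem rr_not {u d : G} (hu : u ∈ P) (h : u ∉ zpowers z) (hd : Cg (zpowers z) d (r x (r x u))) :
    ¬ (d ∈ zpowers z ∨ Cg (zpowers z) d u) := by
  rintro (h1 | h1)
  · exact h (T.r_mem_Z.1 (T.r_mem_Z.1 ((hd.mem_iff le_rfl).1 h1)))
  · have := (h1.symm.trans hd).map _ (rZ T.xz)
    rw [T.rrr] at this
    exact h (T.fix hu this)

/-- The commutator lemma for two configurations. -/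
theorem lemK {u x' v : G} {P' : Subgroup G} (T' : Tr u x' P') (hu : u ∈ Z2 z P)
    (huz : u ∉ zpowers z) (hv : v ∈ Z2 u P') (hvv : v * v = 1) (hvP : v ∈ P)
    (hv1 : Commute (r x u) v)
    (h1 : ∀ a ∈ P, Commute u a → ⁅v, a⁆ ∈ zpowers z ∨ Cg (zpowers z) ⁅v, a⁆ u)
    (h2 : ∀ w ∈ P, Commute u w → Commute v w → w ∈ P') {c : G} (hc : c ∈ P) (hc' : c ∈ P') :
    Commute v c := by
  by_contra hn
  have e := anti T'.zz (Z2_br hv hc') hn
  have hw : r x v ∈ P' := h2 _ (T.nx v hvP)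
    (T.c_r.2 ((T.c_rr hu hvP).2 (iff_of_true hv.2.1.symm hv1))) (T.inv_comm hvP hvv)
  have huc := (T'.cz c hc').symm
  by_cases h3 : Commute (r x u) c
  · exact T.rr_not hu.1 huz (e ▸ T.br hvP hc)
      (h1 _ (T.nx c hc) (T.c_r.2 ((T.c_rr hu hc).2 (iff_of_true huc h3))))
  have h4 := T.brl hvP hc
  rw [e] at h4
  refine h3 (((T.c_rr hu hc).1 ((h4.commute_iff (T.cz c hc)).1 ?_)).1 huc)
  exact commute_of_ZZ T'.zz huz (Z2_br (T.br_Z2 (T.nx v hvP) hc) hc) (Z2_br (T'.br_Z2 hw hc') hc')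

theorem card_of_unique (h : ∀ a ∈ P, a * a = 1 → a ∈ zpowers z) :
    Nat.card P = 2 ∨ Nat.card P = 8 := by
  have hZ : Nat.card (zpowers z) = 2 := by
    rw [Nat.card_zpowers, orderOf_eq_prime (by rw [pow_two, T.zz]) T.z1]
  by_cases h0 : P ≤ zpowers z
  · exact Or.inl (le_antisymm h0 T.Z_le ▸ hZ)
  have sq : ∀ a ∈ P, a ∉ zpowers z → a * a ∈ zpowers z → a * a = z := fun a ha h1 h2 =>
    ((mem_Z T.zz).1 h2).resolve_left fun e => h1 (h a ha e)
  have pw : ∀ A : Subgroup G, A ≤ P → ¬ A ≤ zpowers z → ∃ a ∈ A, a ∉ zpowers z ∧ a * a = z :=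
    fun A hA hn => by
      obtain ⟨g, hg, hg'⟩ := SetLike.not_le_iff_exists.1 hn
      obtain ⟨n, hn⟩ := T.pow (hA hg)
      obtain ⟨k, h1, h2⟩ := exists_pow_two (hn ▸ one_mem _) hg'
      exact ⟨_, pow_mem hg k, h1, sq _ (hA (pow_mem hg k)) h1 h2⟩
  obtain ⟨a, ha, h1, h2⟩ := pw (Z2 z P) Z2_le fun hn => h0 fun g hg =>
    hn (T.mem_Z2 hg fun k hk => hn (T.br_Z2 hg hk))
  have hr := T.r_Z2 ha
  have h3 : ∀ b ∈ P, b * b = z → Commute b a → a * b ∈ zpowers z := fun b hb e c =>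
    h _ (P.mul_mem ha.1 hb) (by
      rw [sq_mul ha.2.1 (br_symm (Z2_br ha hb)), commutatorElement_eq_one_iff_commute.2 c, h2, e,
        one_mul, T.zz])
  have h4 : ¬ Commute (r x a) a := fun c =>
    T.mul_r_notMem ha.1 h1 (h3 _ hr.1 (by rw [← map_mul, h2, r_eq_iff.2 T.xz]) c)
  have h5 : CR P a (r x a) ≤ zpowers z := by
    by_contra hn
    obtain ⟨b, hb, -, h6⟩ := pw _ (fun g hg => (mem_CR.1 hg).1) hn
    rw [mem_CR] at hb
    have := commute_Z hr.2.1 (h3 b hb.1 h6 hb.2.1.symm)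
    exact h4 (by simpa using this.mul_right hb.2.2.inv_right)
  let f : ∀ b ∈ Z2 z P, P →* zpowers z := fun b hb => MonoidHom.mk' (fun g => ⟨_, Z2_br hb g.2⟩)
    fun g k => Subtype.ext (by
      change ⁅b, (g : G) * k⁆ = ⁅b, (g : G)⁆ * ⁅b, (k : G)⁆
      rw [← r_eq_iff.2 (commute_Z (T.cz g g.2) (Z2_br hb k.2))]
      simp only [r_def, commutatorElement_def]; group)
  have hf : ∀ b hb (g : P), f b hb g = 1 ↔ Commute b g := fun b hb g => by
    rw [← commutatorElement_eq_one_iff_commute, Subtype.ext_iff]; rfl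
  let F := (f a ha).prod (f _ hr)
  have hk : F.ker = (zpowers z).subgroupOf P := by
    ext g
    rw [MonoidHom.mem_ker, MonoidHom.prod_apply, Prod.mk_eq_one, hf a ha, hf _ hr, mem_subgroupOf]
    exact ⟨fun e => h5 (mem_CR.2 ⟨g.2, e⟩), fun e => ⟨commute_Z ha.2.1 e, commute_Z hr.2.1 e⟩⟩
  have hs : F.range = ⊤ := by
    have e1 : ⁅a, r x a⁆ = z := anti T.zz (Z2_br ha hr.1) fun c => h4 c.symm
    have e2 : ⁅r x a, a⁆ = z := anti T.zz (Z2_br hr ha.1) h4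
    have m1 : ((1, ⟨z, mem_zpowers z⟩) : zpowers z × zpowers z) ∈ F.range :=
      ⟨⟨a, ha.1⟩, Prod.ext ((hf a ha _).2 (Commute.refl a)) (Subtype.ext e2)⟩
    have m2 : ((⟨z, mem_zpowers z⟩, 1) : zpowers z × zpowers z) ∈ F.range :=
      ⟨⟨_, hr.1⟩, Prod.ext (Subtype.ext e1) ((hf _ hr _).2 (Commute.refl _))⟩
    rw [eq_top_iff]
    rintro ⟨⟨p, hp⟩, ⟨q, hq⟩⟩ -
    rcases (mem_Z T.zz).1 hp with rfl | rfl <;> rcases (mem_Z T.zz).1 hq with rfl | rfl
    · exact one_mem _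
    · exact m1
    · exact m2
    · simpa using mul_mem m1 m2
  right
  rw [← F.ker.card_mul_index, index_ker, hs, hk, card_top, Nat.card_prod, hZ,
    Nat.card_congr (subgroupOfEquivOfLe T.Z_le).toEquiv, hZ]

end Tr

end Cfsg.Agent.Inv.Six
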