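import Mathlib
import Cfsg.Agent.Inv.SixK
import Cfsg.Agent.Inv.DDBase

/-!
The case in which the centralizer of an involution has a quotient `S₃`.
-/

set_option autoImplicit false

namespace Cfsg.Agent.Inv.Six

open Subgroup
open scoped commutatorElement

universe u
variable {G : Type u} [Group G]

/-- `2`-elements. -/
def Two (a : G) : Prop := ∃ n, a ^ 2 ^ n = 1

theorem Two.of_mem {P : Subgroup G} (h : IsPGroup 2 P) {a : G} (ha : a ∈ P) : Two a := by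
  obtain ⟨n, h⟩ := h ⟨a, ha⟩
  exact ⟨n, congrArg Subtype.val h⟩

theorem Two.of_sq {a : G} (h : Two (a * a)) : Two a := by
  obtain ⟨n, h⟩ := h
  exact ⟨n + 1, by rw [pow_succ', pow_mul, pow_two, h]⟩

theorem Two.of_inv {a : G} (h : a * a = 1) : Two a := .of_sq ⟨0, by simp [h]⟩

theorem Two.inv {a : G} (h : Two a) : Two a⁻¹ := h.imp fun n h => by rw [inv_pow, h, inv_one]

theorem Two.map (f : G ≃* G) {a : G} (h : Two a) : Two (f a) :=
  h.imp fun n h => by rw [← map_pow, h, map_one]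

theorem Two.isPGroup {a : G} (h : Two a) : IsPGroup 2 (zpowers a) := by
  obtain ⟨n, h⟩ := h
  rintro ⟨_, k, rfl⟩
  refine ⟨n, Subtype.ext ?_⟩
  change (a ^ k) ^ 2 ^ n = 1
  rw [← zpow_natCast, ← zpow_mul, mul_comm k, zpow_mul, zpow_natCast, h, one_zpow]

theorem r_inv_r (g a : G) : r g⁻¹ (r g a) = a := by simp only [r_def]; group

theorem r_r_inv (g a : G) : r g (r g⁻¹ a) = a := by simp only [r_def]; group

/-- `2`-elements of the centralizer of `z` outside `Q`. -/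
structure Out (z : G) (Q : Subgroup G) (s : G) : Prop where
  cz : Commute s z
  two : Two s
  nm : s ∉ Q

theorem Out.inv {z s : G} {Q : Subgroup G} (h : Out z Q s) : Out z Q s⁻¹ :=
  ⟨h.cz.inv_left, h.two.inv, fun h' => h.nm (inv_mem_iff.1 h')⟩

/-- The local structure. -/
structure Loc (z x : G) (Q : Subgroup G) : Prop extends Tr z x Q where
  nrm : ∀ h, Commute h z → ∀ a ∈ Q, r h a ∈ Q
  idx : ∀ a b, Out z Q a → Out z Q b → Two (a * b) → a * b ∈ Q
  inv : ∀ s, Out z Q s → ∃ q ∈ Q, ∀ a ∈ Q, r s (r x a) = r q (r x (r x (r s a)))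
  dec : ∀ s s', Out z Q s → Out z Q s' → ∃ q ∈ Q, (∀ a ∈ Q, r s' a = r q (r s a)) ∨
    (∀ a ∈ Q, r s' a = r q (r x (r s a))) ∨ ∀ a ∈ Q, r s' a = r q (r x (r x (r s a)))
  mx : ∀ P : Subgroup G, IsPGroup 2 P → (∀ a ∈ P, Commute a z) →
    (∀ h, Commute h z → ∀ a ∈ P, r h a ∈ P) → P ≤ Q
  out : ∃ s, Out z Q s

theorem cg_of_Z2 {z a g : G} {Q : Subgroup G} (ha : a ∈ Z2 z Q) (hg : g ∈ Q) :
    Cg (zpowers z) (r g a) a := (cg_r_iff ha.2.1).2 (br_symm (Z2_br ha hg))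

namespace Loc
variable {z x : G} {Q : Subgroup G} (L : Loc z x Q)
include L

theorem sq {s : G} (hs : Out z Q s) : s * s ∈ Q := by
  obtain ⟨n, h⟩ := hs.two
  exact L.idx s s hs hs ⟨n, by rw [← pow_two, ← pow_mul, mul_comm, pow_mul, h, one_pow]⟩

theorem r_Z2' {h a : G} (hh : Commute h z) (ha : a ∈ Z2 z Q) : r h a ∈ Z2 z Q :=
  L.mem_Z2 (L.nrm h hh a ha.1) fun g hg => by
    rw [← r_r_inv h g, ← map_commutatorElement]
    exact rZ hh _ (Z2_br ha (L.nrm _ hh.inv_left g hg))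

theorem linv {s a : G} (hs : Out z Q s) (ha : a ∈ Z2 z Q) :
    Cg (zpowers z) (r s (r x a)) (r x (r x (r s a))) := by
  obtain ⟨q, hq, h⟩ := L.inv s hs
  exact h a ha.1 ▸ cg_of_Z2 (L.r_Z2 (L.r_Z2 (L.r_Z2' hs.cz ha))) hq

theorem linv' {s a : G} (hs : Out z Q s) (ha : a ∈ Z2 z Q) (h : Cg (zpowers z) (r s a) a) :
    Cg (zpowers z) (r s (r x a)) (r x (r x a)) :=
  (L.linv hs ha).trans ((h.map _ (rZ L.xz)).map _ (rZ L.xz))

theorem lout {s a : G} (hs : Out z Q s) (ha : a ∈ Z2 z Q) (h : Cg (zpowers z) (r s a) a)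
    (h' : Cg (zpowers z) (r s (r x a)) (r x a)) : a ∈ zpowers z :=
  L.r_mem_Z.1 (L.fix (L.nx a ha.1) ((L.linv' hs ha h).symm.trans h'))

theorem cen_r {h e : G} (hh : Commute h z) (he : ∀ g ∈ Q, Commute e g) :
    ∀ g ∈ Q, Commute (r h e) g := fun g hg => by
  rw [← r_r_inv h g, r_commute]; exact he _ (L.nrm _ hh.inv_left g hg)

theorem cinv {s e : G} (hs : Out z Q s) (he : e ∈ Q) (hc : ∀ g ∈ Q, Commute e g) :
    r s (r x e) = r x (r x (r s e)) := by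
  obtain ⟨q, hq, h⟩ := L.inv s hs
  rw [h e he, r_eq_iff.2 (L.cen_r L.xz (L.cen_r L.xz (L.cen_r hs.cz hc)) q hq).symm]

theorem le_sylow [Finite G] (S : Sylow 2 G) (hS : ∀ g ∈ S, Commute g z) : Q ≤ S := by
  have h := IsPGroup.to_sup_of_normal_right' (H := (S : Subgroup G)) (K := Q) S.isPGroup' L.pg
    fun g hg => mem_normalizer_fintype (L.nrm g (hS g hg))
  exact le_sup_right.trans (S.is_maximal' h le_sup_left).le

theorem exists_out [Finite G] (S : Sylow 2 G) (hS : ∀ g ∈ S, Commute g z) : ∃ s ∈ S, s ∉ Q := by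
  obtain ⟨s, hs⟩ := L.out
  obtain ⟨h, hh, e⟩ := SE.exists_conj_le_sylow (H := centralizer {z}) S
    (fun g hg => mem_centralizer_singleton_iff.2 (hS g hg)) hs.two.isPGroup
    (zpowers_le.2 (mem_centralizer_singleton_iff.2 hs.cz))
  refine ⟨_, e s (mem_zpowers s), fun h' => hs.nm ?_⟩
  exact r_inv_r h s ▸ L.nrm _ (Commute.inv_left (mem_centralizer_singleton_iff.1 hh)) _ h'

variable [Finite G]

theorem noZ {s e : G} (hs : Out z Q s) (he : e ∈ Q) (hc : ∀ g ∈ Q, Commute e g) :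
    r s e ≠ e * z := fun h => by
  have hz := r_eq_iff.2 L.xz
  have h1 : r s (r x e) = r x (r x e) * z := by rw [L.cinv hs he hc, h]; simp only [map_mul, hz]
  have h2 : r s (r x (r x e)) = r x e * z := by
    rw [L.cinv hs (L.nx e he) (L.cen_r L.xz hc), h1]; simp only [map_mul, hz, L.rrr]
  have h3 := r_eq_iff.2 (commute_Z hs.cz (L.norm he))
  rw [map_mul, map_mul, h, h1, h2] at h3
  have c1 := (L.cz _ (L.nx _ he)).eq
  have c2 := (L.cz _ (L.nx _ (L.nx _ he))).eq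
  have c3 := (L.cen_r L.xz hc _ (L.nx _ (L.nx _ he))).eq
  refine L.z1 (mul_left_cancel (a := e * r x e * r x (r x e)) ?_)
  calc _ = e * (r x e * r x (r x e)) * (z * z) * z := by rw [L.zz]; group
    _ = e * z * (r x (r x e) * z) * (r x e * z) := by
      rw [c3, mul_assoc e z, ← mul_assoc z, ← c2]
      simp only [mul_assoc]
      rw [← mul_assoc (r x e), c1, mul_assoc, ← mul_assoc (r x e), c1, mul_assoc, c1]
    _ = _ := by rw [h3, mul_one]

/-- The involution `z` is the only central involution of `Q`. -/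
theorem uc (S : Sylow 2 G) (hS : ∀ g ∈ S, Commute g z)
    (one : ∀ y : G, y * y = 1 → y ≠ 1 → IsConj z y) : Uc z Q := by
  intro e₀ he₀ h₀ hc₀
  by_contra hn
  have hQ := L.le_sylow S hS
  have ou : ∀ g ∈ S, g ∉ Q → Out z Q g := fun g hg h => ⟨hS g hg, .of_mem S.isPGroup' hg, h⟩
  have ix : ∀ g ∈ S, ∀ k ∈ S, g ∉ Q → k ∉ Q → g * k ∈ Q := fun g hg k hk h1 h2 =>
    L.idx g k (ou g hg h1) (ou k hk h2) (.of_mem S.isPGroup' (S.mul_mem hg hk))
  obtain ⟨s, hs, hsQ⟩ := L.exists_out S hS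
  obtain ⟨e, he, h1, hc, h2⟩ : ∃ e ∈ Q, e * e = 1 ∧ (∀ g ∈ Q, Commute e g) ∧ r s e ≠ e := by
    by_contra! h
    have h1 := h _ (L.nx _ he₀) (by rw [← map_mul, h₀, map_one]) (L.cen_r L.xz hc₀)
    rw [L.cinv (ou s hs hsQ) he₀ hc₀, h _ he₀ h₀ hc₀] at h1
    exact hn (L.fx _ he₀ ((r x).injective h1))
  have h3 : ∀ g ∈ S, g ∉ Q → r g e = r s e := fun g hg h => by
    have := r_eq_iff.2 (hc _ (ix _ (S.inv_mem hs) g hg (fun h => hsQ (inv_mem_iff.1 h)) h)).symm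
    conv_rhs => rw [← this, r_r, mul_inv_cancel_left]
  have hc' := L.cen_r (hS s hs) hc
  set y := r s e * e with hy
  have h4 : ∀ g ∈ S, g ∉ Q → ⁅g, e⁆ = y := fun g hg h => by
    rw [hy, ← h3 g hg h, r_br, mul_assoc, h1, mul_one]
  have yQ : y ∈ Q := Q.mul_mem (L.nrm s (hS s hs) e he) he
  have yy : y * y = 1 := by
    rw [hy, mul_assoc, ← mul_assoc e, (hc' e he).eq.symm, mul_assoc, h1, mul_one, ← map_mul, h1, map_one]
  have y1 : y ≠ 1 := fun h => h2 (by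
    rw [eq_inv_of_mul_eq_one_left h, inv_eq_of_mul_eq_one_right h1])
  have yz : y ≠ z := fun h => L.noZ (ou s hs hsQ) he hc (by
    rw [(L.cz e he).eq, ← h, hy, mul_assoc, h1, mul_one])
  have yS : ∀ g ∈ S, Commute g y := fun g hg => by
    by_cases h : g ∈ Q
    · exact ((hc' g h).mul_left (hc g h)).symm
    · rw [← r_eq_iff, hy, map_mul, r_r, r_eq_iff.2 (hc _ (ix g hg s hs h hsQ)).symm, h3 g hg h,
        (hc' e he).eq]
  obtain ⟨h, hh, ho, hz⟩ := DD.burnside_odd S (x := z) (y := y)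
    ⟨hQ L.zm, fun g hg => (hS g hg).eq⟩ ⟨hQ yQ, fun g hg => (yS g hg).eq⟩ (one y yy y1)
  rw [← r_def] at hz
  have n1 : ∀ g ∈ S, r h g ∈ S := fun g hg => (mem_normalizer_iff.1 hh g).1 hg
  have n2 : ∀ g ∈ S, r h⁻¹ g ∈ S := fun g hg => (mem_normalizer_iff.1 (inv_mem hh) g).1 hg
  have h5 : ∀ g ∈ S, Commute g e → g ∈ Q := fun g hg c => by_contra fun h =>
    y1 (h4 g hg h ▸ commutatorElement_eq_one_iff_commute.2 c)
  have h6 : ∀ g ∈ S, ⁅g, r h⁻¹ e⁆ ∈ zpowers z := fun g hg => by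
    rw [← r_inv_r h g, ← map_commutatorElement]
    by_cases h' : r h g ∈ Q
    · rw [commutatorElement_eq_one_iff_commute.2 (hc _ h').symm, map_one]; exact one_mem _
    · rw [h4 _ (n1 g hg) h', ← hz, r_inv_r]; exact mem_zpowers z
  have eS := hQ he
  by_cases h7 : r h⁻¹ e ∈ Q
  swap
  · have := br_symm (h6 e eS)
    rw [h4 _ (n2 e eS) h7, mem_Z L.zz] at this
    exact this.elim y1 yz
  have h8 : r h e ∈ Q := h5 _ (n1 e eS) (by
    rw [← r_commute h⁻¹, r_inv_r]; exact hc _ h7)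
  have h9 : ∀ g, Commute (r h e) g ↔ Commute (r h⁻¹ g) e := fun g => by
    rw [← r_commute h⁻¹, r_inv_r, Commute.symm_iff]
  by_cases h10 : ∀ g ∈ Q, Commute (r h e) g
  · have nq : h⁻¹ ∈ normalizer (Q : Set G) :=
      mem_normalizer_fintype fun g hg => h5 _ (n2 g (hQ hg)) ((h9 g).1 (h10 g hg))
    have hc2 : ∀ g ∈ Q, Commute (r h⁻¹ e) g := fun g hg => by
      rw [← r_commute h, r_r_inv]
      exact hc _ ((mem_normalizer_iff.1 (inv_mem_iff.1 nq) g).1 hg)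
    have h11 : ∀ g ∈ S, Commute g (r h⁻¹ e) := fun g hg => by
      by_cases h' : g ∈ Q
      · exact (hc2 g h').symm
      · rcases ((cg_r_iff (L.cz _ h7)).2 (h6 g hg)).cases L.zz with h'' | h''
        · exact r_eq_iff.1 h''
        · exact absurd h'' (L.noZ (ou g hg h') h7 hc2)
    have := (r_commute h).2 (h11 _ (n2 s hs))
    rw [r_r_inv, r_r_inv] at this
    exact h2 (r_eq_iff.2 this)
  push Not at h10
  obtain ⟨g, hg, h10⟩ := h10
  have h11 : ∀ g ∈ Q, ¬ Commute (r h e) g → r h⁻¹ g ∉ Q := fun g _ h1 h2 =>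
    h1 ((h9 g).2 (hc _ h2).symm)
  have h12 := L.Z2_of_index h8 fun g hg k hk h1 h2 => (h9 _).2 (by
    rw [map_mul]
    exact (hc _ (ix _ (n2 g (hQ hg)) _ (n2 k (hQ hk)) (h11 g hg h1) (h11 k hk h2))).symm)
  have h13 := anti L.zz (br_symm (Z2_br h12 hg)) fun c => h10 c.symm
  rw [← r_r_inv h g, ← map_commutatorElement, h4 _ (n2 g (hQ hg)) (h11 g hg h10), ← hz, r_r,
    r_eq_iff] at h13
  obtain ⟨k, hk⟩ := ho
  have h14 : h = ((h * h) ^ k)⁻¹ := by
    rw [eq_inv_iff_mul_eq_one, ← pow_two, ← pow_mul, ← pow_succ', ← hk, pow_orderOf_eq_one]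
  exact yz (by rw [← hz, r_eq_iff, h14]; exact (h13.pow_left k).inv_left)

end Loc

end Cfsg.Agent.Inv.Six
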