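import Mathlib
import Cfsg.Agent.Inv.SixLoc
import Cfsg.Agent.Ch.FT3Loc

/-!
Two involutions `z`, `u`, each in the second centre of the `2`-core of the centralizer of the other.
-/

set_option autoImplicit false

namespace Cfsg.Agent.Inv.Six

open Subgroup
open scoped commutatorElement

universe u
variable {G : Type u} [Group G]

/-- An involution is the only non-trivial `2`-element commuting with it and with a commuting
element of order three. -/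
def H3 (G : Type u) [Group G] : Prop :=
  ∀ e y g : G, e * e = 1 → e ≠ 1 → orderOf y = 3 → Commute y e → Commute g e → Commute y g →
    Two g → g ∈ zpowers e

/-- Elements normalizing `V` and commuting with `w` modulo `V`. -/
def CN (V : Subgroup G) (w : G) : Subgroup G where
  carrier := {g | g ∈ normalizer (V : Set G) ∧ ⁅g, w⁆ ∈ V}
  one_mem' := ⟨one_mem _, by simp⟩
  mul_mem' := fun {a b} ha hb => ⟨mul_mem ha.1 hb.1, by
    have e : ⁅a * b, w⁆ = a * ⁅b, w⁆ * a⁻¹ * ⁅a, w⁆ := by simp only [commutatorElement_def]; group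
    exact e ▸ mul_mem ((mem_normalizer_iff.1 ha.1 _).1 hb.2) ha.2⟩
  inv_mem' := fun {a} ha => ⟨inv_mem ha.1, by
    have e : ⁅a⁻¹, w⁆ = a⁻¹ * ⁅w, a⁆ * a⁻¹⁻¹ := by simp only [commutatorElement_def]; group
    exact e ▸ (mem_normalizer_iff.1 (inv_mem ha.1) _).1 (br_symm ha.2)⟩

theorem cg_r {V : Subgroup G} {g a : G} (ha : ∀ v ∈ V, a⁻¹ * v * a ∈ V) (h : ⁅g, a⁆ ∈ V) :
    Cg V (r g a) a := by
  rw [Cg, r_br, ← mul_assoc]; exact ha _ h

theorem mem_normalizer_of [Finite G] {V : Subgroup G} {g : G} (h : ∀ v ∈ V, g⁻¹ * v * g ∈ V) :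
    g ∈ normalizer (V : Set G) :=
  inv_mem_iff.1 (mem_normalizer_fintype fun v hv => by simpa using h v hv)

theorem Tr.br_CR {z x u w g k : G} {P : Subgroup G} (T : Tr z x P) (hu : u ∈ Z2 z P)
    (hw : w ∈ Z2 z P) (hg : g ∈ P) (hk : k ∈ P) : ⁅g, k⁆ ∈ CR P u w :=
  mem_CR.2 ⟨br_mem hg hk, T.c_br hu hg hk, T.c_br hw hg hk⟩

theorem Tr.norm_CR [Finite G] {z x u w : G} {P : Subgroup G} (T : Tr z x P) (hu : u ∈ Z2 z P)
    (hw : w ∈ Z2 z P) : P ≤ normalizer (CR P u w : Set G) := fun g hg =>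
  mem_normalizer_fintype fun a ha => by
    rw [← r_def, r_br]; exact mul_mem (T.br_CR hu hw hg (mem_CR.1 ha).1) ha

/-- The symmetric configuration. -/
structure Pr (z x : G) (Q : Subgroup G) (u y : G) (Q' : Subgroup G) : Prop where
  L : Loc z x Q
  L' : Loc u y Q'
  U : Uc z Q
  U' : Uc u Q'
  hu : u ∈ Z2 z Q
  hz : z ∈ Z2 u Q'
  huz : u ∉ zpowers z

namespace Pr
variable [Finite G] {z x u y : G} {Q Q' : Subgroup G} (p : Pr z x Q u y Q')
include p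

omit [Finite G] in
theorem symm : Pr u y Q' z x Q :=
  ⟨p.L', p.L, p.U', p.U, p.hz, p.hu, notMem_Z_symm p.L.z1 p.L'.zz p.huz⟩

omit [Finite G] in
theorem vv : r y z * r y z = 1 := by rw [← map_mul, p.L.zz, map_one]

omit [Finite G] in
theorem hv : r y z ∈ Z2 u Q' := p.L'.r_Z2 p.hz

omit [Finite G] in
theorem out' {a : G} (ha : a ∈ Q) (h : Commute u a) (h' : a ∉ Q') : Out u Q' a :=
  ⟨h.symm, .of_mem p.L.pg ha, h'⟩

theorem cv {a : G} (ha : a ∈ Q) (h : Commute u a) (h' : a ∉ Q') :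
    ⁅r y z, a⁆ = z ∨ ⁅r y z, a⁆ = u * z := by
  have h1 := (p.L'.linv' (p.out' ha h h') p.hz (.of_eq (r_eq_iff.2 (p.L.cz a ha)))).trans
    (p.L'.rr_cg p.hz.1)
  have e : ⁅r y z, a⁆ = r y z * (r a (r y z))⁻¹ := by rw [commutatorElement_def, r_def a]; group
  have c := p.L'.inv_comm p.hz.1 p.L.zz
  rcases h1.cases p.L'.zz with h2 | h2
  · left; rw [e, h2, inv_inv, ← mul_assoc, ← c.eq, mul_assoc, p.vv, mul_one]
  · right
    rw [e, h2, mul_inv_rev, inv_inv, inv_eq_of_mul_eq_one_right p.L'.zz, ← mul_assoc, p.hv.2.1.eq,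
      c.eq, mul_assoc, ← mul_assoc (r y z), p.vv, one_mul]

theorem h1 {a : G} (ha : a ∈ Q) (h : Commute u a) :
    ⁅r y z, a⁆ ∈ zpowers z ∨ Cg (zpowers z) ⁅r y z, a⁆ u := by
  by_cases h' : a ∈ Q'
  · rcases (mem_Z p.L'.zz).1 (Z2_br p.hv h') with e | e
    · exact Or.inl (e ▸ one_mem _)
    · exact Or.inr (.of_eq e)
  · rcases p.cv ha h h' with e | e
    · exact Or.inl (e.symm ▸ mem_zpowers z)
    · exact Or.inr (e.symm ▸ Cg.mul_mem (mem_zpowers z) u)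

theorem h2 {a : G} (ha : a ∈ Q) (h : Commute u a) (h' : Commute (r y z) a) : a ∈ Q' := by
  by_contra hn
  rcases p.cv ha h hn with e | e <;> rw [commutatorElement_eq_one_iff_commute.2 h'] at e
  · exact p.L.z1 e.symm
  · exact p.huz (eq_inv_of_mul_eq_one_left e.symm ▸ inv_mem (mem_zpowers z))

theorem case_out (hv : r y z ∉ Q) : CR Q u (r x u) ≤ Z2 z Q := by
  have L := p.L
  have ho : Out z Q (r y z) := ⟨(p.L'.inv_comm p.hz.1 L.zz).symm, .of_inv p.vv, hv⟩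
  have h1 : ∀ a ∈ CR Q u (r x u), Cg (Z2 z Q) (r (r y z) a) a := fun a ha => by
    rw [mem_CR] at ha
    refine cg_r (L.Z2_norm ha.1) ((p.h1 ha.1 ha.2.1).elim (fun h => L.Z_le_Z2 h) fun h => ?_)
    exact (h.mem_iff L.Z_le_Z2).2 p.hu
  obtain ⟨q, hq, h⟩ := L.inv _ ho
  intro a ha
  have ha' := (mem_CR.1 ha).1
  have hb := L.nx _ (L.nx _ (L.nrm _ ho.cz a ha'))
  have h2 := h1 _ (L.r_CR p.hu ha)
  rw [h a ha'] at h2
  have h3 := (((h1 a ha).map _ fun _ => L.r_Z2).map _ fun _ => L.r_Z2).symm.trans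
    ((cg_r (L.Z2_norm hb) (L.br_Z2 hq hb)).symm.trans h2)
  have h4 := L.coprime (L.Z_le_Z2 (mem_zpowers z)) (fun _ => L.r_Z2) (L.nx a ha')
    (L.Z2_norm (L.nx a ha')) h3
  exact L.rrr a ▸ L.r_Z2 (L.r_Z2 h4)

section In
variable (hv : r y z ∈ Q) (hw : r x u ∈ Q')
include hv hw

theorem K {c : G} (hc : c ∈ Q) (hc' : c ∈ Q') : Commute (r y z) c :=
  p.L.lemK p.L'.toTr p.hu p.huz p.hv p.vv hv
    (commute_of_ZZ p.L'.zz p.huz (Z2_br (p.L.r_Z2 p.hu) hv) (br_symm (Z2_br p.hv hw)))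
    (fun _ => p.h1) (fun _ => p.h2) hc hc'

theorem mem_R {a : G} : a ∈ CR Q u (r x u) ↔ a ∈ Q ∧ a ∈ Q' := by
  rw [mem_CR]
  refine ⟨fun h => ⟨h.1, by_contra fun hn => ?_⟩,
    fun h => ⟨h.1, (p.L'.cz a h.2).symm, p.symm.K hw hv h.2 h.1⟩⟩
  obtain ⟨c, hc, h1, h2⟩ := p.L.exists_c p.U p.hu p.huz
  have h3 : c ∉ Q' := fun h' => h2 (p.symm.K hw hv h' hc)
  have h4 := p.L'.idx a c (p.out' h.1 h.2.1 hn) (p.out' hc h1 h3) (.of_mem p.L.pg (Q.mul_mem h.1 hc))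
  exact h2 (by simpa using h.2.2.inv_right.mul_right (p.symm.K hw hv h4 (Q.mul_mem h.1 hc)))

theorem v_mem : r y z ∈ V3 z u (r x u) := by
  have L := p.L
  have hR : ∀ a ∈ CR Q u (r x u), Commute (r y z) a := fun a ha =>
    p.K hv hw ((p.mem_R hv hw).1 ha).1 ((p.mem_R hv hw).1 ha).2
  obtain ⟨c, hc, h1, h2⟩ := L.exists_c p.U p.hu p.huz
  rcases p.cv hc h1 fun h' => h2 (p.symm.K hw hv h' hc) with e | e
  · refine L.mem_V p.U p.hu p.huz (L.Z2_of_gen p.hu hc h1 h2 hv (fun a ha => ?_)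
      (e.symm ▸ mem_zpowers z)) hR
    rw [commutatorElement_eq_one_iff_commute.2 (hR a ha)]; exact one_mem _
  exfalso
  have hg := L.nx c hc
  have h3 : Cg (zpowers z) ⁅r y z, r x c⁆ (r x (r x u)) := (L.br hv hc).trans (by
    rw [e]; exact ((Cg.mul_mem (mem_zpowers z) u).map _ (rZ L.xz)).map _ (rZ L.xz))
  have h4 := commutatorElement_eq_one_iff_commute.2 (hR _ (mem_CR.2 ⟨Q.mul_mem hg hg,
    (L.cmul p.hu hg hg).2 Iff.rfl, (L.cmul (L.r_Z2 p.hu) hg hg).2 Iff.rfl⟩))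
  have h5 : ⁅r y z, r x c⁆ * ⁅r y z, r x c⁆ = 1 := by
    have h6 : r x (r x u) * r x (r x u) = 1 := by rw [← map_mul, ← map_mul, p.L'.zz, map_one, map_one]
    rcases h3.cases L.zz with h | h <;> rw [h]
    · exact h6
    · rw [mul_assoc, ← mul_assoc z, ← (L.cz _ (L.nx _ (L.nx _ p.hu.1))).eq, mul_assoc, L.zz, mul_one, h6]
  have e2 : ⁅r y z, r x c * r x c⁆ = ⁅r y z, r x c⁆ * r (r x c) ⁅r y z, r x c⁆ := by
    simp only [commutatorElement_def, r_def (r x c)]; group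
  rw [e2, ← h5, mul_right_inj, r_eq_iff] at h4
  exact h2 ((r_commute x).1 ((h3.commute_iff (L.cz _ hg)).1 h4.symm))

theorem V_eq : V3 z u (r x u) = V3 u z (r y z) :=
  le_antisymm (V3_le.2 ⟨(mem_V3 _ _ _).2.1, (mem_V3 _ _ _).1, p.symm.v_mem hw hv⟩)
    (V3_le.2 ⟨(mem_V3 _ _ _).2.1, (mem_V3 _ _ _).1, p.v_mem hv hw⟩)

theorem R_eq : CR Q u (r x u) = CR Q' z (r y z) := by
  ext a; rw [p.mem_R hv hw, p.symm.mem_R hw hv, and_comm]

omit hv hw in
theorem norm_V : Q ≤ normalizer (V3 z u (r x u) : Set G) := fun _ hg =>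
  mem_normalizer_of (Tr.norm_of_le (mem_V3 _ _ _).1 (p.L.V_le_Z2 p.hu) hg)

theorem case_in (h3 : H3 G) : CR Q u (r x u) ≤ V3 z u (r x u) := by
  have L := p.L
  have L' := p.L'
  have c0 : Commute u z := p.hu.2.1
  have hu1 := L.r_Z2 p.hu
  have c1 : Commute u (r x u) := L.inv_comm p.hu.1 L'.zz
  obtain ⟨m1, m2, m3⟩ := mem_V3 z u (r x u)
  have hVR : V3 z u (r x u) ≤ CR Q u (r x u) := V3_le.2 ⟨mem_CR.2 ⟨L.zm, c0, hu1.2.1⟩,
    mem_CR.2 ⟨p.hu.1, .refl _, c1.symm⟩, mem_CR.2 ⟨hu1.1, c1, .refl _⟩⟩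
  have pR : IsPGroup 2 (CR Q u (r x u)) := L.pg.to_le fun a ha => (mem_CR.1 ha).1
  have nR := L.norm_CR p.hu hu1
  have nR' : Q' ≤ normalizer (CR Q u (r x u) : Set G) := p.R_eq hv hw ▸ L'.norm_CR p.hz p.hv
  have nV' : Q' ≤ normalizer (V3 z u (r x u) : Set G) := p.V_eq hv hw ▸ p.symm.norm_V
  by_contra hn
  obtain ⟨c, hc, h1, h2⟩ := L.exists_c p.U p.hu p.huz
  obtain ⟨c', hc', h1', h2'⟩ := L'.exists_c p.U' p.hz p.symm.huz
  obtain ⟨w, hw1, hw2, -, hw3, hw4⟩ := GT.PG.exists_step (H := Q ⊔ zpowers c') pR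
    (L.pg.to_sup_of_normal_left' (Two.of_mem L'.pg hc').isPGroup
      (zpowers_le.2 (mem_normalizer_fintype (L.nrm c' h1'.symm))))
    (sup_le nR (zpowers_le.2 (nR' hc'))) (sup_le p.norm_V (zpowers_le.2 (nV' hc')))
    (lt_of_le_not_ge hVR hn)
  have hb := L'.nx c' hc'
  have ha := L.nx c hc
  have k1 : r x c * r y c' ∈ CN (V3 z u (r x u)) w := by
    refine mul_mem ⟨p.norm_V ha, br_symm (hw4 _ (mem_sup_left ha))⟩ ⟨nV' hb, ?_⟩
    refine ((L'.brl hc' ((p.mem_R hv hw).1 hw1).2).mem_iff (zpowers_le.2 m2)).2 ?_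
    have := br_symm (hw4 _ (mem_sup_right (mem_zpowers c')))
    rw [p.V_eq hv hw] at this ⊢
    exact L'.r_V p.hz.1 _ (L'.r_V p.hz.1 _ this)
  have k2 : r x c * r y c' ∈ normalizer (CR Q u (r x u) : Set G) := mul_mem (nR ha) (nR' hb)
  have a1 : r (r x c) u = z * u := by
    rw [r_br, anti L.zz (br_symm (Z2_br p.hu ha)) fun h => by
      have := h.symm; rw [L.c_r, L.c_rr p.hu hc] at this; tauto]
  have a2 : r (r x c) (r x u) = r x u := r_eq_iff.2 ((r_commute x).2 h1.symm)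
  have a3 : r (r x c) z = z := r_eq_iff.2 (L.cz _ ha)
  have b1 : r (r y c') z = u * z := by
    rw [r_br, anti L'.zz (br_symm (Z2_br p.hz hb)) fun h => by
      have := h.symm; rw [L'.c_r, L'.c_rr p.hz hc'] at this; tauto]
  have b2 : r (r y c') u = u := r_eq_iff.2 (L'.cz _ hb)
  set k := r x c * r y c' with hk
  have kz : r k z = u := by
    rw [← r_r, b1, map_mul, a1, a3, mul_assoc, c0.eq, ← mul_assoc, L.zz, one_mul]
  have ku : r k u = z * u := by rw [← r_r, b2, a1]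
  obtain ⟨e, he, he1, he2, he3⟩ : ∃ e ∈ V3 z u (r x u), e * e = 1 ∧ e ≠ 1 ∧ Commute k e := by
    have h5 : r x u ∉ zpowers z := fun h => p.huz (L.r_mem_Z.1 h)
    have h6 : r x u * r x u = 1 := p.symm.vv
    rcases (mem_Z L'.zz).1 (br_symm (Z2_br (L'.V_le_Z2 p.hz (p.V_eq hv hw ▸ m3)) hb)) with h | h
    · refine ⟨_, m3, h6, fun e => h5 (e ▸ one_mem _), r_eq_iff.1 ?_⟩
      rw [← r_r, r_br (r y c'), h, one_mul, a2]
    · refine ⟨_, mul_mem m1 m3, ?_, fun e => h5 ?_, r_eq_iff.1 ?_⟩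
      · rw [mul_assoc, ← mul_assoc (r x u), hu1.2.1.eq, mul_assoc, h6, mul_one, L.zz]
      · exact eq_inv_of_mul_eq_one_right e ▸ inv_mem (mem_zpowers z)
      · rw [map_mul, kz, ← r_r, r_br (r y c'), h, map_mul, a1, a2, ← mul_assoc, ← mul_assoc, c0.eq,
          mul_assoc z, L'.zz, mul_one]
  have h4 : 3 ∣ orderOf k := by
    by_contra h
    have h5 : k ^ 3 ∈ centralizer {z} := mem_centralizer_singleton_iff.2 (r_eq_iff.1 (by
      rw [pow_three, ← r_r k, ← r_r k k, kz, ku, map_mul, kz, ku, ← mul_assoc, c0.eq, mul_assoc, L'.zz,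
        mul_one])).eq
    have h6 := Ch.FT3.mem_of_coprime ((Nat.Prime.coprime_iff_not_dvd Nat.prime_three).2 h) h5
      (pow_orderOf_eq_one k ▸ one_mem _)
    rw [r_eq_iff.2 (mem_centralizer_singleton_iff.1 h6)] at kz
    exact p.huz (kz ▸ mem_zpowers z)
  have h5 := orderOf_pow_orderOf_div (orderOf_pos k).ne' h4
  set t := k ^ (orderOf k / 3)
  have t1 : t ∈ CN (V3 z u (r x u)) w := pow_mem k1 _
  have T : Tr e t (CR Q u (r x u)) :=
    ⟨pR, hVR he, he1, he2, fun a ha => (L.V_commute ha e he).symm, h5 ▸ pow_orderOf_eq_one t,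
      he3.pow_left _, fun a ha => (mem_normalizer_iff.1 (pow_mem k2 _) a).1 ha,
      fun a ha h => h3 e t a he1 he2 h5 (he3.pow_left _) (L.V_commute ha e he).symm (r_eq_iff.1 h)
        (.of_mem pR ha)⟩
  have nw : ∀ v ∈ V3 z u (r x u), w⁻¹ * v * w ∈ V3 z u (r x u) := fun v hv => by
    simpa using (mem_normalizer_iff.1 (inv_mem hw3) v).1 hv
  exact hw2 (T.coprime he (fun v hv => (mem_normalizer_iff.1 t1.1 v).1 hv) hw1 nw (cg_r nw t1.2))

end In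

theorem ex (h3 : H3 G) : Q ≤ Z2 z Q ∨ Q' ≤ Z2 u Q' := by
  by_cases hv : r y z ∈ Q
  · by_cases hw : r x u ∈ Q'
    · exact Or.inl (p.L.ex_of_le p.U p.hu p.huz ((p.case_in hv hw h3).trans (p.L.V_le_Z2 p.hu)))
    · exact Or.inr (p.L'.ex_of_le p.U' p.hz p.symm.huz (p.symm.case_out hw))
  · exact Or.inl (p.L.ex_of_le p.U p.hu p.huz (p.case_out hv))

end Pr

end Cfsg.Agent.Inv.Six
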