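import Mathlib
import Cfsg.Agent.Inv.SixPair
import Cfsg.Agent.Perm.RankOneNilp

/-!
If all involution centralizers have a quotient `S₃`, their `2`-cores have only one involution.
-/

set_option autoImplicit false

namespace Cfsg.Agent.Inv.Six

open Subgroup
open scoped commutatorElement Pointwise

universe u
variable {G : Type u} [Group G]

/-- Involutions. -/
def In (a : G) : Prop := a * a = 1 ∧ a ≠ 1

theorem In.map {a : G} (h : In a) (f : G ≃* G) : In (f a) :=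
  ⟨by rw [← map_mul, h.1, map_one], fun e => h.2 (f.map_eq_one_iff.1 e)⟩

theorem In.of_notMem {a : G} {A : Subgroup G} (h : a * a = 1) (h' : a ∉ A) : In a :=
  ⟨h, fun e => h' (e ▸ one_mem _)⟩

theorem in_iff {a : G} : In a ↔ orderOf a = 2 :=
  ⟨fun h => orderOf_eq_prime (by rw [pow_two, h.1]) h.2,
    fun h => ⟨by rw [← pow_two, ← h, pow_orderOf_eq_one], fun e => by simp [e] at h⟩⟩

/-- All involutions are conjugate. -/
def One (G : Type u) [Group G] : Prop := ∀ a b : G, In a → In b → ∃ g, r g a = b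

theorem r_mem_Z_iff {g a b : G} : r g b ∈ zpowers (r g a) ↔ b ∈ zpowers a := by
  rw [← MonoidHom.coe_coe, ← MonoidHom.map_zpowers]
  exact mem_map_iff_mem (r g).injective

theorem One.sylow [Finite G] (h : One G) {a : G} (ha : In a) {T : Subgroup G} (hT : IsPGroup 2 T)
    (hc : ∀ g ∈ T, Commute g a) : ∃ S : Sylow 2 G, T ≤ S ∧ ∀ g ∈ S, Commute g a := by
  obtain ⟨S, hS⟩ := (Two.of_inv ha.1).isPGroup.exists_le_sylow
  have := S.isPGroup'.isNilpotent
  obtain ⟨z, hz, h1, h2⟩ := Perm.RankOne.exists_central_involution (P := S) (even_iff_two_dvd.2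
    (by simpa [in_iff.1 ha] using (S : Subgroup G).orderOf_dvd_natCard (hS (mem_zpowers a))))
  obtain ⟨g, rfl⟩ := h z a ⟨congrArg Subtype.val h2, fun e => h1 (Subtype.ext e)⟩ ha
  have key : ∀ (S : Sylow 2 G) (g k : G), k ∈ MulAut.conj g • S ↔ r g⁻¹ k ∈ S := fun S g k => by
    change k ∈ MulAut.conj g • (S : Subgroup G) ↔ _
    rw [mem_pointwise_smul_iff_inv_smul_mem, ← map_inv]; rfl
  have h3 : ∀ k ∈ MulAut.conj g • S, Commute k (r g z) := fun k hk => by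
    rw [← r_r_inv g k, r_commute]
    exact congrArg Subtype.val (mem_center_iff.1 hz ⟨_, (key S g k).1 hk⟩)
  obtain ⟨c, hc1, hc2⟩ := SE.exists_conj_le_sylow (H := centralizer {r g z}) (MulAut.conj g • S)
    (fun k hk => mem_centralizer_singleton_iff.2 (h3 k hk)) hT
    fun k hk => mem_centralizer_singleton_iff.2 (hc k hk)
  refine ⟨MulAut.conj c⁻¹ • MulAut.conj g • S, fun k hk => (key _ _ k).2 (by
    rw [inv_inv]; exact hc2 k hk), fun k hk => ?_⟩
  have := h3 _ ((key _ _ k).1 hk)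
  rwa [inv_inv, ← r_eq_iff.2 (show Commute c (r g z) from mem_centralizer_singleton_iff.1 hc1),
    r_commute] at this

theorem index_pair [Finite G] {z u : G} (S S' : Sylow 2 G) (hz : In z) (hS : ∀ g ∈ S, Commute g z)
    (hu : ∀ g ∈ S, ⁅u, g⁆ ∈ zpowers z) (hn : ∃ g ∈ S, ¬ Commute u g)
    (hT : (S : Subgroup G) ⊓ centralizer {u} ≤ S') :
    ∀ g ∈ S', ∀ k ∈ S', g ∉ (S : Subgroup G) ⊓ centralizer {u} →
      k ∉ (S : Subgroup G) ⊓ centralizer {u} → g * k ∈ (S : Subgroup G) ⊓ centralizer {u} := by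
  set T := (S : Subgroup G) ⊓ centralizer {u} with hTd
  have m : ∀ g, g ∈ T ↔ g ∈ S ∧ Commute u g := fun g => by
    rw [hTd, mem_inf, mem_centralizer_singleton_iff, Commute.symm_iff]; rfl
  obtain ⟨a, ha, ha'⟩ := hn
  have h1 : T.relIndex S = 2 := relIndex_eq_two_iff_exists_notMem_and.2
    ⟨a, ha, fun h => ha' ((m a).1 h).2, fun b hb => by
      by_cases h : Commute u b
      · exact Or.inr ((m b).2 ⟨hb, h⟩)
      · exact Or.inl ((m _).2 ⟨S.mul_mem hb ha, index_commute hz.1 hz.2 hS hu hb ha h ha'⟩)⟩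
  have h2 : T.relIndex S' = 2 := by
    have e1 := relIndex_mul_index (show T ≤ S from inf_le_left)
    have e2 := relIndex_mul_index hT
    have e3 : (S' : Subgroup G).index = (S : Subgroup G).index := by
      refine Nat.eq_of_mul_eq_mul_left (Nat.card_pos (α := S)) ?_
      rw [card_mul_index, Nat.card_congr (S.equiv S').toEquiv, card_mul_index]
    rw [e3, ← e1, h1] at e2
    exact Nat.eq_of_mul_eq_mul_right (Nat.pos_of_ne_zero index_ne_zero_of_finite) e2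
  exact fun g hg k hk h3 h4 =>
    (mul_mem_iff_of_index_two h2 (a := ⟨g, hg⟩) (b := ⟨k, hk⟩)).2 (iff_of_false h3 h4)

namespace Loc
variable [Finite G] {z x : G} {Q : Subgroup G} (L : Loc z x Q)
include L

theorem exists_u (S : Sylow 2 G) (hS : ∀ g ∈ S, Commute g z) {w : G} (hw : w ∈ Q) (h1 : w * w = 1)
    (h2 : w ∉ zpowers z) : ∃ u ∈ Z2 z Q, u * u = 1 ∧ u ∉ zpowers z ∧ ∀ g ∈ S, ⁅u, g⁆ ∈ zpowers z := by
  obtain ⟨u, hu, h3, h4⟩ := L.toTr.exists_u hw h1 h2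
  obtain ⟨s, hs, hsQ⟩ := L.exists_out S hS
  have ou : ∀ g ∈ S, g ∉ Q → Out z Q g := fun g hg h => ⟨hS g hg, .of_mem S.isPGroup' hg, h⟩
  have o := ou s hs hsQ
  have k1 : ∀ a ∈ Z2 z Q, Cg (zpowers z) (r s a) a → ∀ g ∈ S, ⁅a, g⁆ ∈ zpowers z :=
    fun a ha h g hg => by
      by_cases h' : g ∈ Q
      · exact Z2_br ha h'
      have := (cg_of_Z2 ha (L.idx _ g o.inv (ou g hg h')
        (.of_mem S.isPGroup' (S.mul_mem (S.inv_mem hs) hg)))).map _ (rZ o.cz)
      rw [r_r, mul_inv_cancel_left] at this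
      exact br_symm ((cg_r_iff ha.2.1).1 (this.trans h))
  have k2 : ∀ a ∈ Z2 z Q, a * a = 1 → a ∉ zpowers z → Commute a (r s a) →
      ∃ u ∈ Z2 z Q, u * u = 1 ∧ u ∉ zpowers z ∧ ∀ g ∈ S, ⁅u, g⁆ ∈ zpowers z := fun a ha h1 h2 c => by
    have hb := L.r_Z2' o.cz ha
    by_cases h : a * r s a ∈ zpowers z
    · exact ⟨a, ha, h1, h2, k1 a ha (by rwa [Cg, inv_eq_of_mul_eq_one_right h1])⟩
    refine ⟨_, mul_mem ha hb, ?_, h, k1 _ (mul_mem ha hb) ?_⟩
    · rw [mul_assoc, ← mul_assoc (r s a), ← c.eq, mul_assoc, ← map_mul, h1, map_one, mul_one, h1]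
    · rw [map_mul, r_r, c.eq]; exact (cg_of_Z2 ha (L.sq o)).mul_left _
  have hr := L.r_Z2 hu
  have hw := L.r_Z2' o.cz hu
  have i1 : r x u * r x u = 1 := by rw [← map_mul, h3, map_one]
  by_cases c0 : Commute u (r s u)
  · exact k2 u hu h3 h4 c0
  by_cases c1 : Commute (r x u) (r s (r x u))
  · exact k2 _ hr i1 (fun h => h4 (L.r_mem_Z.1 h)) c1
  refine k2 _ (L.r_Z2 hr) (by rw [← map_mul, i1, map_one])
    (fun h => h4 (L.r_mem_Z.1 (L.r_mem_Z.1 h))) ?_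
  have e1 := L.linv o hu
  have e2 := (L.linv o hr).trans ((e1.map _ (rZ L.xz)).map _ (rZ L.xz))
  rw [L.rrr] at e2
  rw [Commute.symm_iff, e1.commute_iff hr.2.1, r_commute] at c1
  rw [Commute.symm_iff, e2.commute_iff (L.r_Z2 hr).2.1, r_commute, L.c_r, L.c_rr hw hu.1]
  exact iff_of_false (fun h => c0 h.symm) c1

theorem e_cg {s a : G} (hE : Q ≤ Z2 z Q) (hs : Out z Q s) (ha : a ∈ Q) (h1 : a * a = 1)
    (h : Cg (zpowers z) (r s a) a) : Cg (zpowers z) ⁅s, r x a⁆ a := by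
  have h2 := ((L.linv' hs (hE ha) h).trans (L.rr_cg ha)).mul (.refl _ (r x a)⁻¹)
    (nZ (L.cz _ (Q.inv_mem (L.nx a ha))))
  rwa [← mul_inv_rev, ← mul_assoc, ← (L.inv_comm ha h1).eq, mul_assoc, ← map_mul, h1, map_one,
    mul_one, inv_eq_of_mul_eq_one_right h1] at h2

omit [Finite G] in
theorem sq_cg {a b : G} (hb : b ∈ Q) (h1 : b * b = 1) (h : Cg (zpowers z) a b) : a * a = 1 := by
  rcases h.cases L.zz with rfl | rfl
  · exact h1
  · rw [mul_assoc, ← mul_assoc z, ← (L.cz b hb).eq, mul_assoc, L.zz, mul_one, h1]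

theorem scent {s a : G} (hE : Q ≤ Z2 z Q) (hs : Out z Q s) (hss : s * s = 1) (ha : a ∈ Q)
    (h1 : a * a = 1) (h : Cg (zpowers z) (r s a) a) : Commute s a := by
  have h2 := L.e_cg hE hs ha h1 h
  have h3 : r s ⁅s, r x a⁆ = ⁅s, r x a⁆⁻¹ := by
    rw [commutatorElement_inv, r_def s, commutatorElement_def, commutatorElement_def,
      inv_eq_of_mul_eq_one_right hss, ← mul_assoc, ← mul_assoc, ← mul_assoc, hss, one_mul]
  rw [inv_eq_of_mul_eq_one_right (L.sq_cg ha h1 h2), r_eq_iff] at h3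
  exact ((h2.commute_iff hs.cz).1 h3.symm).symm

theorem scomm {s a b : G} (hE : Q ≤ Z2 z Q) (hs : Out z Q s) (ha : a ∈ Q)
    (h1 : a * a = 1) (h : Cg (zpowers z) (r s a) a) (hb : b ∈ Q) (h' : Commute s b) :
    Commute a b := by
  have hr := L.nx a ha
  rw [← (L.e_cg hE hs ha h1 h).commute_iff (L.cz b hb), commutatorElement_def, ← r_def,
    L.cmul' (hE (L.nrm s hs.cz _ hr)) (hE (Q.inv_mem hr)) hb, Commute.inv_left_iff]
  conv_lhs => rw [← r_eq_iff.2 h', r_commute]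

end Loc

/-- The global configuration. -/
structure Glob (X : G → G) (Q : G → Subgroup G) : Prop where
  loc : ∀ a, In a → Loc a (X a) (Q a)
  one : One G
  h3 : H3 G

namespace Glob
variable [Finite G] {X : G → G} {Q : G → Subgroup G} (H : Glob X Q)
include H

omit [Finite G] in
theorem equi {a b : G} (ha : In a) (g : G) (hb : b ∈ Q a) : r g b ∈ Q (r g a) := by
  have L := H.loc a ha
  refine (H.loc _ (ha.map (r g))).mx ((Q a).map (r g).toMonoidHom) (L.pg.map _) ?_ ?_ ⟨b, hb, rfl⟩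
  · rintro _ ⟨c, hc, rfl⟩
    exact (r_commute g).2 (L.cz c hc)
  · rintro h hh _ ⟨c, hc, rfl⟩
    refine ⟨r (r g⁻¹ h) c, L.nrm _ ?_ c hc, ?_⟩
    · rwa [← r_commute g, r_r_inv]
    · change r g _ = r h (r g c)
      simp only [r_def]; group

theorem uc {a : G} (ha : In a) : Uc a (Q a) := by
  obtain ⟨S, -, hS⟩ := H.one.sylow ha (T := ⊥) IsPGroup.of_bot (by simp)
  exact (H.loc a ha).uc S hS fun y h1 h2 => isConj_iff.2 (H.one a y ha ⟨h1, h2⟩)

omit [Finite G] in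
theorem big {a : G} (ha : In a) (h : ∃ w ∈ Q a, w * w = 1 ∧ w ∉ zpowers a) {b : G} (hb : In b) :
    ∃ w ∈ Q b, w * w = 1 ∧ w ∉ zpowers b := by
  obtain ⟨g, rfl⟩ := H.one a b ha hb
  obtain ⟨w, h1, h2, h3⟩ := h
  exact ⟨_, H.equi ha g h1, by rw [← map_mul, h2, map_one], fun h => h3 (r_mem_Z_iff.1 h)⟩

omit [Finite G] in
theorem ex_all {a : G} (ha : In a) (h : Q a ≤ Z2 a (Q a)) {b : G} (hb : In b) :
    Q b ≤ Z2 b (Q b) := by
  obtain ⟨g, rfl⟩ := H.one b a hb ha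
  refine fun c hc => (H.loc b hb).mem_Z2 hc fun k hk => (r_mem_Z_iff (g := g)).1 ?_
  rw [map_commutatorElement]
  exact Z2_br (h (H.equi hb g hc)) (H.equi hb g hk)

theorem ex {z : G} (hz : In z) (h : ∃ w ∈ Q z, w * w = 1 ∧ w ∉ zpowers z) : Q z ≤ Z2 z (Q z) := by
  have L := H.loc z hz
  obtain ⟨S, -, hS⟩ := H.one.sylow hz (T := ⊥) IsPGroup.of_bot (by simp)
  obtain ⟨w, w1, w2, w3⟩ := id h
  obtain ⟨u, hu, h1, h2, h3⟩ := L.exists_u S hS w1 w2 w3
  have iu : In u := .of_notMem h1 h2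
  have L' := H.loc u iu
  obtain ⟨S', hT, hS'⟩ := H.one.sylow iu (T := (S : Subgroup G) ⊓ centralizer {u})
    (S.isPGroup'.to_le inf_le_left) fun g hg => mem_centralizer_singleton_iff.1 hg.2
  have hi := index_pair S S' hz hS h3 (by
    by_contra! hn
    exact h2 (H.uc hz u hu.1 h1 fun g hg => hn g (L.le_sylow S hS hg))) hT
  obtain ⟨w', w1', w2', w3'⟩ := H.big hz h iu
  obtain ⟨b, hb, -, hb'⟩ := L'.toTr.exists_u w1' w2' w3'
  have hQ := L'.le_sylow S' hS'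
  have key : ∀ a ∈ S', (∀ g ∈ S', ⁅a, g⁆ ∈ zpowers u) → a ∈ Q u := fun a ha hc => by_contra fun hn =>
    hb' (L'.lout ⟨hS' a ha, .of_mem S'.isPGroup' ha, hn⟩ hb ((cg_r_iff hb.2.1).2 (hc _ (hQ hb.1)))
      ((cg_r_iff (L'.r_Z2 hb).2.1).2 (hc _ (hQ (L'.r_Z2 hb).1))))
  have U : Uc u (S' : Subgroup G) := fun a ha a1 a2 => H.uc iu a (key a ha fun g hg => by
    rw [commutatorElement_eq_one_iff_commute.2 (a2 g hg)]; exact one_mem _) a1
      fun g hg => a2 g (hQ hg)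
  have zT : z ∈ (S : Subgroup G) ⊓ centralizer {u} :=
    ⟨L.le_sylow S hS L.zm, mem_centralizer_singleton_iff.2 hu.2.1.symm⟩
  have h4 : ∀ g ∈ S', ⁅z, g⁆ ∈ zpowers u := fun g hg =>
    br_of_index U hT hi zT hz.1 (fun k hk => (hS k hk.1).symm) hg
  exact (Pr.ex ⟨L, L', H.uc hz, H.uc iu, hu, L'.mem_Z2 (key z (hT zT) h4) fun g hg => h4 g (hQ hg),
    h2⟩ H.h3).elim id fun h => H.ex_all iu h hz

section Ex
variable (E : ∀ a, In a → Q a ≤ Z2 a (Q a))
include E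

theorem sqZ {a g : G} (ha : In a) (hg : g ∈ Q a) : g * g ∈ zpowers a :=
  (H.loc a ha).center (H.uc ha) (mul_mem hg hg) fun _ hk =>
    ((H.loc a ha).cmul' (E a ha hg) (E a ha hg) hk).2 Iff.rfl

theorem e1 {z a : G} (hz : In z) (ha : a ∈ Q z) (h1 : a * a = 1) (h2 : a ∉ zpowers z) :
    z ∈ Q a := by
  have L := H.loc z hz
  have L' := H.loc a (.of_notMem h1 h2)
  by_contra hn
  have key : ∀ b ∈ Q z, Commute a b → ∃ b' ∈ Q a, b' ∈ Q z ∧ Cg (zpowers z) b' b := fun b hb c => by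
    by_cases h : b ∈ Q a
    · exact ⟨b, h, hb, .refl _ _⟩
    · exact ⟨_, L'.idx b z ⟨c.symm, .of_mem L.pg hb, h⟩ ⟨(L.cz a ha).symm, .of_inv hz.1, hn⟩
        (.of_mem L.pg (mul_mem hb L.zm)), mul_mem hb L.zm, .mul_mem (mem_zpowers z) b⟩
  obtain ⟨c, hc, c1, c2⟩ := L.exists_c (H.uc hz) (E z hz ha) h2
  obtain ⟨b', b1, b2, b3⟩ := key _ (L.nx a ha) (L.inv_comm ha h1)
  obtain ⟨c', d1, d2, d3⟩ := key c hc c1
  refine hn (anti hz.1 (Z2_br (E z hz b2) d2) (fun h => c2 ?_) ▸ br_mem b1 d1)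
  exact (b3.commute_iff (L.cz c hc)).1 ((d3.commute_iff (L.cz _ b2)).1 h.symm).symm

theorem x2 {z a : G} (hz : In z) (ha : a ∈ Q z) (h1 : a * a = 1) (h2 : a ∉ zpowers z) :
    ∃ s, s * s = 1 ∧ Out z (Q z) s ∧ Commute s a := by
  have ia : In a := .of_notMem h1 h2
  have L' := H.loc a ia
  have hz' := H.e1 E hz ha h1 h2
  obtain ⟨c, hc, c1, c2⟩ := L'.exists_c (H.uc ia) (E a ia hz') (notMem_Z_symm hz.2 h1 h2)
  have hv := L'.nx z hz'
  have vv : r (X a) z * r (X a) z = 1 := (hz.map _).1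
  have cv := (L'.inv_comm hz' hz.1).symm
  by_cases h : r (X a) z ∈ Q z
  swap
  · exact ⟨_, vv, ⟨cv, .of_inv vv, h⟩, L'.cz _ hv⟩
  have h3 : c ∉ Q z := fun h' =>
    c2 (commute_of_ZZ h1 h2 (Z2_br (E z hz h) h') (Z2_br (E a ia hv) hc))
  rcases (mem_Z h1).1 (H.sqZ E ia hc) with h4 | h4
  · exact ⟨c, h4, ⟨c1.symm, .of_inv h4, h3⟩, L'.cz c hc⟩
  have h5 : c * r (X a) z * (c * r (X a) z) = 1 := by
    rw [sq_mul (L'.cz c hc) (Z2_br (E a ia hv) hc), anti h1 (Z2_br (E a ia hv) hc) c2, h4, vv, h1,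
      one_mul]
  exact ⟨_, h5, ⟨c1.symm.mul_left cv, .of_inv h5, fun h' => h3 ((mul_mem_cancel_right h).1 h')⟩,
    L'.cz _ (mul_mem hc hv)⟩

theorem inQ {z s a a' : G} (hz : In z) (hs : Out z (Q z) s) (ss : s * s = 1) (ha : a ∈ Q z)
    (h1 : a * a = 1) (ha' : a' ∈ Q z) (h1' : a' * a' = 1) (c1 : Commute a a') (c2 : Commute s a)
    (c3 : Commute s a') (c4 : ¬ Commute (r (X z) a) a') : ⁅s, r (X z) a⁆ ∈ Q s := by
  have L := H.loc z hz
  have hb := L.nx a ha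
  have bb : r (X z) a * r (X z) a = 1 := by rw [← map_mul, h1, map_one]
  have h2 := L.e_cg (E z hz) hs ha h1 (.of_eq (r_eq_iff.2 c2))
  set b := r (X z) a
  set e := ⁅s, b⁆ with he
  have ee := L.sq_cg ha h1 h2
  have eQ := (h2.mem_iff L.Z_le).2 ha
  have eZ : e ∉ zpowers z := fun h => c4 (commute_Z (L.cz a' ha')
    (L.r_mem_Z.2 ((h2.mem_iff le_rfl).1 h))).symm
  have ie : In e := .of_notMem ee eZ
  have L' := H.loc e ie
  have ze := notMem_Z_symm hz.2 ee eZ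
  have d1 : Commute s e := ((h2.commute_iff hs.cz).2 c2.symm).symm
  have d2 : Commute b e := ((h2.commute_iff (L.cz b hb)).2 (L.inv_comm ha h1)).symm
  have d3 : Commute a' e := ((h2.commute_iff (L.cz a' ha')).2 c1).symm
  have hz' := anti hz.1 (Z2_br (E z hz hb) ha') c4
  refine H.e1 E ie (by_contra fun hn => ?_) ss fun h => hs.nm (zpowers_le.2 eQ h)
  have o : Out e (Q e) s := ⟨d1, hs.two, hn⟩
  by_cases h3 : b ∈ Q e
  · exact ie.2 (commutatorElement_eq_one_iff_commute.2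
      (L'.scent (E e ie) o ss h3 bb ((cg_r_iff d2).2 (mem_zpowers e))))
  have o' : Out e (Q e) b := ⟨d2, .of_inv bb, h3⟩
  by_cases h4 : a' ∈ Q e
  · have h5 := L'.idx b s o' o (Two.of_sq (.of_inv (a := b * s * (b * s)) (by
      have : s * b * (s * b) = e := by
        rw [he, commutatorElement_def, inv_eq_of_mul_eq_one_right ss, inv_eq_of_mul_eq_one_right bb]
        group
      rw [← inv_eq_of_mul_eq_one_right ss, ← inv_eq_of_mul_eq_one_right bb, ← mul_inv_rev,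
        ← mul_inv_rev, this, ← mul_inv_rev, ee, inv_one])))
    have h6 := Z2_br (E e ie h5) h4
    rw [commutatorElement_def, ← r_def, ← r_r, r_eq_iff.2 c3, r_def, ← commutatorElement_def,
      hz'] at h6
    exact ze h6
  · have h5 := H.sqZ E ie (L'.idx a' b ⟨d3, .of_inv h1', h4⟩ o' (.of_mem L.pg (mul_mem ha' hb)))
    rw [sq_mul (L.cz a' ha') (Z2_br (E z hz hb) ha'), hz', h1', bb, mul_one, mul_one] at h5
    exact ze h5

theorem not_ex {z u : G} (hz : In z) (hu : u ∈ Q z) (uu : u * u = 1) : u ∈ zpowers z := by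
  by_contra uZ
  have L := H.loc z hz
  have hE := E z hz
  have hr := L.nx u hu
  obtain ⟨c, hc, cc, c1, c2⟩ : ∃ c ∈ Q z, c * c = 1 ∧ Commute u c ∧ ¬ Commute (r (X z) u) c := by
    obtain ⟨c, hc, c1, c2⟩ := L.exists_c (H.uc hz) (hE hu) uZ
    rcases (mem_Z hz.1).1 (H.sqZ E hz hc) with h | h
    · exact ⟨c, hc, h, c1, c2⟩
    refine ⟨_, mul_mem hc hr, ?_, c1.mul_right (L.inv_comm hu uu), fun h' => c2 ?_⟩
    · rw [sq_mul (L.cz c hc) (Z2_br (hE hr) hc), anti hz.1 (Z2_br (hE hr) hc) c2, h, hz.1, one_mul,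
        ← map_mul, uu, map_one]
    · simpa using h'.mul_right (Commute.refl _).inv_right
  have hrc := L.nx c hc
  have c3 : ¬ Commute (r (X z) c) u := by rw [Commute.symm_iff, L.c_r, L.c_rr (hE hu) hc]; tauto
  obtain ⟨s, ss, hs, su⟩ := H.x2 E hz hu uu uZ
  obtain ⟨s', -, hs', sc⟩ := H.x2 E hz hc cc fun h => c2 (commute_Z (L.cz _ hr) h)
  have hsc := L.nrm s hs.cz c hc
  have rZ := rZ L.xz
  have c4 : Cg (zpowers z) (r s c) c := by
    obtain ⟨q, hq, h | h | h⟩ := L.dec s s' hs hs' <;> have h' := h c hc <;>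
      rw [r_eq_iff.2 sc] at h'
    · exact ((Cg.of_eq h').trans (cg_of_Z2 (hE hsc) hq)).symm
    · have h1 : Cg (zpowers z) c (r (X z) (r s c)) :=
        (Cg.of_eq h').trans (cg_of_Z2 (hE (L.nx _ hsc)) hq)
      have h2 := (L.linv hs (hE hc)).trans (h1.map _ rZ).symm
      exact absurd (L.scomm hE hs hrc (by rw [← map_mul, cc, map_one]) h2 hu su) c3
    · have h1 : Cg (zpowers z) c (r (X z) (r (X z) (r s c))) :=
        (Cg.of_eq h').trans (cg_of_Z2 (hE (L.nx _ (L.nx _ hsc))) hq)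
      have h2 := (L.linv hs (hE hrc)).trans ((((L.linv hs (hE hc)).trans h1.symm).map _ rZ).map _ rZ)
      have h3 := L.scomm hE hs (L.nx _ hrc) (by rw [← map_mul, ← map_mul, cc, map_one, map_one])
        h2 hu su
      rw [Commute.symm_iff, L.c_r, r_commute] at h3
      exact absurd h3 c2
  have sc' := L.scent hE hs ss hc cc c4
  have e1 := H.inQ E hz hs ss hu uu hc cc c1 su sc' c2
  have e2 := H.inQ E hz hs ss hc cc hu uu c1.symm sc' su c3
  have e3 := H.inQ E hz hs ss (mul_mem hu hc)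
    (by rw [mul_assoc, ← mul_assoc c, ← c1.eq, mul_assoc, cc, mul_one, uu]) hu uu
    ((Commute.refl u).mul_left c1.symm) (su.mul_right sc') su fun h => c3 (by
      rw [map_mul] at h
      simpa using (L.inv_comm hu uu).symm.inv_left.mul_left h)
  have h2 := L.e_cg hE hs hc cc c4
  have e4 : ⁅s, r (X z) (u * c)⁆ = ⁅s, r (X z) u⁆ * (z * ⁅s, r (X z) c⁆) := by
    have := anti hz.1 (Z2_br (hE hr) ((h2.mem_iff L.Z_le).2 hc)) fun h =>
      c2 ((h2.commute_iff (L.cz _ hr)).1 h.symm).symm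
    have e : ∀ a b : G, ⁅s, a * b⁆ = ⁅s, a⁆ * (⁅a, ⁅s, b⁆⁆ * ⁅s, b⁆) := fun a b => by
      simp only [commutatorElement_def]; group
    rw [map_mul, e, this]
  rw [e4, mul_mem_cancel_left e1, mul_mem_cancel_right e2] at e3
  have is : In s := .of_notMem ss hs.nm
  exact hs.nm (H.e1 E is e3 hz.1 (notMem_Z_symm hz.2 ss fun h => hs.nm (L.Z_le h)))

end Ex

theorem unique {z u : G} (hz : In z) (hu : u ∈ Q z) (uu : u * u = 1) : u ∈ zpowers z :=
  by_contra fun h => h (H.not_ex (fun _ ha => H.ex_all hz (H.ex hz ⟨u, hu, uu, h⟩) ha) hz hu uu)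

end Glob

end Cfsg.Agent.Inv.Six
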