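import Mathlib
import Cfsg.Agent.Inv.SixFin
import Cfsg.Agent.Ch.FT3Min

/-!
The case in which the element of order three normalizes a Sylow `2`-subgroup.
-/

set_option autoImplicit false

namespace Cfsg.Agent.Inv.Six

open Subgroup Cfsg.Agent.Ch.FT3
open scoped commutatorElement

universe u
variable {G : Type u} [Group G]

/-- The element `z x` of order six is self-centralizing. -/
structure Sx (z x : G) : Prop where
  iz : In z
  ox : orderOf x = 3
  xz : Commute x z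
  cen : ∀ g, Commute g z → Commute g x → g ∈ zpowers x ∨ g * z ∈ zpowers x

theorem Two.eq_one {x g : G} (hx : x ^ 3 = 1) (hg : g ∈ zpowers x) (h : Two g) : g = 1 := by
  obtain ⟨n, hn⟩ := h
  obtain ⟨k, rfl⟩ := hg
  refine mem_bot.1 (mem_of_coprime (Nat.Coprime.pow_left n (show Nat.Coprime 2 3 by norm_num))
    (mem_bot.2 hn) (mem_bot.2 ?_))
  change (x ^ k) ^ 3 = 1
  rw [← zpow_natCast, ← zpow_mul, mul_comm, zpow_mul, zpow_natCast, hx, one_zpow]

theorem Two.mul {a b : G} (ha : Two a) (hb : Two b) (h : Commute a b) : Two (a * b) := by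
  obtain ⟨m, hm⟩ := ha
  obtain ⟨n, hn⟩ := hb
  exact ⟨m + n, by rw [h.mul_pow, pow_add, pow_mul, hm, mul_comm (2 ^ m), pow_mul, hn]; simp⟩

theorem Two.mem_sylow (S : Sylow 2 G) {a : G} (h : Two a)
    (ha : a ∈ normalizer ((S : Subgroup G) : Set G)) : a ∈ S := by
  have := S.isPGroup'.to_sup_of_normal_left' h.isPGroup (zpowers_le.2 ha)
  exact (le_sup_right.trans (S.is_maximal' this le_sup_left).le) (mem_zpowers a)

theorem exists_two_odd [Finite G] (g : G) : ∃ a ∈ zpowers g, ∃ b ∈ zpowers g,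
    Two a ∧ Odd (orderOf b) ∧ g = a * b ∧ Commute a b := by
  obtain ⟨a, ha, b, hb, ⟨k, hk⟩, ho, e⟩ := GT.Tr.exists_pPart_mul_pPrimePart (p := 2) g
  refine ⟨a, ha, b, hb, ⟨k, hk ▸ pow_orderOf_eq_one a⟩, Nat.coprime_two_right.1 ho, e, ?_⟩
  obtain ⟨i, rfl⟩ := ha
  obtain ⟨j, rfl⟩ := hb
  exact Commute.zpow_zpow_self g i j

namespace Sx
variable {z x : G} (h : Sx z x)
include h

theorem x3 : x ^ 3 = 1 := h.ox ▸ pow_orderOf_eq_one x

theorem two {g : G} (h1 : Commute g z) (h2 : Commute g x) (h3 : Two g) : g ∈ zpowers z := by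
  rcases h.cen g h1 h2 with h4 | h4
  · exact h3.eq_one h.x3 h4 ▸ one_mem _
  · exact eq_inv_of_mul_eq_one_left ((h3.mul (.of_inv h.iz.1) h1).eq_one h.x3 h4) ▸
      inv_mem (mem_zpowers z)

theorem tr {P : Subgroup G} (hP : IsPGroup 2 P) (hz : z ∈ P) (hc : ∀ a ∈ P, Commute a z)
    (hx : ∀ a ∈ P, r x a ∈ P) : Tr z x P :=
  ⟨hP, hz, h.iz.1, h.iz.2, hc, h.x3, h.xz, hx,
    fun a ha e => h.two (hc a ha) (r_eq_iff.1 e).symm (.of_mem hP ha)⟩

theorem conj (g : G) : Sx (r g z) (r g x) where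
  iz := h.iz.map _
  ox := ((r g).orderOf_eq x).trans h.ox
  xz := (r_commute g).2 h.xz
  cen := fun k h1 h2 => by
    rw [← r_r_inv g k, ← map_mul, r_mem_Z_iff, r_mem_Z_iff]
    rw [← r_r_inv g k, r_commute] at h1 h2
    exact h.cen _ h1 h2

end Sx

/-- The central elements of order at most two. -/
def Om (S : Subgroup G) : Subgroup G where
  carrier := {a | a ∈ S ∧ a * a = 1 ∧ ∀ g ∈ S, Commute a g}
  one_mem' := ⟨one_mem _, one_mul 1, fun g _ => Commute.one_left g⟩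
  mul_mem' := fun {a b} ha hb => ⟨mul_mem ha.1 hb.1, by
    rw [mul_assoc, ← mul_assoc b, ← (ha.2.2 b hb.1).eq, mul_assoc, hb.2.1, mul_one, ha.2.1],
    fun g hg => (ha.2.2 g hg).mul_left (hb.2.2 g hg)⟩
  inv_mem' := fun {a} ha => by rwa [inv_eq_of_mul_eq_one_right ha.2.1]

theorem r_Om {S : Subgroup G} {g a : G} (hg : g ∈ normalizer (S : Set G)) (ha : a ∈ Om S) :
    r g a ∈ Om S :=
  ⟨(mem_normalizer_iff.1 hg a).1 ha.1, by rw [← map_mul, ha.2.1, map_one], fun k hk => by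
    rw [← r_r_inv g k, r_commute]
    exact ha.2.2 _ ((mem_normalizer_iff.1 (inv_mem hg) k).1 hk)⟩

variable [Finite G] {z x : G}

theorem Sx.exists_odd (h : Sx z x) (S : Sylow 2 G) (T : Tr z x (S : Subgroup G)) {m : G}
    (hm : m ∈ normalizer ((S : Subgroup G) : Set G)) :
    ∃ b, r b z = r m z ∧ ∀ a ∈ S, Cg (Om (S : Subgroup G)) (r b a) a := by
  set M := normalizer ((S : Subgroup G) : Set G)
  set A := Om (S : Subgroup G)
  have hx : x ∈ M := mem_normalizer_fintype T.nx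
  have hn : (A.subgroupOf M).Normal := ⟨fun a ha g => r_Om g.2 ha⟩
  let π := QuotientGroup.mk' (A.subgroupOf M)
  have hc : ∀ a b : M, π a = π b ↔ Cg A (a : G) b := fun a b => by
    rw [eq_comm, QuotientGroup.mk'_apply, QuotientGroup.mk'_apply, QuotientGroup.eq]; rfl
  have h1 : ∀ a : M, π a = 1 ↔ (a : G) ∈ A := fun a => QuotientGroup.eq_one_iff a
  have zO : z ∈ A := ⟨T.zm, T.zz, fun g hg => (T.cz g hg).symm⟩
  have xS : x * x ∉ S := fun h' => by
    have h2 := (Two.of_mem T.pg h').eq_one h.x3 (mul_mem (mem_zpowers x) (mem_zpowers x))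
    have := h.ox ▸ orderOf_dvd_of_pow_eq_one (show x ^ 2 = 1 by rw [pow_two, h2])
    omega
  have sc : SC (π ⟨x, hx⟩) := by
    refine ⟨orderOf_eq_prime ?_ fun e => xS (mul_mem ((h1 _).1 e).1 ((h1 _).1 e).1), fun g hg => ?_⟩
    · rw [← map_pow, show (⟨x, hx⟩ : M) ^ 3 = 1 from Subtype.ext h.x3, map_one]
    obtain ⟨g, rfl⟩ := QuotientGroup.mk'_surjective _ g
    obtain ⟨a, ha, e⟩ := ((hc (g * ⟨x, hx⟩ * g⁻¹) ⟨x, hx⟩).1 (by
      rw [map_mul, map_mul, map_inv, mul_inv_eq_iff_eq_mul]; exact hg)).ex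
    change r (g : G) x = x * a at e
    have e3 : r x a * r x (r x a) * r x (r x (r x a)) * x ^ 3 = r (g : G) (x ^ 3) := by
      rw [map_pow, e]; simp only [r_def, pow_three]; group
    rw [h.x3, map_one, mul_one, T.rrr] at e3
    have hb := r_Om hx (r_Om hx ha)
    have e4 : r (r x (r x a)) x = x * (r x a * (r x (r x a))⁻¹) := by simp only [r_def]; group
    rw [inv_eq_of_mul_eq_one_right hb.2.1, eq_inv_of_mul_eq_one_left e3,
      inv_eq_of_mul_eq_one_right ha.2.1, ← e] at e4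
    set b := r x (r x a)
    have hk : b⁻¹ * g ∈ M := mul_mem (inv_mem (le_normalizer hb.1)) g.2
    have c1 : Commute (b⁻¹ * g) x := by rw [← r_eq_iff, ← r_r, ← e4, r_inv_r]
    have c2 : Commute (b⁻¹ * g) z := by
      refine r_eq_iff.1 (((mem_Z T.zz).1 (T.fx _ (r_Om hk zO).1 ?_)).resolve_left (h.iz.map _).2)
      rw [r_r, ← c1.eq, ← r_r, r_eq_iff.2 h.xz]
    have e5 : (b⁻¹ * g)⁻¹ * g = r (b⁻¹ * g)⁻¹ b := by rw [r_def]; group
    have h2 : Cg A (g : G) (b⁻¹ * g) := by rw [Cg, e5]; exact r_Om (inv_mem hk) hb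
    rcases h.cen _ c2 c1 with ⟨i, hi⟩ | ⟨i, hi⟩ <;> refine ⟨i, ?_⟩ <;> change _ ^ i = π g <;>
      rw [← map_zpow, eq_comm, hc] <;> change Cg A (g : G) (x ^ i) <;> rw [show x ^ i = _ from hi]
    · exact h2
    · exact h2.trans (Cg.mul_mem zO _).symm
  obtain ⟨N, hN, iv, hi⟩ := sc.burnside fun g hg => by
    obtain ⟨g, rfl⟩ := QuotientGroup.mk'_surjective _ g
    change π g * _ * (π g)⁻¹ = _ at hg
    have h2 : π g * π g * π ⟨x, hx⟩ = π ⟨x, hx⟩ * (π g * π g) := by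
      rw [← mul_inv_eq_iff_eq_mul]
      calc _ = π g * (π g * π ⟨x, hx⟩ * (π g)⁻¹) * (π g)⁻¹ := by group
        _ = π g * (π ⟨x, hx⟩)⁻¹ * (π g)⁻¹ := by rw [hg]
        _ = (π g * π ⟨x, hx⟩ * (π g)⁻¹)⁻¹ := by group
        _ = _ := by rw [hg, inv_inv]
    have h3 : (π g * π g) ^ 3 = 1 := by
      rcases sc.mem_iff.1 (sc.cen _ h2) with e | e | e <;> simp [e, sc.cube]
    have h4 : ((g * g) ^ 3 : M).1 ∈ A := (h1 _).1 (by rw [map_pow, map_mul, h3])
    have h5 : (g : G) ^ 3 ∈ S := (Two.of_sq (.of_inv (by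
      rw [← (Commute.refl _).mul_pow]; exact h4.2.1))).mem_sylow S (pow_mem g.2 3)
    have h6 : (g ^ 3 * ⟨x, hx⟩ * (g ^ 3)⁻¹ * ⟨x, hx⟩ : M).1 ∈ A := (h1 _).1 (by
      simp only [map_mul, map_inv, map_pow]
      calc _ = π g * (π g * π g * π ⟨x, hx⟩) * (π g * π g)⁻¹ * (π g)⁻¹ * π ⟨x, hx⟩ := by
            simp only [pow_three]; group
        _ = π g * π ⟨x, hx⟩ * (π g)⁻¹ * π ⟨x, hx⟩ := by rw [h2]; group
        _ = _ := by rw [hg, inv_mul_cancel])
    have h7 := mul_mem (inv_mem (mul_mem h5 (T.nx _ (inv_mem h5)))) h6.1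
    refine xS (by
      convert h7 using 1
      simp only [coe_mul, coe_inv, coe_pow, r_def]; group)
  obtain ⟨i, e⟩ := mem_zpowers_of_prime_card (G := _ ⧸ N) (p := 3) hi
    (g := QuotientGroup.mk' N (π ⟨x, hx⟩)) (g' := QuotientGroup.mk' N (π ⟨m, hm⟩))
    fun e => iv.not_mem ((QuotientGroup.eq_one_iff _).1 e)
  have h2 : π (⟨m, hm⟩ * (⟨x, hx⟩ ^ i)⁻¹) ∈ N := (QuotientGroup.eq_one_iff _).1 (by
    change QuotientGroup.mk' N _ = 1
    simp only [map_mul, map_inv, map_zpow]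
    exact mul_inv_eq_one.2 e.symm)
  obtain ⟨a, -, b, hb, ha, ho, e1, c⟩ := exists_two_odd ((⟨m, hm⟩ * (⟨x, hx⟩ ^ i)⁻¹ : M))
  have aS : (a : G) ∈ S := Two.mem_sylow S (ha.imp fun n hn => congrArg Subtype.val hn) a.2
  refine ⟨b, ?_, fun s hs => ?_⟩
  · have e2 : m * (x ^ i)⁻¹ = b * a := congrArg Subtype.val (e1.trans c.eq)
    rw [← r_eq_iff.2 (T.cz a aS), r_r, ← e2, ← r_r, r_eq_iff.2 (T.cz a aS),
      r_eq_iff.2 (h.xz.zpow_left i).inv_left]
  have := sc.nilpotent iv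
  obtain ⟨n, hn⟩ := T.pow hs
  have h3 : π ⟨s, le_normalizer hs⟩ ^ 2 ^ n = 1 := by
    rw [← map_pow, show (⟨s, le_normalizer hs⟩ : M) ^ 2 ^ n = 1 from Subtype.ext hn, map_one]
  have c2 := GT.commute_of_coprime_of_isNilpotent (H := N) (a := π b) (b := π ⟨s, le_normalizer hs⟩)
    ((zpowers_le (H := N.comap π)).2 h2 hb)
    (mem_of_coprime (Nat.Coprime.pow_left n (show Nat.Coprime 2 3 by norm_num)) (h3 ▸ one_mem _)
      (hi ▸ N.pow_index_mem _))
    (((Nat.coprime_two_right.2 ho).pow_right n).coprime_dvd_left (orderOf_map_dvd π b)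
      |>.coprime_dvd_right (orderOf_dvd_of_pow_eq_one h3))
  exact (hc (b * ⟨s, le_normalizer hs⟩ * b⁻¹) ⟨s, le_normalizer hs⟩).1 (by
    rw [map_mul, map_mul, map_inv, c2.eq, mul_inv_cancel_right])

theorem Sx.comm_of_not_uc (h : Sx z x) (o : One G) (S : Sylow 2 G) (T : Tr z x (S : Subgroup G))
    (U : ¬ Uc z (S : Subgroup G)) : IsMulCommutative (S : Subgroup G) := by
  obtain ⟨y, y1, y2, y3, y4⟩ : ∃ y ∈ S, y * y = 1 ∧ (∀ g ∈ S, Commute y g) ∧ y ∉ zpowers z := by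
    by_contra! hn
    exact U hn
  obtain ⟨g, rfl⟩ := o z y h.iz (.of_notMem y2 y4)
  obtain ⟨m, hm, e⟩ := ZS.exists_mem_normalizer_conj_eq S (g := g) (fun s hs => (T.cz s hs).eq)
    fun s hs => (y3 s hs).symm.eq
  obtain ⟨b, b1, b2⟩ := h.exists_odd S T hm
  have h1 : ∀ a ∈ S, a * a ≠ z := fun a ha e' => y4 (by
    obtain ⟨v, hv, e2⟩ := (b2 a ha).ex
    rw [r_def, ← e, ← r_def, ← b1, ← e', map_mul, e2, mul_assoc, ← mul_assoc v, (hv.2.2 a ha).eq,
      mul_assoc, hv.2.1, mul_one]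
    exact mem_zpowers _)
  have h2 : ∀ a ∈ S, a * a = 1 := fun a ha => by
    by_contra hn
    obtain ⟨n, hn'⟩ := T.pow (mul_mem ha ha)
    obtain ⟨k, k1, k2⟩ := exists_pow_two (A := ⊥) hn' hn
    obtain ⟨g, hg⟩ := o _ z ⟨k2, k1⟩ h.iz
    rw [(Commute.refl a).mul_pow, map_mul] at hg
    obtain ⟨c, c1, c2⟩ := SE.exists_conj_le_sylow (H := centralizer {z}) S
      (fun g hg => mem_centralizer_singleton_iff.2 (T.cz g hg))
      ((Two.of_mem T.pg (pow_mem ha k)).map (r g)).isPGroup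
      (zpowers_le.2 (mem_centralizer_singleton_iff.2 (hg ▸ (Commute.refl _).mul_right (.refl _))))
    refine h1 _ (c2 _ (mem_zpowers _)) ?_
    rw [← r_def, ← map_mul, hg]
    exact r_eq_iff.2 (mem_centralizer_singleton_iff.1 c1)
  refine ⟨⟨fun a b => Subtype.ext ?_⟩⟩
  have := h2 _ (mul_mem a.2 b.2)
  rw [mul_eq_one_iff_eq_inv, mul_inv_rev, inv_eq_of_mul_eq_one_right (h2 _ a.2),
    inv_eq_of_mul_eq_one_right (h2 _ b.2)] at this
  exact this

omit [Finite G] in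
theorem Tr.conj {P : Subgroup G} (T : Tr z x P) (h : Sx z x) (g : G) :
    Tr (r g z) (r g x) (P.map (r g).toMonoidHom) := by
  refine (h.conj g).tr (T.pg.map _) ⟨z, T.zm, rfl⟩ ?_ ?_
  · rintro _ ⟨a, ha, rfl⟩
    exact (r_commute g).2 (T.cz a ha)
  · rintro _ ⟨a, ha, rfl⟩
    refine ⟨_, T.nx a ha, ?_⟩
    change r g _ = r _ (r g a)
    simp only [r_def]; group

omit [Finite G] in
theorem Uc.conj {P : Subgroup G} (U : Uc z P) (g : G) : Uc (r g z) (P.map (r g).toMonoidHom) := by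
  rintro _ ⟨a, ha, rfl⟩ h1 h2
  exact r_mem_Z_iff.2 (U a ha ((r g).injective (by rw [map_mul, map_one]; exact h1))
    fun k hk => (r_commute g).1 (h2 _ ⟨k, hk, rfl⟩))

theorem Sx.unique_of_uc (h : Sx z x) (o : One G) (S : Sylow 2 G) (T : Tr z x (S : Subgroup G))
    (U : Uc z (S : Subgroup G)) {w : G} (hw : w ∈ S) (h1 : w * w = 1) : w ∈ zpowers z := by
  by_contra h2
  obtain ⟨u, hu, uu, uZ⟩ := T.exists_u hw h1 h2
  obtain ⟨S', hT, hS'⟩ := o.sylow (.of_notMem uu uZ) (T := (S : Subgroup G) ⊓ centralizer {u})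
    (S.isPGroup'.to_le inf_le_left) fun g hg => mem_centralizer_singleton_iff.1 hg.2
  obtain ⟨y, T', U'⟩ : ∃ y, Tr u y (S' : Subgroup G) ∧ Uc u (S' : Subgroup G) := by
    obtain ⟨g, rfl⟩ := o z u h.iz (.of_notMem uu uZ)
    have T1 := T.conj h g
    obtain ⟨c, c1, c2⟩ := SE.exists_conj_le_sylow (H := centralizer {r g z}) S'
      (fun g hg => mem_centralizer_singleton_iff.2 (hS' g hg)) T1.pg
      fun k hk => mem_centralizer_singleton_iff.2 (T1.cz k hk)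
    have e : ((S : Subgroup G).map (r g).toMonoidHom).map (r c).toMonoidHom = S' := by
      refine eq_of_le_of_card_ge (map_le_iff_le_comap.2 c2) ?_
      rw [card_map_of_injective (r c).injective, card_map_of_injective (r g).injective]
      exact (Nat.card_congr (S.equiv S').toEquiv).ge
    have T2 := T1.conj (h.conj g) c
    have U2 := (U.conj g).conj c
    rw [e, r_eq_iff.2 (mem_centralizer_singleton_iff.1 c1)] at T2 U2
    exact ⟨_, T2, U2⟩
  have hi := index_pair S S' h.iz T.cz hu.2.2 (by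
    by_contra! hn
    exact uZ (U u hu.1 uu hn)) hT
  have m : ∀ g, g ∈ (S : Subgroup G) ⊓ centralizer {u} ↔ g ∈ S ∧ Commute u g := fun g => by
    rw [mem_inf, mem_centralizer_singleton_iff, Commute.symm_iff]; rfl
  have zT := (m z).2 ⟨T.zm, hu.2.1⟩
  have hz : z ∈ Z2 u S' := T'.mem_Z2 (hT zT) fun g hg =>
    br_of_index U' hT hi zT T.zz (fun k hk => (T.cz k hk.1).symm) hg
  have zU := notMem_Z_symm T.z1 uu uZ
  have h3 : ∀ g ∈ S', Commute z g → g ∈ S := fun g hg c => by_contra fun hn => zU (U' z hz.1 T.zz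
    fun k hk => by
      by_cases h' : k ∈ (S : Subgroup G) ⊓ centralizer {u}
      · exact (T.cz k h'.1).symm
      · simpa using c.inv_right.mul_right (T.cz _ (hi g hg k hk (fun h => hn h.1) h').1).symm)
  have hv := T'.r_Z2 hz
  have vS := h3 _ hv.1 (T'.inv_comm hz.1 T.zz)
  have h4 : ∀ w ∈ S, Commute u w → w ∈ S' := fun w hw c => hT ((m w).2 ⟨hw, c⟩)
  obtain ⟨c, hc, c1, c2⟩ := T'.exists_c U' hz zU
  refine c2 (T.lemK T' hu uZ hv (h.iz.map _).1 vS (commute_of_ZZ uu uZ (Z2_br (T.r_Z2 hu) vS)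
    (br_symm (Z2_br hv (h4 _ (T.nx u hu.1) (T.inv_comm hu.1 uu))))) (fun a ha c => ?_)
    (fun w hw c _ => h4 w hw c) (h3 c hc c1) hc)
  rcases (mem_Z uu).1 (Z2_br hv (h4 a ha c)) with e | e
  · exact Or.inl (e ▸ one_mem _)
  · exact Or.inr (.of_eq e)

end Cfsg.Agent.Inv.Six
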