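import Mathlib
import Cfsg.Agent.Inv.G168Sub

/-! Facts on the table model of the simple group of order 168. -/

set_option autoImplicit false
set_option maxRecDepth 100000

namespace Cfsg.Agent.Inv.On

open Cfsg.Agent.Inv.G168

theorem t_cen : ∀ a : T, a * a = 1 → a ≠ 1 → ∀ g : T, g * a = a * g → g * g = 1 ∨ g * g = a := by
  decide +kernel

theorem t_cen2 : ∀ a : T, a * a = 1 → a ≠ 1 → ∀ g : T, g * a = a * g →
    (∀ k : T, k * a = a * k → k * g = g * k) → g = 1 ∨ g = a := by decide +kernel

theorem t_cen3 : ∀ a : T, a * a = 1 → a ≠ 1 →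
    ((List.finRange 168).filter (fun g : T => decide (g * a = a * g))).length = 8 := by
  decide +kernel

theorem t_sq : ∀ a : T, a * a = 1 → a ≠ 1 → ∃ g : T, g * g = a := by decide +kernel

theorem t_card_cen {a : T} (h : a * a = 1) (h1 : a ≠ 1) :
    Nat.card (Subgroup.centralizer ({a} : Set T)) = 8 := by
  rw [← t_cen3 a h h1, ← card_eq]
  exact Nat.card_congr (Equiv.subtypeEquivRight fun _ => Subgroup.mem_centralizer_singleton_iff)

end Cfsg.Agent.Inv.On
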