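import Mathlib
import Cfsg.Agent.Inv.SixNorm
import Cfsg.Agent.S3331
import Cfsg.Agent.Ch.Burnside
import Cfsg.Agent.Cl.PSL2Pairs
import Cfsg.Agent.Cl.PSL2Spec

/-!
The structure of the centralizer of the involution in a self-centralizing cyclic group of order six.
-/

set_option autoImplicit false

namespace Cfsg.Agent.Inv.Six

open Subgroup Cfsg.Agent.Ch.FT3
open scoped commutatorElement

universe u
variable {G : Type u} [Group G]

instance normal_Z (z : G) : ((zpowers z).subgroupOf (centralizer {z})).Normal :=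
  ⟨fun _ ha g => rZ (mem_centralizer_singleton_iff.1 g.2) _ ha⟩

/-- The projection of `C(z)` to `C(z) / ⟨z⟩`. -/
def pz (z : G) : centralizer ({z} : Set G) →*
    centralizer ({z} : Set G) ⧸ (zpowers z).subgroupOf (centralizer {z}) := QuotientGroup.mk' _

theorem pz_surj (z : G) : Function.Surjective (pz z) := QuotientGroup.mk'_surjective _

theorem pz_eq_one {z : G} {a : centralizer ({z} : Set G)} : pz z a = 1 ↔ (a : G) ∈ zpowers z :=
  QuotientGroup.eq_one_iff a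

theorem pz_eq {z : G} {a b : centralizer ({z} : Set G)} :
    pz z a = pz z b ↔ Cg (zpowers z) (a : G) b := by
  rw [eq_comm, pz, QuotientGroup.mk'_apply, QuotientGroup.mk'_apply, QuotientGroup.eq]; rfl

theorem mC {z a : G} (h : Commute a z) : a ∈ centralizer ({z} : Set G) :=
  mem_centralizer_singleton_iff.2 h

theorem cC {z : G} (a : centralizer ({z} : Set G)) : Commute (a : G) z :=
  mem_centralizer_singleton_iff.1 a.2

theorem eq_of_odd {z a b : G} {n : ℕ} (hz : In z) (hn : Odd n) (ha : a ^ n = 1) (hb : b ^ n = 1)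
    (c : Commute b z) (h : Cg (zpowers z) a b) : a = b := by
  refine (h.cases hz.1).resolve_right fun e => hz.2 ?_
  obtain ⟨k, rfl⟩ := hn
  rwa [e, c.mul_pow, hb, one_mul, pow_succ, pow_mul, pow_two, hz.1, one_pow, one_mul] at ha

theorem two_coe {A : Subgroup G} {a : A} : Two a ↔ Two (a : G) :=
  exists_congr fun _ => by rw [Subtype.ext_iff]; rfl

theorem Two.hom {A : Type*} [Group A] (f : G →* A) {a : G} (h : Two a) : Two (f a) :=
  h.imp fun n h => by rw [← map_pow, h, map_one]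

theorem two_pz {z : G} (hz : z * z = 1) {a : centralizer ({z} : Set G)} :
    Two (pz z a) ↔ Two (a : G) := by
  refine ⟨fun ⟨n, h⟩ => ⟨n + 1, ?_⟩, fun h => (two_coe.2 h).hom _⟩
  rw [← map_pow, pz_eq_one, mem_Z hz] at h
  rw [pow_succ, pow_mul, pow_two]
  rcases h with h | h <;> rw [coe_pow] at h <;> simp [h, hz]

theorem ord_pz {z y : G} (hz : In z) (hy : orderOf y = 3) (c : Commute y z) :
    orderOf (pz z ⟨y, mC c⟩) = 3 := by
  have h3 : y ^ 3 = 1 := hy ▸ pow_orderOf_eq_one y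
  refine orderOf_eq_prime ?_ fun e => ?_
  · rw [← map_pow, show (⟨y, mC c⟩ : centralizer {z}) ^ 3 = 1 from Subtype.ext h3, map_one]
  · have := eq_of_odd hz (by decide) h3 (one_pow 3) (.one_left z) (pz_eq.1 (e.trans (map_one _).symm))
    simp [show y = 1 from this] at hy

theorem s3_two (σ : Equiv.Perm (Fin 3)) (h : Two σ) : σ * σ = 1 := by
  have : σ * σ = 1 ∨ σ ^ 3 = 1 := by clear h; revert σ; decide
  exact this.elim id fun e => by rw [h.eq_one e (mem_zpowers σ), one_mul]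

set_option synthInstance.maxSize 2000 in
theorem s3_facts (ρ σ τ : Equiv.Perm (Fin 3)) (h1 : ρ ^ 3 = 1) (h2 : ρ ≠ 1) (h3 : σ * σ = 1)
    (h4 : σ ≠ 1) :
    σ * ρ * σ⁻¹ * ρ = 1 ∧ ρ * σ * ρ⁻¹ * σ * (ρ * σ * ρ⁻¹ * σ) ≠ 1 ∧ (τ * τ = 1 → τ ≠ 1 →
      (σ * τ * (σ * τ) = 1 → σ * τ = 1) ∧
        (τ * σ⁻¹ = 1 ∨ τ * (ρ * σ)⁻¹ = 1 ∨ τ * (ρ * (ρ * σ))⁻¹ = 1)) := by
  refine ⟨?_, ?_, fun h5 h6 => ⟨?_, ?_⟩⟩
  · revert ρ σ; decide +kernel
  · revert ρ σ; decide +kernel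
  · clear h1 h2; revert σ τ; decide +kernel
  · revert ρ σ τ; decide +kernel

namespace Sx
variable {z x : G} (h : Sx z x)
include h

theorem sc : SC (pz z ⟨x, mC h.xz⟩) := by
  refine ⟨ord_pz h.iz h.ox h.xz, fun g hg => ?_⟩
  obtain ⟨g, rfl⟩ := pz_surj z g
  have h1 := eq_of_odd h.iz (by decide) (a := r (g : G) x) (by rw [← map_pow, h.x3, map_one]) h.x3 h.xz
    ((pz_eq (a := g * ⟨x, mC h.xz⟩ * g⁻¹) (b := ⟨x, mC h.xz⟩)).1 (by
      rw [map_mul, map_mul, hg, map_inv, mul_inv_cancel_right]))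
  rcases h.cen g (cC g) (r_eq_iff.1 h1) with ⟨i, hi⟩ | ⟨i, hi⟩ <;> refine ⟨i, ?_⟩ <;>
    change _ ^ i = pz z g <;> rw [← map_zpow, pz_eq] <;> change Cg _ (x ^ i) _ <;>
    rw [show x ^ i = _ from hi]
  · exact .refl _ _
  · exact .mul_mem (mem_zpowers z) _

theorem inv : Sx z x⁻¹ :=
  ⟨h.iz, by rw [orderOf_inv, h.ox], h.xz.inv_left, fun g h1 h2 => by
    rw [zpowers_inv]; exact h.cen g h1 (by simpa using h2)⟩

variable [Finite G]

theorem of_ord {y : G} (hy : orderOf y = 3) (c : Commute y z) : Sx z y := by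
  obtain ⟨m, -, hm⟩ := h.sc.conj_of_ord (mem_top _) (mem_top _) (ord_pz h.iz hy c)
  obtain ⟨m, rfl⟩ := pz_surj z m
  have h3 : r (m : G) y ^ 3 = 1 := by rw [← map_pow, ← hy, pow_orderOf_eq_one, map_one]
  have key : ∀ x', Sx z x' → Cg (zpowers z) (r (m : G) y) x' → Sx z y := fun x' h' e => by
    have := h'.conj (m : G)⁻¹
    rwa [← eq_of_odd h.iz (by decide) h3 h'.x3 h'.xz e, r_inv_r, r_eq_iff.2 (cC m).inv_left] at this
  rw [← map_inv, ← map_mul, ← map_mul, ← map_inv, pz_eq, pz_eq] at hm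
  exact hm.elim (key _ h) (key _ h.inv)

theorem not_nine : ¬ 9 ∣ Nat.card (centralizer ({z} : Set G)) := by
  have h1 := card_eq_card_quotient_mul_card_subgroup ((zpowers z).subgroupOf (centralizer {z}))
  rw [Nat.card_congr (subgroupOfEquivOfLe (zpowers_le.2 (mC (Commute.refl z)))).toEquiv,
    Nat.card_zpowers, in_iff.1 h.iz, ← (zpowers (pz z ⟨x, mC h.xz⟩)).card_mul_index,
    Nat.card_zpowers, h.sc.ord] at h1
  have := h.sc.not_dvd_index
  omega

theorem tr_of_quot (S : Sylow 2 G) (hS : ∀ g ∈ S, Commute g z)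
    {P : Subgroup (centralizer ({z} : Set G) ⧸ (zpowers z).subgroupOf (centralizer {z}))}
    (h1 : IsPGroup 2 P) (h2 : ¬ 2 ∣ P.index)
    (h3 : ∀ a ∈ P, pz z ⟨x, mC h.xz⟩ * a * (pz z ⟨x, mC h.xz⟩)⁻¹ ∈ P) :
    ∃ S : Sylow 2 G, Tr z x (S : Subgroup G) := by
  have p1 : IsPGroup 2 ((P.comap (pz z)).map (centralizer {z}).subtype) := by
    rintro ⟨_, a, ha, rfl⟩
    exact two_coe.2 ((two_pz h.iz.1).1 (.of_mem h1 ha))
  refine ⟨p1.toSylow fun h4 => ?_, h.tr p1 ⟨⟨z, mC (.refl z)⟩, ?_, rfl⟩ ?_ ?_⟩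
  · rw [index_map_subtype, index_comap_of_surjective _ (pz_surj z), Nat.prime_two.dvd_mul] at h4
    exact h4.elim h2 fun h5 => S.not_dvd_index (h5.trans (index_dvd_of_le fun g hg => mC (hS g hg)))
  · change pz z _ ∈ P
    rw [pz_eq_one.2 (mem_zpowers z)]; exact one_mem _
  · rintro _ ⟨a, -, rfl⟩
    exact cC a
  · rintro _ ⟨a, ha, rfl⟩
    exact ⟨⟨x, mC h.xz⟩ * a * (⟨x, mC h.xz⟩)⁻¹, by simpa using h3 _ ha, rfl⟩

theorem loc_of_quot
    (φ : centralizer ({z} : Set G) ⧸ (zpowers z).subgroupOf (centralizer {z}) →* Equiv.Perm (Fin 3))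
    (h1 : Function.Surjective φ) (h2 : Group.IsNilpotent φ.ker) (h3 : (Nat.card φ.ker).Coprime 3) :
    ∃ Q, Loc z x Q := by
  obtain ⟨P, hP⟩ := exists_pp 2 h2
  let ψ := φ.comp (pz z)
  let Q := (P.comap (pz z)).map (centralizer {z}).subtype
  have mQ : ∀ a : centralizer ({z} : Set G), (a : G) ∈ Q ↔ ψ a = 1 ∧ Two (a : G) := fun a => by
    rw [← two_pz h.iz.1]
    exact (mem_map_iff_mem (subtype_injective _)).trans (hP.mem _)
  have QC : ∀ a ∈ Q, Commute a z := by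
    rintro _ ⟨a, -, rfl⟩
    exact cC a
  have nrm : ∀ g, Commute g z → ∀ a ∈ Q, r g a ∈ Q := fun g hg a ha => by
    have := (mQ ⟨a, mC (QC a ha)⟩).1 ha
    refine (mQ (⟨g, mC hg⟩ * ⟨a, mC (QC a ha)⟩ * (⟨g, mC hg⟩)⁻¹)).2 ⟨?_, ?_⟩
    · rw [map_mul, map_mul, this.1, mul_one, map_inv, mul_inv_cancel]
    · exact this.2.map (r g)
  have pg : IsPGroup 2 Q := fun a => two_coe.2 ((mQ ⟨a, mC (QC a a.2)⟩).1 a.2).2
  have act : ∀ n : centralizer ({z} : Set G), ψ n = 1 → ∃ q ∈ Q, ∀ a ∈ Q, r (n : G) a = r q a :=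
    fun n hn => by
      obtain ⟨q, hq, k, hk, tq, ok, e, -⟩ := exists_two_odd n
      have kn : zpowers n ≤ ψ.ker := zpowers_le.2 hn
      refine ⟨q, (mQ q).2 ⟨kn hq, two_coe.1 tq⟩, fun a ha => ?_⟩
      obtain ⟨a1, m, a2⟩ := (mQ ⟨a, mC (QC a ha)⟩).1 ha
      have c := GT.commute_of_coprime_of_isNilpotent (H := φ.ker) (a := pz z k)
        (b := pz z ⟨a, mC (QC a ha)⟩) (kn hk) a1
        (((Nat.coprime_two_right.2 ok).pow_right m).coprime_dvd_left (orderOf_map_dvd _ k)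
          |>.coprime_dvd_right ((orderOf_map_dvd _ _).trans
            (orderOf_dvd_of_pow_eq_one (Subtype.ext a2))))
      have c2 : Cg (zpowers z) (r (k : G) a) a :=
        (pz_eq (a := k * ⟨a, mC (QC a ha)⟩ * k⁻¹) (b := ⟨a, mC (QC a ha)⟩)).1 (by
          rw [map_mul, map_mul, c.eq, map_inv, mul_inv_cancel_right])
      have c3 : r (k : G) a = a := (c2.cases h.iz.1).elim id fun e => by
        rw [e, DD.fix_of_odd (n := (k : G)) (by rwa [orderOf_coe]) e (r_eq_iff.2 (cC k)) h.iz.1,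
          mul_one]
      rw [e, coe_mul, ← r_r, c3]
  let X : centralizer ({z} : Set G) := ⟨x, mC h.xz⟩
  have x1 : ψ X ^ 3 = 1 := by rw [← map_pow, show X ^ 3 = 1 from Subtype.ext h.x3, map_one]
  have x2 : ψ X ≠ 1 := fun e => by
    have := h.sc.ord ▸ φ.ker.orderOf_dvd_natCard (x := pz z X) e
    exact absurd (Nat.Coprime.eq_one_of_dvd h3.symm this) (by norm_num)
  have tw : ∀ a : centralizer ({z} : Set G), Two (a : G) → ψ a * ψ a = 1 := fun a ha =>
    s3_two _ ((two_coe.2 ha).hom ψ)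
  have ou : ∀ {s} (hs : Out z Q s), ψ ⟨s, mC hs.cz⟩ * ψ ⟨s, mC hs.cz⟩ = 1 ∧ ψ ⟨s, mC hs.cz⟩ ≠ 1 :=
    fun hs => ⟨tw _ hs.two, fun e => hs.nm ((mQ ⟨_, mC hs.cz⟩).2 ⟨e, hs.two⟩)⟩
  have T := h.tr pg ((mQ ⟨z, mC (.refl z)⟩).2 ⟨by
    rw [MonoidHom.comp_apply, pz_eq_one.2 (mem_zpowers z), map_one], .of_inv h.iz.1⟩) QC (nrm x h.xz)
  refine ⟨Q, T, nrm, fun a b ha hb hab => ?_, fun s hs => ?_, fun s s' hs hs' => ?_,
    fun A hA h4 h5 a ha => ?_, ?_⟩
  · have := tw (⟨a, mC ha.cz⟩ * ⟨b, mC hb.cz⟩) hab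
    rw [map_mul] at this
    exact (mQ (⟨a, mC ha.cz⟩ * ⟨b, mC hb.cz⟩)).2 ⟨by
      rw [map_mul, ((s3_facts _ _ _ x1 x2 (ou ha).1 (ou ha).2).2.2 (ou hb).1 (ou hb).2).1 this], hab⟩
  · obtain ⟨q, hq, e⟩ := act (⟨s, mC hs.cz⟩ * X * (⟨s, mC hs.cz⟩)⁻¹ * X) (by
      simp only [map_mul, map_inv]; exact (s3_facts _ _ 1 x1 x2 (ou hs).1 (ou hs).2).1)
    refine ⟨q, hq, fun a ha => ?_⟩
    rw [← e _ (T.nx _ (T.nx _ (nrm s hs.cz a ha)))]
    change _ = r (s * x * s⁻¹ * x) _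
    rw [← r_r, T.rrr]; simp only [r_def]; group
  · have key : ∀ g : centralizer ({z} : Set G), ψ ⟨s', mC hs'.cz⟩ * (ψ g)⁻¹ = 1 →
        ∃ q ∈ Q, ∀ a ∈ Q, r s' a = r q (r (g : G) a) := fun g hg => by
      obtain ⟨q, hq, e⟩ := act (⟨s', mC hs'.cz⟩ * g⁻¹) (by rw [map_mul, map_inv, hg])
      refine ⟨q, hq, fun a ha => ?_⟩
      rw [← e _ (nrm _ (cC g) a ha), r_r]
      simp
    rcases ((s3_facts _ _ _ x1 x2 (ou hs).1 (ou hs).2).2.2 (ou hs').1 (ou hs').2).2 with e | e | e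
    · obtain ⟨q, hq, e⟩ := key _ e
      exact ⟨q, hq, Or.inl e⟩
    · obtain ⟨q, hq, e⟩ := key (X * ⟨s, mC hs.cz⟩) (by rwa [map_mul])
      exact ⟨q, hq, Or.inr (Or.inl fun a ha => by rw [e a ha, r_r x]; rfl)⟩
    · obtain ⟨q, hq, e⟩ := key (X * (X * ⟨s, mC hs.cz⟩)) (by rwa [map_mul, map_mul])
      exact ⟨q, hq, Or.inr (Or.inr fun a ha => by rw [e a ha, r_r x s, r_r x]; rfl)⟩
  · by_contra hn
    have o : Out z Q a := ⟨h4 a ha, .of_mem hA ha, hn⟩
    have := tw (X * ⟨a, mC o.cz⟩ * X⁻¹ * ⟨a, mC o.cz⟩) 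
      (by exact Two.of_mem hA (mul_mem (h5 x h.xz a ha) ha))
    simp only [map_mul, map_inv] at this
    exact (s3_facts _ _ 1 x1 x2 (ou o).1 (ou o).2).2.1 this
  · obtain ⟨g, hg⟩ := (h1.comp (pz_surj z)) (Equiv.swap 0 1)
    obtain ⟨a, -, b, -, ta, ob, e, -⟩ := exists_two_odd g
    refine ⟨a, cC a, two_coe.1 ta, fun h' => ?_⟩
    have e2 : ψ g = Equiv.swap 0 1 := hg
    rw [e, map_mul, ((mQ a).1 h').1, one_mul] at e2
    have := ob.of_dvd_nat (orderOf_map_dvd ψ b)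
    rw [e2, orderOf_eq_prime (p := 2) (by decide) (by decide)] at this
    exact absurd this (by decide)

theorem tri (S : Sylow 2 G) (hS : ∀ g ∈ S, Commute g z) (o : One G)
    (hw : ∃ w, Commute w z ∧ w * w = 1 ∧ w ∉ zpowers z) :
    (∃ S : Sylow 2 G, Tr z x (S : Subgroup G)) ∨
      (∃ Q, Loc z x Q) ∧ Group.IsSolvable (centralizer ({z} : Set G)) := by
  have sc := h.sc
  rcases S3331.concl _ _ rfl _ sc with ⟨N, _, h1, h2, h3 | ⟨⟨e⟩⟩⟩ | ⟨N, _, -, h2, ⟨e⟩⟩ | ⟨⟨e⟩⟩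
  · obtain ⟨P, hP⟩ := exists_pp 2 h1
    refine Or.inl (h.tr_of_quot S hS hP.isPGroup (fun h4 => ?_) fun a ha =>
      (mem_normalizer_iff.1 (hP.normalizer_le (normalizer_eq_top N ▸ mem_top _)) a).1 ha)
    rw [← relIndex_mul_index hP.le, Nat.prime_two.dvd_mul, index, h3] at h4
    exact h4.elim hP.idx (by decide)
  · have hk : (e.toMonoidHom.comp (QuotientGroup.mk' N)).ker = N := by
      ext a; simp
    refine Or.inr ⟨h.loc_of_quot (e.toMonoidHom.comp (QuotientGroup.mk' N))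
      (e.surjective.comp (QuotientGroup.mk'_surjective N)) (hk.symm ▸ h1) (hk.symm ▸ h2), ?_⟩
    have s1 : Group.IsSolvable (_ ⧸ N) := Ch.burnside_isSolvable_of_card_eq Nat.prime_two
      Nat.prime_three (a := 1) (b := 1) (by rw [Nat.card_congr e.toEquiv, Nat.card_perm]; simp; rfl)
    refine (Group.isSolvable_iff_subgroup_quotient ((zpowers z).subgroupOf _)).2
      ⟨Group.isSolvable_of_comm fun a b => Subtype.ext (Subtype.ext (commute_Z (cC a) b.2).eq),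
        (Group.isSolvable_iff_subgroup_quotient N).2 ⟨inferInstance, s1⟩⟩
  · let f := e.toMonoidHom.comp (QuotientGroup.mk' N)
    have hf : Function.Surjective f := e.surjective.comp (QuotientGroup.mk'_surjective N)
    have hk : f.ker = N := by ext a; simp [f]
    have pN : IsPGroup 2 f.ker := hk ▸ fun a => ⟨1, Subtype.ext (h2 a a.2)⟩
    have sc' := sc.map hf (sc.iv_of_isPGroup (fun k hk => f.normal_ker.conj_mem k hk _)
      (by norm_num) pN)
    obtain ⟨W, w1, w2, w3⟩ := sc'.cfg cfg_alt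
    refine Or.inl (h.tr_of_quot S hS (w2.comap_of_ker_isPGroup f pN) (fun h4 => ?_)
      fun a ha => by simpa using w3 _ ha)
    rw [index_comap_of_surjective _ hf] at h4
    have h5 := sc'.card_mod (sc'.iv_of_isPGroup w3 (by norm_num) w2)
    have h6 := W.card_mul_index
    rw [nat_card_alternatingGroup] at h6
    obtain ⟨k, hk⟩ := w2.exists_card_eq
    obtain ⟨j, hj⟩ := h4
    have h7 : k ≠ 0 := by rintro rfl; exact w1 (eq_bot_of_card_eq _ hk)
    obtain _ | _ | k := k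
    · omega
    · omega
    · rw [hk, hj, pow_add, pow_add] at h6
      simp [Nat.factorial] at h6
      have : 2 ^ k * 2 * 2 * (2 * j) = 8 * (2 ^ k * j) := by ring
      omega
  exfalso
  obtain ⟨w, w1, w2, w3⟩ := hw
  have i2 : ∀ a : centralizer ({z} : Set G), (a : G) ∉ zpowers z → (a : G) * a ∈ zpowers z →
      orderOf (e (pz z a)) = 2 := fun a h1 h2 => by
    rw [MulEquiv.orderOf_eq, ← in_iff]
    exact ⟨by rw [← map_mul, pz_eq_one]; exact h2, fun h' => h1 (pz_eq_one.1 h')⟩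
  have key : ∀ a : centralizer ({z} : Set G), orderOf (e (pz z a)) = 2 → (a : G) * a = 1 :=
    fun a ha => by
      obtain ⟨c, hc⟩ := isConj_iff.1 (Cl.L2.isConjS_of_orderOf_two
        (i2 ⟨w, mC w1⟩ w3 (w2 ▸ one_mem _)) ha)
      obtain ⟨c, rfl⟩ := (e.surjective.comp (pz_surj z)) c
      simp only [Function.comp, ← map_inv, ← map_mul, e.injective.eq_iff, pz_eq] at hc
      have h4 : r (c : G) w * r (c : G) w = 1 := by rw [← map_mul, w2, map_one]
      rcases hc.symm.cases h.iz.1 with h5 | h5 <;> rw [h5]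
      · exact h4
      · rw [(cC _).symm.mul_mul_mul_comm, h.iz.1, mul_one]; exact h4
  have : Fact (Nat.Prime 7) := ⟨by norm_num⟩
  obtain ⟨g, hg⟩ : 4 ∈ Set.range (orderOf (G := Matrix.ProjectiveSpecialLinearGroup (Fin 2) (ZMod 7))) := by
    rw [Cl.L2.range_orderOf_PSL 7]; simp
  obtain ⟨g, rfl⟩ := (e.surjective.comp (pz_surj z)) g
  have h4 : orderOf (e (pz z (g * g))) = 2 := by
    rw [map_mul, map_mul, ← pow_two, orderOf_pow' _ two_ne_zero]
    simp only [Function.comp] at hg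
    rw [hg]; rfl
  obtain ⟨c, hc⟩ := o ((g * g : centralizer ({z} : Set G)) : G) z ⟨key _ h4, fun h' => by
    rw [show g * g = 1 from Subtype.ext h'] at h4; simp at h4⟩ h.iz
  rw [coe_mul, map_mul] at hc
  have h5 : Commute (r c (g : G)) z := by
    have := (Commute.refl (r c (g : G))).mul_right (.refl _)
    rwa [hc] at this
  refine h.iz.2 (hc.symm.trans (key ⟨_, mC h5⟩ (i2 _ (fun h' => h.iz.2 ?_) (hc.symm ▸ mem_zpowers z))))
  rcases (mem_Z h.iz.1).1 h' with h6 | h6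
  · rw [← hc, show r c (g : G) = 1 from h6, one_mul]
  · rw [← hc, show r c (g : G) = z from h6, h.iz.1]

end Sx

end Cfsg.Agent.Inv.Six
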