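import Mathlib
import Cfsg.Agent.GT.Conj
import Cfsg.Agent.GT.Cores
import Cfsg.Agent.Inv.SylowElt

/-! Intersections of Sylow subgroups in quotients. -/

set_option autoImplicit false

namespace Cfsg.Agent.Inv.SI

open Cfsg Subgroup

variable {G : Type*} [Group G] [Finite G] {p : ℕ} [Fact p.Prime]

theorem exists_isPGroup_map_eq {Q : Type*} [Group Q] {f : G →* Q} (hf : Function.Surjective f)
    {D : Subgroup Q} (hD : IsPGroup p D) : ∃ P : Subgroup G, IsPGroup p P ∧ P.map f = D := by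
  obtain ⟨R⟩ : Nonempty (Sylow p (D.comap f)) := inferInstance
  refine ⟨(R : Subgroup (D.comap f)).map (D.comap f).subtype, R.isPGroup'.map _,
    le_antisymm (map_le_iff_le_comap.2 (map_subtype_le _)) fun d hd => ?_⟩
  have hs := f.subgroupComap_surjective_of_surjective D hf
  have h1 := (R.mapSurjective hs).3 (hD.to_subgroup ⊤) le_top
  obtain ⟨x, hx, hxd⟩ : (⟨d, hd⟩ : D) ∈ (R : Subgroup (D.comap f)).map (f.subgroupComap D) :=
    h1.le (mem_top _)
  exact ⟨x, ⟨x, hx, rfl⟩, congrArg Subtype.val hxd⟩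

theorem exists_sylow_ge_map_eq {Q : Type*} [Group Q] {f : G →* Q} (hf : Function.Surjective f)
    {P : Subgroup G} (hP : IsPGroup p P) (S' : Sylow p Q) (h : P.map f ≤ S') :
    ∃ S : Sylow p G, P ≤ S ∧ (S : Subgroup G).map f = S' := by
  have := Finite.of_surjective f hf
  obtain ⟨S₀⟩ : Nonempty (Sylow p G) := inferInstance
  obtain ⟨g, hg⟩ := MulAction.exists_smul_eq Q (S₀.mapSurjective hf) S'
  obtain ⟨g, rfl⟩ := hf g
  have h1 : ((g • S₀ : Sylow p G) : Subgroup G).map f = S' := by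
    rw [← hg, GT.coe_smul_sylow_eq_map_conj, GT.coe_smul_sylow_eq_map_conj, GT.map_map_conj]
    rfl
  obtain ⟨k, hk, hk'⟩ := exists_conj_mem_sylow_of_le hP (map_le_iff_le_comap.1 h) (g • S₀)
    (map_le_iff_le_comap.1 h1.le)
  refine ⟨k⁻¹ • (g • S₀), fun x hx => ?_, ?_⟩
  · rw [GT.coe_smul_sylow_eq_map_conj, GT.mem_map_conj_inv]
    exact hk' x hx
  · rw [GT.coe_smul_sylow_eq_map_conj, GT.map_map_conj, h1]
    exact GT.map_conj_eq_of_mem (by rw [map_inv]; exact inv_mem hk)

/-- The intersection of two distinct Sylow subgroups of a quotient is covered by the intersection of two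
distinct Sylow subgroups. -/
theorem exists_lift {Q : Type*} [Group Q] {f : G →* Q} (hf : Function.Surjective f)
    {S' T' : Sylow p Q} (h : S' ≠ T') : ∃ S T : Sylow p G, S ≠ T ∧
      ∃ P ≤ (S : Subgroup G) ⊓ T, P.map f = (S' : Subgroup Q) ⊓ T' := by
  obtain ⟨P, hP, hPf⟩ := exists_isPGroup_map_eq hf (D := (S' : Subgroup Q) ⊓ T')
    (S'.isPGroup'.to_le inf_le_left)
  obtain ⟨S, hS, hS'⟩ := exists_sylow_ge_map_eq hf hP S' (hPf.le.trans inf_le_left)
  obtain ⟨T, hT, hT'⟩ := exists_sylow_ge_map_eq hf hP T' (hPf.le.trans inf_le_right)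
  refine ⟨S, T, ?_, P, le_inf hS hT, hPf⟩
  rintro rfl
  exact h (Sylow.ext (hS'.symm.trans hT'))

theorem exists_normal_sylow_or_ne :
    (∃ P : Sylow p G, (P : Subgroup G).Normal) ∨ ∃ S T : Sylow p G, S ≠ T := by
  by_cases h : ∃ S T : Sylow p G, S ≠ T
  · exact Or.inr h
  · push Not at h
    obtain ⟨P⟩ : Nonempty (Sylow p G) := inferInstance
    have : Subsingleton (Sylow p G) := ⟨h⟩
    exact Or.inl ⟨P, P.normal_of_subsingleton⟩

theorem exists_normal_sylow_of_isPGroup (h : IsPGroup p G) :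
    ∃ P : Sylow p G, (P : Subgroup G).Normal := by
  obtain ⟨P, hP⟩ := (h.to_subgroup ⊤).exists_le_sylow
  exact ⟨P, top_le_iff.1 hP ▸ inferInstance⟩

omit [Finite G] [Fact p.Prime] in
/-- A self-centralizing normal `p`-subgroup whose automorphism group is a `p`-group. -/
theorem isPGroup_of_mulAut {N : Subgroup G} [N.Normal] (hN : IsPGroup p N)
    (hc : centralizer (N : Set G) ≤ N) (h : IsPGroup p (MulAut N)) : IsPGroup p G := by
  intro g
  obtain ⟨k, hk⟩ := h (MulAut.conjNormal g)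
  have h1 : g ^ p ^ k ∈ N := by
    refine hc fun x hx => ?_
    have := congrArg (fun φ : MulAut N => ((φ ⟨x, hx⟩ : N) : G)) hk
    simp only [← map_pow, MulAut.conjNormal_apply, MulAut.one_apply] at this
    exact (mul_inv_eq_iff_eq_mul.1 this).symm
  obtain ⟨l, hl⟩ := hN ⟨_, h1⟩
  exact ⟨k + l, by rw [pow_add, pow_mul]; exact congrArg Subtype.val hl⟩

end Cfsg.Agent.Inv.SI
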