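import Mathlib
import Cfsg.Agent.Inv.U33A
import Cfsg.Agent.ABG.URankCoord

/-!
A simple group of order 6048 is `PSU₃(3)`.
-/

set_option autoImplicit false

namespace Cfsg.Agent.Inv.U33

open Finset Cfsg.Agent.Ch Cfsg.Agent.Inv.PB Cfsg.Agent.Inv.M11

variable {G : Type*} [Group G] [Fintype G] [DecidableEq G]

theorem T_conj {g : G} (hg : g ∈ (T : Finset G)) (c : G) : c * g * c⁻¹ ∈ (T : Finset G) := by
  obtain ⟨h1, h2⟩ := mem_T.1 hg
  exact mem_T.2 ⟨fun h => h1 (by simpa [conj_eq_one_iff] using h), by rw [conj_pow, h2]; simp⟩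

theorem T_inv {g : G} (hg : g ∈ (T : Finset G)) : g⁻¹ ∈ (T : Finset G) := by
  obtain ⟨h1, h2⟩ := mem_T.1 hg
  exact mem_T.2 ⟨by simpa using h1, by rw [inv_pow, h2, inv_one]⟩

theorem T_of_mem {U : Subgroup G} (hU : Nat.card U ∣ 27) {g : G} (hg : g ∈ U) (h1 : g ≠ 1) :
    g ∈ (T : Finset G) :=
  mem_T.2 ⟨h1, orderOf_dvd_iff_pow_eq_one.1 ((Subgroup.orderOf_dvd_natCard _ hg).trans hU)⟩

theorem ne_inv {g : G} (hg : g ∈ (T : Finset G)) : g ≠ g⁻¹ := fun h => by
  have h1 : g ^ 2 = 1 := by rw [pow_two]; nth_rewrite 2 [h]; simp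
  obtain ⟨h2, h3⟩ := mem_T.1 hg
  apply h2
  rw [← h3, show 27 = 2 * 13 + 1 from rfl, pow_succ, pow_mul, h1, one_pow, one_mul]

namespace Stage

variable [IsSimpleGroup G] {χ : IrrCharacter G} {a : G → ℤ} (hG : Nat.card G = 6048)
  (S : Stage χ a)
include S

omit [IsSimpleGroup G] in
theorem a_one : a 1 = 6 := by
  have := S.ha 1
  rw [← χ.2.coe_charDegree, S.deg] at this
  exact_mod_cast this.symm

omit [IsSimpleGroup G] in
theorem a_conj {g h : G} (hc : IsConj g h) : a g = a h := by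
  have := χ.isCharacter.isClassFunction.eq_of_isConj hc
  rw [S.ha, S.ha] at this
  exact_mod_cast this

omit [IsSimpleGroup G] in
theorem a_inv (g : G) : a g⁻¹ = a g := by
  have := CT.apply_inv_of_int χ.isCharacter (S.ha g)
  rw [S.ha] at this
  exact_mod_cast this

include hG

theorem val {g : G} (hg : g ∈ (T : Finset G)) : a g = 3 ∨ a g = 0 ∨ a g = -3 := by
  have h1 : χ ≠ irrOne G := by rintro rfl; have := S.deg; rw [deg_irrOne] at this; omega
  have h2 := CT.abs_lt_deg (by rw [hG]; norm_num) h1 (mem_T.1 hg).1 (S.ha g)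
  have h3 := CT.modEq_mul χ.isCharacter Nat.prime_three (k := 3) (mem_T.1 hg).2
    (Commute.one_right g) (by rw [mul_one]; exact S.ha g) (S.ha 1)
  rw [S.deg, abs_lt] at h2
  rw [S.a_one] at h3
  omega

theorem exists_z : ∃ z ∈ (T : Finset G), a z = -3 ∧ Nat.card (C z) = 108 ∧
    (∀ g ∈ (T : Finset G), a g = 0 ∨ a g = -3) ∧
    (∀ g ∈ (T : Finset G), a g = -3 → IsConj z g) ∧ (T : Finset G).card = 728 := by
  classical
  obtain ⟨U, -, hU⟩ := CT.exists_le_card_pow (⊤ : Subgroup G) (k := 3) Nat.prime_three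
    (by rw [Subgroup.card_top, hG]; norm_num)
  obtain ⟨z, hz, hz3⟩ : ∃ z ∈ (T : Finset G), a z = -3 := by
    by_contra h
    push Not at h
    have h1 := CT.sum_int_eq_fix χ.isCharacter U (a := a) fun g _ => S.ha g
    have h2 := CT.sum_int_eq_fix (χ.isCharacter.mul χ.isCharacter) U (a := fun g => a g * a g)
      fun g _ => by simp [S.ha]
    have h3 := CT.sum_subgroup_const U (fun g => a g * a g - 3 * a g) (c := 0) fun g hg h1 => by
      have h4 := T_of_mem hU.dvd hg h1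
      rcases S.val hG h4 with h5 | h5 | h5
      · simp [h5]
      · simp [h5]
      · exact absurd h5 (h g h4)
    rw [sum_sub_distrib, ← mul_sum, h1, h2, S.a_one, hU] at h3
    simp only [smul_zero] at h3
    omega
  have hs : ∀ F : ℤ → ℤ, ∑ g ∈ (T : Finset G), F (a g) =
      ((T : Finset G).filter fun g => a g = 3).card * F 3 +
      ((T : Finset G).filter fun g => a g = 0).card * F 0 +
      ((T : Finset G).filter fun g => a g = -3).card * F (-3) := fun F => by
    rw [CT.sum_eq_sum_count T a {3, 0, -3} (fun g hg => by simpa using S.val hG hg) F,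
      sum_insert (by simp), sum_pair (by simp), add_assoc]
  have h1 := S.s1
  have h2 := S.s2
  have h3 := hs fun _ => 1
  rw [hs fun t => 1 - t ^ 2] at h1
  rw [hs fun t => 4 * (t - 1) ^ 2 - 2 * (t - 1)] at h2
  have h4 := S.seven z hz
  have h5 := S.dvd z hz
  have h6 : (univ.filter fun g => IsConj z g) ⊆ (T : Finset G).filter fun g => a g = -3 :=
    fun g hg => by
      obtain ⟨c, rfl⟩ := isConj_iff.1 (mem_filter.1 hg).2
      exact mem_filter.2 ⟨T_conj hz c, (S.a_conj (mem_filter.1 hg).2).symm.trans hz3⟩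
  have h7 : (univ.filter fun g => IsConj z g).card = (C z).index := by
    rw [← card_isConj_eq_index, Nat.card_eq_fintype_card, Fintype.card_subtype]
  have h8 := card_le_card h6
  have h9 : (C z).index ≠ 0 := Subgroup.index_ne_zero_of_finite
  have h10 := (C z).card_mul_index
  rw [hz3] at h5
  simp only [sum_const, mul_one, nsmul_eq_mul] at h3
  norm_num at h1 h2
  have h11 : (C z).index = 56 := by omega
  have h12 : ((T : Finset G).filter fun g => a g = 3).card = 0 := by omega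
  refine ⟨z, hz, hz3, by rw [h11, hG] at h10; omega, fun g hg => ?_, fun g hg h13 => ?_, by omega⟩
  · exact (S.val hG hg).resolve_left fun h13 => by
      have := card_pos.2 ⟨g, (mem_filter (p := fun g => a g = 3)).2 ⟨hg, h13⟩⟩
      omega
  · have h14 := eq_of_subset_of_card_le h6 (by omega)
    have h15 : g ∈ univ.filter fun g => IsConj z g := h14 ▸ mem_filter.2 ⟨hg, h13⟩
    exact (mem_filter.1 h15).2

end Stage

/-- The data at the prime three. -/
structure Three (χ : IrrCharacter G) (a : G → ℤ) (z : G) : Prop extends Stage χ a where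
  card : Nat.card G = 6048
  mem : z ∈ (T : Finset G)
  az : a z = -3
  cardC : Nat.card (C z) = 108
  vals : ∀ g ∈ (T : Finset G), a g = 0 ∨ a g = -3
  conj : ∀ g ∈ (T : Finset G), a g = -3 → IsConj z g
  cardT : (T : Finset G).card = 728

namespace Three

variable {χ : IrrCharacter G} {a : G → ℤ} {z : G} (S : Three χ a z)
include S

theorem not_three {Q : Subgroup G} (hQ : ∀ g ∈ Q, g ^ 27 = 1) {u v : G} (hu : u ∈ Q) (hv : v ∈ Q)
    (h1 : a u = -3) (h2 : a v = -3) : v = u ∨ v = u⁻¹ := by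
  classical
  by_contra h
  rw [not_or] at h
  have h0 := S.toStage.a_one
  have hu1 : u ≠ 1 := by rintro rfl; omega
  have hv1 : v ≠ 1 := by rintro rfl; omega
  have h3 := ne_inv (mem_T.2 ⟨hu1, hQ u hu⟩)
  have h4 := CT.sum_int_eq_fix χ.isCharacter Q (a := a) fun g _ => S.ha g
  rw [← sum_subtype (univ.filter (· ∈ Q)) (by simp) a] at h4
  have h5 : ∑ g ∈ ({1, v, u, u⁻¹} : Finset G), -a g ≤ ∑ g ∈ univ.filter (· ∈ Q), -a g :=
    sum_le_sum_of_subset_of_nonneg (fun g hg => by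
      simp only [mem_insert, mem_singleton] at hg
      rcases hg with rfl | rfl | rfl | rfl <;> simp [hu, hv]) fun g hg h6 => by
      have := S.vals g (mem_T.2 ⟨fun e => h6 (by simp [e]), hQ g (by simpa using hg)⟩)
      omega
  rw [sum_insert (by simp [hu1.symm, hv1.symm, hu1]), sum_insert (by simp [h]), sum_pair h3,
    sum_neg_distrib, h4, S.toStage.a_inv, h0, h1, h2] at h5
  have : (0 : ℤ) ≤ Nat.card Q * CT.fix (χ : G → ℂ) Q := by positivity
  omega

theorem eq_of_commute {u v : G} (hu : u ∈ (T : Finset G)) (hv : v ∈ (T : Finset G))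
    (h1 : a u = -3) (h2 : a v = -3) (hc : Commute u v) : v = u ∨ v = u⁻¹ := by
  have h3 : IsMulCommutative (Subgroup.closure ({u, v} : Set G)) :=
    Subgroup.isMulCommutative_closure fun x hx y hy => by
      rcases hx with rfl | rfl <;> rcases hy with rfl | rfl
      exacts [rfl, hc.eq, hc.symm.eq, rfl]
  refine S.not_three (Q := Subgroup.closure {u, v}) (fun g hg => ?_)
    (Subgroup.subset_closure (by simp)) (Subgroup.subset_closure (by simp)) h1 h2
  induction hg using Subgroup.closure_induction with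
  | mem x hx => rcases hx with rfl | rfl; exacts [(mem_T.1 hu).2, (mem_T.1 hv).2]
  | one => simp
  | mul x y hx hy h4 h5 =>
    rw [Commute.mul_pow (setLike_mul_comm hx hy), h4, h5, one_mul]
  | inv x _ h4 => rw [inv_pow, h4, inv_one]

theorem card_C_dvd {u : G} (hu : u ∈ (T : Finset G)) (h : a u = 0) : Nat.card (C u) ∣ 27 := by
  have h1 := S.seven u hu
  have h2 := S.dvd u hu
  have h3 := (C u).card_mul_index
  rw [h] at h2
  obtain ⟨k, hk⟩ : 224 ∣ (C u).index := by omega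
  rw [hk, S.card] at h3
  exact Dvd.intro k (by nlinarith)

theorem eq_of_comm {u v w : G} (hu : u ∈ (T : Finset G)) (hv : v ∈ (T : Finset G))
    (hw : w ∈ (T : Finset G)) (h1 : a v = -3) (h2 : a w = -3) (h3 : Commute v u)
    (h4 : Commute w u) : w = v ∨ w = v⁻¹ := by
  rcases S.vals u hu with h | h
  · exact S.not_three (Q := C u) (fun g hg => orderOf_dvd_iff_pow_eq_one.1
      ((Subgroup.orderOf_dvd_natCard _ hg).trans (S.card_C_dvd hu h))) (mem_C.2 h3) (mem_C.2 h4)
      h1 h2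
  · rcases S.eq_of_commute hu hv h h1 h3.symm with rfl | rfl <;>
      rcases S.eq_of_commute hu hw h h2 h4.symm with rfl | rfl <;> simp

theorem orderOf_z : orderOf z = 3 := by
  have h0 := (mem_T.1 S.mem).1
  have h1 : z ^ 2 ∈ (T : Finset G) := mem_T.2 ⟨fun h => ne_inv S.mem
    (eq_inv_of_mul_eq_one_left (by rw [← pow_two, h])), by
      rw [← pow_mul, mul_comm, pow_mul, (mem_T.1 S.mem).2, one_pow]⟩
  have h2 := CT.apply_pow_of_int χ.isCharacter (S.ha z) (k := 2)
    ((Nat.Prime.coprime_iff_not_dvd Nat.prime_two).2 (three_dvd S.mem).2.2)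
  rw [S.ha, S.az] at h2
  have : Fact (Nat.Prime 3) := ⟨Nat.prime_three⟩
  refine orderOf_eq_prime ?_ h0
  rcases S.eq_of_commute S.mem h1 S.az (by exact_mod_cast h2) ((Commute.refl z).pow_right 2) with
    h | h
  · exact absurd (by simpa [pow_two] using h) h0
  · rw [pow_succ, h, inv_mul_cancel]

theorem mem_P {y : G} : y ∈ P z ↔ y = 1 ∨ y = z ∨ y = z⁻¹ := by
  refine ⟨fun h => ?_, ?_⟩
  · obtain ⟨k, hk, rfl⟩ := mem_image.1 (mem_zpowers_iff_mem_range_orderOf.1 h)
    rw [S.orderOf_z, mem_range] at hk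
    interval_cases k
    · simp
    · simp
    · exact Or.inr (Or.inr (eq_inv_of_mul_eq_one_left
        (by rw [← pow_succ]; exact orderOf_dvd_iff_pow_eq_one.1 S.orderOf_z.dvd)))
  · rintro (rfl | rfl | rfl)
    exacts [one_mem _, Subgroup.mem_zpowers _, inv_mem (Subgroup.mem_zpowers _)]

theorem mem_N {g : G} : g ∈ N z ↔ g * z * g⁻¹ = z ∨ g * z * g⁻¹ = z⁻¹ := by
  rw [Blk.One.mem_normalizer_zpowers_iff, S.mem_P, or_iff_right]
  simpa [conj_eq_one_iff] using (mem_T.1 S.mem).1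

theorem card_N : Nat.card (N z) = 216 := by
  have : Fact (Nat.Prime 3) := ⟨Nat.prime_three⟩
  obtain ⟨e, he, h⟩ := PS.exists_card_normalizer S.orderOf_z
  change Nat.card (N z) = e * Nat.card (C z) at h
  have h1 : e = 1 ∨ e = 2 := (Nat.dvd_prime Nat.prime_two).1 he
  rcases h1 with rfl | rfl
  · exfalso
    have h2 : C z = N z := Subgroup.eq_of_le_of_card_ge (C_le_N z) (by omega)
    obtain ⟨c, hc⟩ := isConj_iff.1 (S.conj _ (T_inv S.mem) ((S.toStage.a_inv z).trans S.az))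
    have h3 : c ∈ C z := h2 ▸ S.mem_N.2 (Or.inr hc)
    rw [mem_C.1 h3, mul_inv_cancel_right] at hc
    exact ne_inv S.mem hc
  · rw [h, S.cardC]

theorem commute_of_mem {u : G} (hu : u ∈ (T : Finset G)) (h : u ∈ N z) : Commute z u := by
  rcases S.mem_N.1 h with h1 | h1
  · exact (mul_inv_eq_iff_eq_mul.1 h1).symm
  · exfalso
    have h2 : Commute (u ^ 2) z := by
      change u ^ 2 * z = z * u ^ 2
      calc u ^ 2 * z = u * (u * z * u⁻¹) * u⁻¹ * u ^ 2 := by simp [pow_two, mul_assoc]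
        _ = (u * z * u⁻¹)⁻¹ * u ^ 2 := by nth_rewrite 1 [h1]; group
        _ = _ := by rw [h1, inv_inv]
    have h3 := h2.pow_left 14
    rw [← pow_mul, show 2 * 14 = 27 + 1 from rfl, pow_succ, (mem_T.1 hu).2, one_mul] at h3
    rw [h3.eq, mul_inv_cancel_right] at h1
    exact ne_inv S.mem h1

/-- A non-trivial 3-element fixes at most one point. -/
theorem eq_of_fix {u : G} (hu : u ∈ (T : Finset G)) {x y : G ⧸ N z} (hx : u • x = x)
    (hy : u • y = y) : x = y := by
  have key : ∀ g : G, u • (g : G ⧸ N z) = g → Commute (g * z * g⁻¹) u := fun g hg => by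
    have h1 : g⁻¹ * u * g⁻¹⁻¹ ∈ N z := by
      have := QuotientGroup.eq.1 hg.symm
      simpa [mul_assoc] using this
    have h2 := (S.commute_of_mem (T_conj hu g⁻¹) h1).eq
    change g * z * g⁻¹ * u = u * (g * z * g⁻¹)
    calc g * z * g⁻¹ * u = g * (z * (g⁻¹ * u * g⁻¹⁻¹)) * g⁻¹ := by group
      _ = _ := by rw [h2]; group
  obtain ⟨g, rfl⟩ := QuotientGroup.mk_surjective x
  obtain ⟨h, rfl⟩ := QuotientGroup.mk_surjective y
  have h1 : ∀ g : G, a (g * z * g⁻¹) = -3 := fun g =>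
    (S.toStage.a_conj (isConj_iff.2 ⟨g, rfl⟩)).symm.trans S.az
  refine QuotientGroup.eq.2 (S.mem_N.2 ?_)
  refine (S.eq_of_comm hu (T_conj S.mem g) (T_conj S.mem h) (h1 g) (h1 h) (key g hx)
    (key h hy)).imp (fun e => ?_) fun e => ?_
  · calc _ = g⁻¹ * (h * z * h⁻¹) * g := by group
      _ = _ := by rw [e]; group
  · calc _ = g⁻¹ * (h * z * h⁻¹) * g := by group
      _ = _ := by rw [e]; group

theorem card_pts : Nat.card (G ⧸ N z) = 28 := by
  have := (N z).card_mul_index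
  rw [S.card_N, S.card, Subgroup.index_eq_card] at this
  omega

/-- The normalizer of `⟨z⟩` has a normal Sylow 3-subgroup. -/
theorem mem_U {U : Subgroup G} (hU : Nat.card U = 27) (hle : U ≤ N z) {v : G}
    (hv : v ∈ (T : Finset G)) (hN : v ∈ N z) : v ∈ U := by
  classical
  let r : G ⧸ N z → G := fun x => if x = (1 : G) then 1 else x.out
  have hr : ∀ x, (r x : G ⧸ N z) = x := fun x => by
    by_cases h : x = (1 : G) <;> simp [r, h]
  have hfix : ∀ x, ∀ u ∈ N z, (r x * u * (r x)⁻¹) • x = x := fun x u hu => by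
    nth_rewrite 3 [← hr x]
    nth_rewrite 4 [← hr x]
    exact QuotientGroup.eq.2 (by simpa [mul_assoc] using hu)
  let f : (G ⧸ N z) × {u : U // u ≠ 1} → (T : Finset G) := fun q =>
    ⟨r q.1 * q.2 * (r q.1)⁻¹, T_conj (T_of_mem hU.dvd q.2.1.2 fun e => q.2.2 (Subtype.ext e)) _⟩
  have h1 : Function.Injective f := fun q q' h => by
    have h2 : r q.1 * q.2 * (r q.1)⁻¹ = r q'.1 * q'.2 * (r q'.1)⁻¹ := congrArg Subtype.val h
    have h3 : q.1 = q'.1 := S.eq_of_fix (f q).2 (hfix _ _ (hle q.2.1.2))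
      (by rw [h]; exact hfix _ _ (hle q'.2.1.2))
    rw [h3] at h2
    exact Prod.ext h3 (Subtype.ext (Subtype.ext (by simpa using h2)))
  have h2 : Function.Bijective f := (Nat.bijective_iff_injective_and_card f).2 ⟨h1, by
    have h3 : Nat.card {u : U // u ≠ 1} = 26 := by
      rw [Nat.card_eq_fintype_card, Fintype.card_subtype_compl, ← Nat.card_eq_fintype_card, hU]
      simp
    rw [Nat.card_prod, S.card_pts, h3, Nat.card_eq_fintype_card, Fintype.card_coe, S.cardT]⟩
  obtain ⟨⟨x, u⟩, h3⟩ := h2.2 ⟨v, hv⟩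
  have h4 : r x * u * (r x)⁻¹ = v := congrArg Subtype.val h3
  have h5 : x = (1 : G) := S.eq_of_fix hv (h4 ▸ hfix _ _ (hle u.1.2))
    (QuotientGroup.eq.2 (by simpa using hN))
  rw [← h4, h5]
  simp [r]

theorem mem_P_of {u : G} (hu : u ∈ (T : Finset G)) (hc : u ∈ C z) (h : a u ≠ 0) : u ∈ P z :=
  S.mem_P.2 (Or.inr (S.eq_of_commute S.mem hu S.az ((S.vals u hu).resolve_left h)
    (mem_C.1 hc).symm))

theorem mem_P_of_invol {u t : G} (hu : u ^ 27 = 1) (hc : u ∈ C z) (ht : orderOf t = 2)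
    (h : Commute u t) : u ∈ P z := by
  by_cases h1 : u = 1
  · rw [h1]; exact one_mem _
  refine S.mem_P_of (mem_T.2 ⟨h1, hu⟩) hc fun h2 => ?_
  have := (CT.orderOf_dvd_card_centralizer h.symm).trans (S.card_C_dvd (mem_T.2 ⟨h1, hu⟩) h2)
  rw [ht] at this
  omega

theorem eq_one_of_sq {y : G} (hy : y ∈ P z) (h : y = y⁻¹) : y = 1 := by
  rcases S.mem_P.1 hy with h1 | rfl | rfl
  exacts [h1, absurd h (ne_inv S.mem), absurd h (ne_inv (T_inv S.mem))]

variable {U : Subgroup G} (hU : Nat.card U = 27) (hle : U ≤ C z)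
include hU hle

theorem conj_mem_U {g u : G} (hg : g ∈ N z) (hu : u ∈ U) : g * u * g⁻¹ ∈ U := by
  by_cases h1 : u = 1
  · simp [h1]
  exact S.mem_U hU (hle.trans (C_le_N z)) (T_conj (T_of_mem hU.dvd hu h1) g)
    (mul_mem (mul_mem hg (C_le_N z (hle hu))) (inv_mem hg))

theorem P_le : P z ≤ U :=
  (Subgroup.zpowers_le).2 (S.mem_U hU (hle.trans (C_le_N z)) S.mem (C_le_N z (mem_C_self z)))

theorem quot {u v : G} (hu : u ∈ U) (hv : v ∈ U) :
    (u * v)⁻¹ * (v * u) ∈ P z ∧ u ^ 9 ∈ P z := by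
  have : Fact (Nat.Prime 3) := ⟨Nat.prime_three⟩
  have : ((P z).subgroupOf U).Normal := ⟨fun y hy g => by
    change (g : G) * y * (g : G)⁻¹ ∈ P z
    rw [comm_of_mem (y := (y : G)) (hle g.2) hy, mul_inv_cancel_right]
    exact hy⟩
  have h1 := ((P z).subgroupOf U).card_mul_index
  rw [Nat.card_congr (Subgroup.subgroupOfEquivOfLe (S.P_le hU hle)).toEquiv, Nat.card_zpowers,
    S.orderOf_z, hU, Subgroup.index_eq_card] at h1
  have h2 : Nat.card (U ⧸ (P z).subgroupOf U) = 3 ^ 2 := by omega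
  have h3 := IsPGroup.isMulCommutative_of_card_eq_prime_sq h2
  have h5 : (((⟨u, hu⟩ : U) * (⟨v, hv⟩ : U) : U) : U ⧸ (P z).subgroupOf U) =
      ((⟨v, hv⟩ : U) * (⟨u, hu⟩ : U) : U) := by
    rw [QuotientGroup.mk_mul, QuotientGroup.mk_mul]
    exact h3.is_comm.comm _ _
  refine ⟨Subgroup.mem_subgroupOf.1 (QuotientGroup.eq.1 h5), ?_⟩
  have h4 := pow_card_eq_one' (x := ((⟨u, hu⟩ : U) : U ⧸ (P z).subgroupOf U))
  rw [h2, ← QuotientGroup.mk_pow, QuotientGroup.eq_one_iff] at h4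
  exact h4

variable [IsSimpleGroup G]

theorem mem_C_of_invol {t : G} (ht : orderOf t = 2) (hN : t ∈ N z) : t ∈ C z := by
  classical
  by_contra h
  refine not_six (by rw [S.card]; norm_num) S.deg (K := U) ?_ ht
    (Subgroup.mem_normalizer_fintype fun u hu => S.conj_mem_U hU hle hN hu) fun k hk hc => ?_
  · have h1 := CT.sum_eq_fix χ.isCharacter U
    rw [CT.sum_subgroup_off (S.P_le hU hle) _ (c := 0) (fun u hu h2 => by
      rw [S.ha]
      by_contra h3
      exact h2 (S.mem_P_of (T_of_mem hU.dvd hu (by rintro rfl; exact h2 (one_mem _))) (hle hu)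
        (by exact_mod_cast h3))),
      CT.sum_zpowers_prime χ.isCharacter (S.ha z) Nat.prime_three S.orderOf_z, S.deg, S.az,
      hU] at h1
    norm_num at h1
    exact h1
  · rcases S.mem_P.1 (S.mem_P_of_invol (orderOf_dvd_iff_pow_eq_one.1
      (hU ▸ Subgroup.orderOf_dvd_natCard _ hk)) (hle hk) ht hc) with h1 | rfl | rfl
    exacts [h1, absurd (mem_C.2 hc.symm.eq) h, absurd (mem_C.2 (Commute.inv_left_iff.1 hc).symm.eq) h]

theorem mem_C_of_four {h : G} (h4 : h ^ 4 = 1) (hN : h ∈ N z) : h ∈ C z := by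
  by_contra hn
  have : Fact (Nat.Prime 2) := ⟨Nat.prime_two⟩
  have hz := (S.mem_N.1 hN).resolve_left fun e => hn (mem_C.2 (mul_inv_eq_iff_eq_mul.1 e))
  have hinv : ∀ y ∈ P z, h * y * h⁻¹ = y⁻¹ := fun y hy => by
    rcases S.mem_P.1 hy with rfl | rfl | rfl
    exacts [by simp, hz, by rw [← conj_inv, hz]]
  have ht : orderOf (h * h) = 2 := orderOf_eq_prime (by rw [← pow_two, ← pow_mul, h4]) fun e =>
    hn (S.mem_C_of_invol hU hle (orderOf_eq_prime (by rw [pow_two, e])
      (by rintro rfl; exact hn (one_mem _))) hN)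
  set t := h * h with htd
  have htN : t ∈ N z := mul_mem hN hN
  have htC := S.mem_C_of_invol hU hle ht htN
  have htt : t * t = 1 := by rw [← pow_two, ← ht, pow_orderOf_eq_one]
  have h27 : ∀ u ∈ U, u ^ 27 = 1 := fun u hu => orderOf_dvd_iff_pow_eq_one.1
    (hU ▸ Subgroup.orderOf_dvd_natCard _ hu)
  have hfix : ∀ u ∈ U, u⁻¹ * (t * u * t⁻¹) ∈ P z → u ∈ P z := fun u hu hy => by
    refine S.mem_P_of_invol (h27 u hu) (hle hu) ht ?_
    have h1 := S.eq_one_of_sq hy (by
      have h2 := comm_of_mem htC hy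
      rw [eq_inv_iff_mul_eq_one]
      calc _ = u⁻¹ * (t * u * t⁻¹) * (t * (u⁻¹ * (t * u * t⁻¹)) * t⁻¹) := by
            rw [h2, mul_inv_cancel_right]
        _ = u⁻¹ * (t * t) * u * (t * t)⁻¹ := by group
        _ = 1 := by rw [htt]; group)
    change u * t = t * u
    rw [inv_mul_eq_one, eq_mul_inv_iff_mul_eq] at h1
    exact h1
  have hI : ∀ u ∈ U, u * (t * u * t⁻¹) ∈ P z := fun u hu => by
    have h1 := S.conj_mem_U hU hle htN hu
    refine hfix _ (mul_mem hu h1) ?_
    have h2 : t * (u * (t * u * t⁻¹)) * t⁻¹ = t * u * t⁻¹ * u := by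
      calc _ = t * u * t⁻¹ * ((t * t) * u * (t * t)⁻¹) := by group
        _ = _ := by rw [htt]; group
    rw [h2]
    exact (S.quot hU hle hu h1).1
  obtain ⟨u, hu, hP, h3⟩ : ∃ u ∈ U, u ∉ P z ∧ u ^ 3 ∈ P z := by
    obtain ⟨u, hu, hP⟩ := SetLike.not_le_iff_exists.1 fun e : U ≤ P z => by
      have := Subgroup.card_le_of_le e
      rw [hU, Nat.card_zpowers, S.orderOf_z] at this
      omega
    by_cases h3 : u ^ 3 ∈ P z
    · exact ⟨u, hu, hP, h3⟩
    · exact ⟨u ^ 3, pow_mem hu 3, h3, by rw [← pow_mul]; exact (S.quot hU hle hu hu).2⟩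
  obtain ⟨y, hy, hyu⟩ : ∃ y ∈ P z, t * u * t⁻¹ = u⁻¹ * y := ⟨_, hI u hu, by group⟩
  have hy3 : y ^ 3 = 1 := orderOf_dvd_iff_pow_eq_one.1 (by
    have := Subgroup.orderOf_dvd_natCard _ hy
    rwa [Nat.card_zpowers, S.orderOf_z] at this)
  have huy : Commute u y := comm_of_mem (hle hu) hy
  have hu3 : u ^ 3 = 1 := S.eq_one_of_sq h3 (by
    calc u ^ 3 = (t * u * t⁻¹) ^ 3 := by
          rw [conj_pow, comm_of_mem htC h3, mul_inv_cancel_right]
      _ = _ := by rw [hyu, huy.inv_left.mul_pow, hy3, mul_one, inv_pow])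
  set v := h * u * h⁻¹ with hv
  have hvU : v ∈ U := S.conj_mem_U hU hle hN hu
  have hhv : h * v * h⁻¹ = u⁻¹ * y := by rw [← hyu, hv, htd]; group
  have hc : Commute u v := by
    have h1 := (S.quot hU hle hu hvU).1
    have h2 := hinv _ h1
    have h5 := comm_of_mem (hle (mul_mem (mul_mem hu (inv_mem hvU)) (inv_mem hu))) hy
    have h6 := comm_of_mem (hle hu) h1
    have h7 := S.eq_one_of_sq h1 (by
      rw [← h2]
      calc _ = u * ((u * v)⁻¹ * (v * u)) * u⁻¹ * 1 := by rw [h6]; group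
        _ = y⁻¹ * (y * (u * v⁻¹ * u⁻¹)) * v := by group
        _ = (v * (u⁻¹ * y))⁻¹ * (u⁻¹ * y * v) := by rw [← h5]; group
        _ = ((h * u * h⁻¹) * (h * v * h⁻¹))⁻¹ * ((h * v * h⁻¹) * (h * u * h⁻¹)) := by
            rw [hhv, ← hv]
        _ = _ := by group)
    exact inv_mul_eq_one.1 h7
  obtain ⟨k, hk⟩ := CT.exists_sum_comm χ.isCharacter hc hu3 (y := v) (n := 3)
    (by rw [hv, conj_pow, hu3]; simp)
  have h0 : ∀ i j : ℕ, (i * i + j * j) % 3 ≠ 0 → (χ : G → ℂ) (u ^ i * v ^ j) = 0 := fun i j hij => by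
    have h1 : u ^ i * v ^ j ∈ U := mul_mem (pow_mem hu i) (pow_mem hvU j)
    have h2 : u ^ i * v ^ j ∉ P z := fun h5 => by
      have h6 : h * (u ^ i * v ^ j) * h⁻¹ = u⁻¹ ^ j * v ^ i * y ^ j := by
        calc _ = (h * u ^ i * h⁻¹) * (h * v ^ j * h⁻¹) := (conj_mul ..).symm
          _ = (h * u * h⁻¹) ^ i * (h * v * h⁻¹) ^ j := by simp only [conj_pow]
          _ = _ := by
            rw [hhv, ← hv, huy.inv_left.mul_pow, ← mul_assoc, (hc.inv_left.pow_pow j i).eq]
      have h7 : u⁻¹ ^ j * v ^ i ∈ P z := by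
        rw [← Subgroup.mul_mem_cancel_right _ (pow_mem hy j), ← h6, hinv _ h5]
        exact inv_mem h5
      have h8 := mul_mem (pow_mem h5 i) (inv_mem (pow_mem h7 j))
      rw [(hc.pow_pow i j).mul_pow, (hc.inv_left.pow_pow j i).mul_pow, ← pow_mul, ← pow_mul,
        ← pow_mul, ← pow_mul, mul_comm j i, mul_inv_rev, inv_pow, inv_inv, mul_assoc,
        mul_inv_cancel_left, ← pow_add, ← pow_mod_orderOf] at h8
      have h9 : orderOf u = 3 := orderOf_eq_prime hu3 (by rintro rfl; exact hP (one_mem _))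
      rw [h9] at h8
      have h10 : (i * i + j * j) % 3 = 1 ∨ (i * i + j * j) % 3 = 2 := by omega
      rcases h10 with h10 | h10 <;> rw [h10] at h8
      · exact hP (by simpa using h8)
      · exact hP (by simpa [← pow_add, pow_succ' u 3, hu3] using mul_mem h8 h8)
    rw [S.ha]
    by_contra h5
    exact h2 (S.mem_P_of (T_of_mem hU.dvd h1 (by intro e; rw [e] at h2; exact h2 (one_mem _)))
      (hle h1) (by exact_mod_cast h5))
  simp only [sum_range_succ, sum_range_zero] at hk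
  rw [h0 0 1 (by norm_num), h0 0 2 (by norm_num), h0 1 0 (by norm_num), h0 1 1 (by norm_num),
    h0 1 2 (by norm_num), h0 2 0 (by norm_num), h0 2 1 (by norm_num), h0 2 2 (by norm_num),
    pow_zero, pow_zero, mul_one, S.ha, S.toStage.a_one] at hk
  have : (6 : ℤ) = 3 * 3 * k := by
    simp only [zero_add, add_zero] at hk
    exact_mod_cast hk
  omega

end Three

/-- A simple group of order 6048 is `PSU₃(3)`. -/
theorem psu_of_card {G : Type*} [Group G] [Finite G] [IsSimpleGroup G] (hG : Nat.card G = 6048) :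
    ∃ (K : Type) (_ : Field K) (_ : Fintype K), Fintype.card K = 9 ∧
      Nonempty (G ≃* Cfsg.PSU 3 K 3) := by
  classical
  have := Fintype.ofFinite G
  obtain ⟨χ, a, S0⟩ := exists_stage hG
  obtain ⟨z, h1, h2, h3, h4, h5, h6⟩ := S0.exists_z hG
  have S : Three χ a z := ⟨S0, hG, h1, h2, h3, h4, h5, h6⟩
  obtain ⟨U, hle, hU⟩ := CT.exists_le_card_pow (C z) (k := 3) Nat.prime_three
    (by rw [h3]; norm_num)
  let o : G ⧸ N z := ((1 : G) : G ⧸ N z)
  have ho : ∀ g : G, g • o = o ↔ g ∈ N z := fun g => by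
    rw [← MulAction.mem_stabilizer_iff, MulAction.stabilizer_quotient]
  have hUo : ∀ u ∈ U, u • o = o := fun u hu => (ho u).2 (C_le_N z (hle hu))
  have : Nontrivial (G ⧸ N z) := Finite.one_lt_card_iff_nontrivial.1 (by rw [S.card_pts]; norm_num)
  obtain ⟨y, hy⟩ := exists_ne o
  have hfree : ∀ u ∈ U, u • y = y → u = 1 := fun u hu e => by
    by_contra h7
    exact hy (S.eq_of_fix (T_of_mem hU.dvd hu h7) e (hUo u hu))
  have hbij : Function.Bijective fun v : U => (⟨(v : G) • y, fun e => hy (by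
      rw [← inv_smul_smul (v : G) y, e, hUo _ (inv_mem v.2)])⟩ : ({o}ᶜ : Set (G ⧸ N z))) := by
    refine (Nat.bijective_iff_injective_and_card _).2 ⟨fun v w e => ?_, ?_⟩
    · have h7 : (v : G) • y = (w : G) • y := congrArg Subtype.val e
      exact Subtype.ext (inv_mul_eq_one.1 (hfree _ (mul_mem (inv_mem w.2) v.2)
        (by rw [mul_smul, h7, inv_smul_smul]))).symm
    · have h7 := Set.ncard_add_ncard_compl ({o} : Set (G ⧸ N z))
      rw [Set.ncard_singleton, S.card_pts] at h7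
      rw [hU, Nat.card_coe_set_eq]
      omega
  have htrans : ∀ x, x ≠ o → ∃ u ∈ U, u • y = x := fun x hx => by
    obtain ⟨v, hv⟩ := hbij.2 ⟨x, hx⟩
    exact ⟨v, v.2, congrArg Subtype.val hv⟩
  let H : Subgroup G := N z ⊓ MulAction.stabilizer G y
  have hH : Nat.card H = 8 := by
    have h7 : H ⊔ U = N z := le_antisymm (sup_le inf_le_left (hle.trans (C_le_N z))) fun g hg => by
      obtain ⟨u, hu, e⟩ := htrans (g⁻¹ • y) fun e => hy (by
        rw [← smul_inv_smul g y, e, (ho g).2 hg])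
      have h8 : g * u ∈ H := ⟨mul_mem hg (C_le_N z (hle hu)), by
        change (g * u) • y = y
        rw [mul_smul, e, smul_inv_smul]⟩
      simpa using mul_mem (Subgroup.mem_sup_left (T := U) h8) (Subgroup.mem_sup_right (inv_mem hu))
    have h8 := GT.card_sup_of_inf_eq_bot (H := H) (N := U) (fun g hg =>
      Subgroup.mem_normalizer_fintype fun u hu => S.conj_mem_U hU hle hg.1 hu)
      (eq_bot_iff.2 fun g hg => hfree g hg.2 hg.1.2)
    rw [h7, S.card_N, hU] at h8
    omega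
  have hc : IsCyclic H := by
    obtain ⟨h, hh, h7⟩ := SetLike.not_le_iff_exists.1 fun e : H ≤ C z => by
      have := Subgroup.card_dvd_of_le e
      rw [hH, h3] at this
      omega
    refine isCyclic_of_orderOf_eq_card ⟨h, hh⟩ ?_
    rw [Subgroup.orderOf_mk, hH]
    have h8 := Subgroup.orderOf_dvd_natCard _ hh
    have h9 : ¬ orderOf h ∣ 4 := fun e =>
      h7 (S.mem_C_of_four hU hle (orderOf_dvd_iff_pow_eq_one.1 e) hh.1)
    have h10 : ∀ d ∈ Nat.divisors 8, ¬ d ∣ 4 → d = 8 := by decide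
    exact h10 _ (Nat.mem_divisors.2 ⟨hH ▸ h8, by norm_num⟩) h9
  obtain ⟨g, hg⟩ := MulAction.exists_smul_eq G o y
  obtain ⟨u, hu, e⟩ := htrans (g⁻¹ • o) fun e => hy (by rw [← hg]; nth_rewrite 1 [← e]; simp)
  have : FaithfulSMul G (G ⧸ N z) := ⟨fun {a b} h => by
    have h7 : (N z).normalCore = ⊥ := (N z).normalCore_normal.eq_bot_or_eq_top.resolve_right
      fun e => by
        have h8 := S.card_N
        have h9 : N z = ⊤ := top_le_iff.1 (e ▸ (N z).normalCore_le)
        rw [h9, Subgroup.card_top, hG] at h8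
        omega
    rw [Subgroup.normalCore_eq_ker, MonoidHom.ker_eq_bot_iff] at h7
    exact h7 (Equiv.ext h)⟩
  exact ABG.UHyp.psu3 (o := o) (z := y) (U := U) (H := H) (w₀ := g * u) (p := 3) (n := 1)
    ⟨⟨hy, hUo, fun g hg u hu => S.conj_mem_U hU hle ((ho g).1 hg) hu, hfree, htrans,
      fun g => by rw [ho]; rfl, by rw [mul_smul, hUo u hu, hg],
      by rw [mul_smul, e, smul_inv_smul], fun x hx y hy =>
        congrArg Subtype.val (IsCyclic.isMulCommutative.is_comm.comm (⟨x, hx⟩ : H) ⟨y, hy⟩)⟩,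
      Nat.prime_three, by norm_num, le_rfl, hU, hc, by rw [hH]; norm_num⟩

end Cfsg.Agent.Inv.U33
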